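import Cfsg.Agent.Lib.Transfer.Frobenius
import Cfsg.Agent.Lib.Core.Residual

/-!
# Class sizes and normal complements

* `eq_top_of_forall_conj_mem`: Jordan's lemma, a finite group is not the union of the conjugates of
  a proper subgroup.
* `normal_of_forall_not_dvd_index`: if `p` divides the class size of no `p'`-element then the Sylow
  `p`-subgroup is normal and is centralized by all `p'`-elements.
* `eq_of_fixes_centralizer`: a `p'`-element `y` normalizing a `p`-group `L` and commuting with `x ∈ L`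
  with `C_L(x) ≤ C_L(y)` centralizes `L`.
* `hasNormalPComplement_of_max_class`: `S4127`.
-/

set_option autoImplicit false

namespace Cfsg.Agent.Lib.Transfer.ClassSize

open Cfsg Cfsg.Agent.Lib.Transfer.Basic Cfsg.Agent.Lib.Transfer.Frobenius
open scoped Pointwise commutatorElement

universe u

variable {G : Type u} [Group G] [Finite G]

/-- Jordan's lemma: if each element of `G` has a conjugate in `K` then `K = ⊤`. -/
theorem eq_top_of_forall_conj_mem (K : Subgroup G) (h : ∀ g : G, ∃ a : G, a * g * a⁻¹ ∈ K) :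
    K = ⊤ := by
  classical
  by_contra hK
  haveI := Fintype.ofFinite G
  haveI := Fintype.ofFinite (G ⧸ K)
  have hB := MulAction.sum_card_fixedBy_eq_card_orbits_mul_card_group G (G ⧸ K)
  haveI : MulAction.IsPretransitive G (G ⧸ K) := inferInstance
  haveI hsub : Subsingleton (MulAction.orbitRel.Quotient G (G ⧸ K)) :=
    (MulAction.pretransitive_iff_subsingleton_quotient G (G ⧸ K)).mp inferInstance
  have hO : Fintype.card (MulAction.orbitRel.Quotient G (G ⧸ K)) = 1 := by
    rw [Fintype.card_eq_one_iff]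
    exact ⟨Quotient.mk'' ((1 : G) : G ⧸ K), fun y => Subsingleton.elim _ _⟩
  rw [hO, one_mul] at hB
  have hfix : ∀ g : G, 1 ≤ Fintype.card (MulAction.fixedBy (G ⧸ K) g) := by
    intro g
    obtain ⟨a, ha⟩ := h g
    have : Nonempty (MulAction.fixedBy (G ⧸ K) g) := by
      refine ⟨⟨((a⁻¹ : G) : G ⧸ K), ?_⟩⟩
      rw [MulAction.mem_fixedBy]
      change ((g * a⁻¹ : G) : G ⧸ K) = _
      rw [QuotientGroup.eq]
      have : (g * a⁻¹)⁻¹ * a⁻¹ = (a * g * a⁻¹)⁻¹ := by group
      rw [this]
      exact K.inv_mem ha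
    exact Fintype.card_pos
  obtain ⟨b, hb⟩ : ∃ b : G, b ∉ K := by
    by_contra hcon
    push Not at hcon
    exact hK (eq_top_iff.mpr fun z _ => hcon z)
  have h1 : 1 < Fintype.card (MulAction.fixedBy (G ⧸ K) (1 : G)) := by
    rw [Fintype.one_lt_card_iff]
    refine ⟨⟨((1 : G) : G ⧸ K), by simp⟩, ⟨((b : G) : G ⧸ K), by simp⟩, ?_⟩
    intro heq
    have h2 : ((1 : G) : G ⧸ K) = (b : G ⧸ K) := congrArg Subtype.val heq
    rw [QuotientGroup.eq] at h2
    apply hb
    simpa using h2
  have h2 : ∑ g : G, 1 < ∑ g : G, Fintype.card (MulAction.fixedBy (G ⧸ K) g) :=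
    Finset.sum_lt_sum (fun g _ => hfix g) ⟨1, Finset.mem_univ _, h1⟩
  rw [hB] at h2
  simp at h2

/-- The index of a centralizer in a subgroup of index prime to `p`: key step. -/
theorem exists_sylow_of_not_dvd_index (p : ℕ) [hp : Fact p.Prime] {y u : G}
    (hy : ¬ p ∣ (Subgroup.centralizer ({y} : Set G)).index) (huy : Commute u y) (hu : ∃ k : ℕ, u ^ p ^ k = 1) :
    ∃ Q : Sylow p G, u ∈ (Q : Subgroup G) ∧ ∀ z ∈ (Q : Subgroup G), y * z = z * y := by
  set D : Subgroup G := Subgroup.centralizer ({y} : Set G) with hD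
  have huD : u ∈ D := Subgroup.mem_centralizer_iff.mpr (fun w hw => by
    rw [Set.mem_singleton_iff.mp hw]; exact huy.symm)
  let v : D := ⟨u, huD⟩
  have hv : IsPGroup p (Subgroup.zpowers v) := by
    obtain ⟨k, hk⟩ := hu
    have hkv : v ^ p ^ k = 1 := Subtype.ext hk
    apply IsPGroup.of_card (n := (orderOf v).factorization p)
    rw [Nat.card_zpowers]
    have h1 : orderOf v ∣ p ^ k := orderOf_dvd_of_pow_eq_one hkv
    obtain ⟨j, -, hj⟩ := (Nat.dvd_prime_pow hp.out).mp h1
    rw [hj, hp.out.factorization_pow]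
    simp
  obtain ⟨Q₀, hQ₀⟩ := hv.exists_le_sylow
  have hQp : IsPGroup p ((Q₀ : Subgroup D).map D.subtype) :=
    Q₀.isPGroup'.map D.subtype
  have hQi : ¬ p ∣ ((Q₀ : Subgroup D).map D.subtype).index := by
    rw [Subgroup.index_map_subtype, hp.out.dvd_mul]
    push Not
    exact ⟨Q₀.not_dvd_index, hy⟩
  refine ⟨hQp.toSylow hQi, ?_, ?_⟩
  · exact ⟨v, hQ₀ (Subgroup.mem_zpowers v), rfl⟩
  · rintro z ⟨⟨w, hw⟩, -, rfl⟩
    exact Subgroup.mem_centralizer_iff.mp hw y rfl

/-- If `p` divides the class size of no `p'`-element, then the Sylow `p`-subgroup is normal and it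
is centralized by each `p'`-element. -/
theorem normal_of_forall_not_dvd_index (p : ℕ) [hp : Fact p.Prime]
    (h : ∀ y : G, (orderOf y).Coprime p → ¬ p ∣ (Subgroup.centralizer ({y} : Set G)).index)
    (P : Sylow p G) : (P : Subgroup G).Normal ∧
      ∀ y : G, (orderOf y).Coprime p → ∀ z ∈ (P : Subgroup G), y * z = z * y := by
  have hN : Subgroup.normalizer ((P : Subgroup G) : Set G) = ⊤ := by
    apply eq_top_of_forall_conj_mem
    intro g
    obtain ⟨u, y, huy, hc, hu, hy, -, -⟩ :=
      Cfsg.Agent.Lib.Core.Residual.exists_pPart_pPrimePart p g (isOfFinOrder_of_finite g)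
    obtain ⟨Q, huQ, hyQ⟩ := exists_sylow_of_not_dvd_index p (h y hy) hc hu
    obtain ⟨a, ha⟩ := MulAction.exists_smul_eq G Q P
    refine ⟨a, ?_⟩
    have h1 : a * u * a⁻¹ ∈ (P : Subgroup G) := by
      rw [← ha]
      exact Subgroup.mem_map_of_mem _ huQ
    have h2 : ∀ z ∈ (P : Subgroup G), (a * y * a⁻¹) * z = z * (a * y * a⁻¹) := by
      intro z hz
      rw [← ha] at hz
      obtain ⟨w, hw, rfl⟩ := hz
      have h3 := hyQ w hw
      change a * y * a⁻¹ * (a * w * a⁻¹) = a * w * a⁻¹ * (a * y * a⁻¹)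
      calc a * y * a⁻¹ * (a * w * a⁻¹) = a * (y * w) * a⁻¹ := by group
        _ = a * (w * y) * a⁻¹ := by rw [h3]
        _ = _ := by group
    have h3 : a * g * a⁻¹ = (a * u * a⁻¹) * (a * y * a⁻¹) := by
      rw [← huy]; group
    rw [h3]
    refine Subgroup.mul_mem _ ?_ ?_
    · exact Subgroup.le_normalizer h1
    · apply Subgroup.centralizer_le_normalizer
      rw [Subgroup.mem_centralizer_iff]
      intro z hz
      exact (h2 z hz).symm
  have hPn : (P : Subgroup G).Normal := Subgroup.normalizer_eq_top_iff.mp hN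
  refine ⟨hPn, ?_⟩
  intro y hy z hz
  obtain ⟨Q, -, hyQ⟩ := exists_sylow_of_not_dvd_index p (h y hy) (Commute.one_left y) ⟨0, by simp⟩
  have hQ : Q = P := by
    letI := Sylow.unique_of_normal P hPn
    exact Subsingleton.elim _ _
  rw [hQ] at hyQ
  exact hyQ z hz

/-- A group in which `p` divides the class size of no `p'`-element has a normal `p`-complement. -/
theorem hasNormalPComplement_of_forall_not_dvd_index (p : ℕ) [hp : Fact p.Prime]
    (h : ∀ y : G, (orderOf y).Coprime p → ¬ p ∣ (Subgroup.centralizer ({y} : Set G)).index) :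
    HasNormalPComplement p G := by
  obtain ⟨P⟩ : Nonempty (Sylow p G) := inferInstance
  obtain ⟨hPn, hc⟩ := normal_of_forall_not_dvd_index p h P
  have hcop : Nat.Coprime (Nat.card (P : Subgroup G)) (P : Subgroup G).index := by
    obtain ⟨n, hn⟩ := IsPGroup.iff_card.mp P.isPGroup'
    rw [hn]
    exact Nat.Coprime.pow_left n ((Nat.Prime.coprime_iff_not_dvd hp.out).mpr P.not_dvd_index)
  obtain ⟨N, hN⟩ := Subgroup.exists_right_complement'_of_coprime hcop
  have hNcard : ∀ z ∈ N, (orderOf z).Coprime p := by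
    intro z hz
    have h1 : orderOf z ∣ Nat.card N := by
      have := orderOf_dvd_natCard (⟨z, hz⟩ : N)
      rwa [Subgroup.orderOf_mk] at this
    have h2 : Nat.card N = (P : Subgroup G).index := by
      have h3 := hN.card_mul_card
      have h4 := Subgroup.card_mul_index (P : Subgroup G)
      exact Nat.eq_of_mul_eq_mul_left Nat.card_pos (h3.trans h4.symm)
    rw [h2] at h1
    exact Nat.Coprime.coprime_dvd_left h1 ((Nat.Prime.coprime_iff_not_dvd hp.out).mpr
      P.not_dvd_index).symm
  have hNn : N.Normal := by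
    apply Subgroup.normalizer_eq_top_iff.mp
    have h1 := hN.sup_eq_top
    rw [eq_top_iff, ← h1, sup_le_iff]
    constructor
    · intro z hz
      apply Subgroup.centralizer_le_normalizer
      rw [Subgroup.mem_centralizer_iff]
      intro w hw
      exact (hc w (hNcard w hw) z hz)
    · exact Subgroup.le_normalizer
  exact ⟨P, N, hNn, hN.symm⟩

/-- A `p'`-element `y` normalizing a `p`-group `L`, commuting with `x ∈ L` and with all elements of
`C_L(x)`, centralizes `L`. -/
theorem commute_of_commute_centralizer {p : ℕ} [hp : Fact p.Prime] {L : Subgroup G} (hL : IsPGroup p L)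
    {x y : G} (hx : x ∈ L) (hyL : y ∈ Subgroup.normalizer (L : Set G)) (hxy : y * x = x * y)
    (hy : (orderOf y).Coprime p)
    (hC : ∀ w ∈ L, w * x = x * w → y * w = w * y) :
    ∀ w ∈ L, y * w = w * y := by
  by_contra hcon
  push Not at hcon
  obtain ⟨w₀, hw₀, hw₀y⟩ := hcon
  haveI : Group.IsNilpotent L := hL.isNilpotent
  let S : Subgroup L := (Subgroup.centralizer ({y} : Set G)).subgroupOf L
  have hmemS : ∀ t : L, t ∈ S ↔ y * t = t * y := by
    intro t
    rw [Subgroup.mem_subgroupOf, Subgroup.mem_centralizer_iff]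
    constructor
    · intro h
      exact h y rfl
    · intro h w hw
      rw [Set.mem_singleton_iff.mp hw]
      exact h
  have hSlt : S < ⊤ := by
    rw [lt_top_iff_ne_top]
    intro h
    apply hw₀y
    exact (hmemS ⟨w₀, hw₀⟩).mp (h ▸ Subgroup.mem_top _)
  have hlt := Group.normalizerCondition_of_isNilpotent S hSlt
  obtain ⟨t, htN, htS⟩ := SetLike.exists_of_lt hlt
  apply htS
  rw [hmemS]
  have hxS : (⟨x, hx⟩ : L) ∈ S := (hmemS _).mpr hxy
  have h1 : t * ⟨x, hx⟩ * t⁻¹ ∈ S := (Frobenius.mem_normalizer_iff'.mp htN _).mp hxS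
  have h2 : y * ((t : G) * x * (t : G)⁻¹) = ((t : G) * x * (t : G)⁻¹) * y := (hmemS _).mp h1
  set t' : G := y * t * y⁻¹ with ht'
  have ht'L : t' ∈ L := (Frobenius.mem_normalizer_iff'.mp hyL _).mp t.2
  have h3 : t' * x * t'⁻¹ = (t : G) * x * (t : G)⁻¹ := by
    have h4 : y⁻¹ * x * y = x := by
      rw [mul_assoc, inv_mul_eq_iff_eq_mul, hxy]
    calc t' * x * t'⁻¹ = y * ((t : G) * (y⁻¹ * x * y) * (t : G)⁻¹) * y⁻¹ := by rw [ht']; group
      _ = y * ((t : G) * x * (t : G)⁻¹) * y⁻¹ := by rw [h4]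
      _ = ((t : G) * x * (t : G)⁻¹) * y * y⁻¹ := by rw [h2]
      _ = _ := by group
  obtain ⟨s, hs⟩ : ∃ s : G, s = (t : G)⁻¹ * t' := ⟨_, rfl⟩
  have hsL : s ∈ L := hs ▸ L.mul_mem (L.inv_mem t.2) ht'L
  have hsx : s * x = x * s := by
    have h5 : t' = (t : G) * s := by rw [hs]; group
    rw [h5] at h3
    have h6 : (t : G) * s * x * s⁻¹ * (t : G)⁻¹ = (t : G) * x * (t : G)⁻¹ := by
      rw [← h3]; group
    have h7 : s * x * s⁻¹ = x := by
      have h8 : (t : G) * (s * x * s⁻¹) * (t : G)⁻¹ = (t : G) * x * (t : G)⁻¹ := by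
        rw [← h6]; group
      exact mul_left_cancel (mul_right_cancel h8)
    calc s * x = s * x * s⁻¹ * s := by group
      _ = x * s := by rw [h7]
  have hsy : y * s = s * y := hC s hsL hsx
  have hts : y * t * y⁻¹ = (t : G) * s := by
    rw [hs, ← ht']; group
  have hpow : ∀ n : ℕ, y ^ n * t * (y ^ n)⁻¹ = (t : G) * s ^ n := by
    intro n
    induction n with
    | zero => simp
    | succ n ih =>
      have h9 : y * s ^ n * y⁻¹ = s ^ n := by
        have : Commute y (s ^ n) := Commute.pow_right hsy n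
        rw [this.eq]; group
      calc y ^ (n + 1) * t * (y ^ (n + 1))⁻¹ = y * (y ^ n * t * (y ^ n)⁻¹) * y⁻¹ := by
            rw [pow_succ']; group
        _ = y * ((t : G) * s ^ n) * y⁻¹ := by rw [ih]
        _ = (y * t * y⁻¹) * (y * s ^ n * y⁻¹) := by group
        _ = (t : G) * s * s ^ n := by rw [hts, h9]
        _ = _ := by rw [pow_succ', mul_assoc]
  have h10 := hpow (orderOf y)
  rw [pow_orderOf_eq_one] at h10
  simp only [one_mul, inv_one, mul_one] at h10
  have h11 : s ^ orderOf y = 1 := by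
    exact (mul_eq_left.mp h10.symm)
  have h12 : s = 1 := by
    apply eq_one_of_coprime_of_mem_isPGroup hL hsL
    exact Nat.Coprime.coprime_dvd_left (orderOf_dvd_of_pow_eq_one h11) hy
  rw [h12, mul_one] at hts
  calc y * t = y * t * y⁻¹ * y := by group
    _ = t * y := by rw [hts]

omit [Finite G] in
/-- Commuting elements of coprime orders: each is a power of the product. -/
theorem mem_zpowers_mul_of_coprime {x y : G} (hc : Commute x y)
    (h : (orderOf x).Coprime (orderOf y)) : x ∈ Subgroup.zpowers (x * y) := by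
  have hbez : ((orderOf x : ℕ) : ℤ) * Nat.gcdA (orderOf x) (orderOf y) +
      ((orderOf y : ℕ) : ℤ) * Nat.gcdB (orderOf x) (orderOf y) = 1 := by
    have := Nat.gcd_eq_gcd_ab (orderOf x) (orderOf y)
    rw [h.gcd_eq_one] at this
    simpa using this.symm
  set u := Nat.gcdA (orderOf x) (orderOf y)
  set v := Nat.gcdB (orderOf x) (orderOf y)
  refine Subgroup.mem_zpowers_iff.mpr ⟨(orderOf y : ℤ) * v, ?_⟩
  rw [hc.mul_zpow]
  have h1 : y ^ ((orderOf y : ℤ) * v) = 1 := by
    rw [zpow_mul, zpow_natCast, pow_orderOf_eq_one, one_zpow]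
  have h2 : x ^ ((orderOf y : ℤ) * v) = x := by
    have h3 : (orderOf y : ℤ) * v = 1 - (orderOf x : ℤ) * u := by linarith
    rw [h3, zpow_sub, zpow_one, zpow_mul, zpow_natCast, pow_orderOf_eq_one, one_zpow, inv_one,
      mul_one]
  rw [h1, h2, mul_one]

omit [Finite G] in
theorem centralizer_mul_of_coprime {x y : G} (hc : Commute x y)
    (h : (orderOf x).Coprime (orderOf y)) :
    Subgroup.centralizer ({x * y} : Set G) =
      Subgroup.centralizer ({x} : Set G) ⊓ Subgroup.centralizer ({y} : Set G) := by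
  have hx := mem_zpowers_mul_of_coprime hc h
  have hy := mem_zpowers_mul_of_coprime hc.symm h.symm
  rw [hc.symm.eq] at hy
  ext z
  simp only [Subgroup.mem_inf, Subgroup.mem_centralizer_iff, Set.mem_singleton_iff, forall_eq]
  constructor
  · intro hz
    have hz' : Commute z (x * y) := (show z * (x * y) = (x * y) * z from hz.symm)
    have key : ∀ w ∈ Subgroup.zpowers (x * y), Commute z w := by
      intro w hw
      obtain ⟨n, rfl⟩ := Subgroup.mem_zpowers_iff.mp hw
      exact hz'.zpow_right n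
    exact ⟨(key x hx).symm, (key y hy).symm⟩
  · rintro ⟨h1, h2⟩
    calc x * y * z = x * (y * z) := by group
      _ = x * (z * y) := by rw [h2]
      _ = (x * z) * y := by group
      _ = (z * x) * y := by rw [h1]
      _ = z * (x * y) := by group

/-- `S4127`. -/
theorem hasNormalPComplement_of_max_class (p : ℕ) [hp : Fact p.Prime] (a : ℕ)
    (hmax : ∀ y : G, ¬ p ^ (a + 1) ∣ (Subgroup.centralizer ({y} : Set G)).index)
    (x : G) (k : ℕ) (hk : orderOf x = p ^ k)
    (hx : (Subgroup.centralizer ({x} : Set G)).index = p ^ a) :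
    HasNormalPComplement p G := by
  classical
  set C : Subgroup G := Subgroup.centralizer ({x} : Set G) with hC
  have hmemC : ∀ z, z ∈ C ↔ z * x = x * z := by
    intro z
    rw [hC, Subgroup.mem_centralizer_iff]
    constructor
    · intro h
      exact (h x rfl).symm
    · intro h w hw
      rw [Set.mem_singleton_iff.mp hw]
      exact h.symm
  have h1 : ∀ y : C, (orderOf y).Coprime p →
      ¬ p ∣ (Subgroup.centralizer ({y} : Set C)).index := by
    intro y hy hd
    apply hmax (x * y)
    have hy' : (orderOf (y : G)).Coprime p := by rwa [Subgroup.orderOf_coe]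
    have hcomm : Commute x (y : G) := ((hmemC y).mp y.2).symm
    have hcop : (orderOf x).Coprime (orderOf (y : G)) := by
      rw [hk]
      exact Nat.Coprime.pow_left k hy'.symm
    have h2 := centralizer_mul_of_coprime hcomm hcop
    have h3 : Subgroup.centralizer ({y} : Set C) =
        (Subgroup.centralizer ({(y : G)} : Set G)).subgroupOf C := by
      ext z
      rw [Subgroup.mem_subgroupOf, Subgroup.mem_centralizer_iff, Subgroup.mem_centralizer_iff]
      simp only [Set.mem_singleton_iff, forall_eq]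
      constructor
      · intro h
        exact congrArg Subtype.val h
      · intro h
        exact Subtype.ext h
    have h4 : (Subgroup.centralizer ({x * (y : G)} : Set G)).index =
        (Subgroup.centralizer ({(y : G)} : Set G)).relIndex C * C.index := by
      rw [h2, ← Subgroup.inf_relIndex_left, inf_comm, ← Subgroup.relIndex_mul_index inf_le_right]
    rw [h4, hx, pow_succ', mul_comm p, mul_comm _ (p ^ a)]
    refine Nat.mul_dvd_mul_left _ ?_
    rw [h3] at hd
    exact hd
  have hN : HasNormalPComplement p C := hasNormalPComplement_of_forall_not_dvd_index p h1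
  obtain ⟨P₀⟩ : Nonempty (Sylow p C) := inferInstance
  obtain ⟨hP₀n, hP₀c⟩ := normal_of_forall_not_dvd_index p h1 P₀
  have h2 : ∀ y ∈ C, (orderOf y).Coprime p → ∀ w ∈ C, (∃ j : ℕ, w ^ p ^ j = 1) → y * w = w * y := by
    intro y hy hyc w hw ⟨j, hj⟩
    letI := Sylow.unique_of_normal P₀ hP₀n
    have hv : IsPGroup p (Subgroup.zpowers (⟨w, hw⟩ : C)) := by
      have hkv : (⟨w, hw⟩ : C) ^ p ^ j = 1 := Subtype.ext hj
      apply IsPGroup.of_card (n := (orderOf (⟨w, hw⟩ : C)).factorization p)
      rw [Nat.card_zpowers]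
      obtain ⟨i, -, hi⟩ := (Nat.dvd_prime_pow hp.out).mp (orderOf_dvd_of_pow_eq_one hkv)
      rw [hi, hp.out.factorization_pow]
      simp
    obtain ⟨Q, hQ⟩ := hv.exists_le_sylow
    have hQP : Q = P₀ := Subsingleton.elim _ _
    rw [hQP] at hQ
    have h3 := hP₀c ⟨y, hy⟩ (by rwa [Subgroup.orderOf_mk]) ⟨w, hw⟩ (hQ (Subgroup.mem_zpowers _))
    exact congrArg Subtype.val h3
  let H : Subgroup G := (pResidual p C).map C.subtype
  have hHmem : ∀ y, y ∈ H ↔ y ∈ C ∧ (orderOf y).Coprime p := by
    intro y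
    constructor
    · rintro ⟨z, hz, rfl⟩
      refine ⟨z.2, ?_⟩
      have h3 := (mem_pResidual_iff_of_hasNormalPComplement hN z).mp hz
      rwa [← Subgroup.orderOf_coe] at h3
    · rintro ⟨hy, hyc⟩
      refine ⟨⟨y, hy⟩, ?_, rfl⟩
      refine (mem_pResidual_iff_of_hasNormalPComplement hN _).mpr ?_
      rw [Subgroup.orderOf_mk]
      exact hyc
  have hHp : Nat.Coprime (Nat.card H) p := by
    have h3 : Nat.card H = Nat.card (pResidual p C) :=
      Subgroup.card_map_of_injective C.subtype_injective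
    rw [h3]
    exact coprime_card_of_isComplement' (isComplement'_pResidual hN P₀)
  obtain ⟨m, hm⟩ : ∃ m : ℕ, H.index = p ^ m := by
    obtain ⟨n, hn⟩ := IsPGroup.iff_card.mp (isPGroup_quotient_pResidual (p := p) (G := C))
    refine ⟨n + a, ?_⟩
    have h3 : H.index = (pResidual p C).index * C.index := Subgroup.index_map_subtype _
    rw [h3, hx, pow_add, Subgroup.index, hn]
  -- a Sylow subgroup containing `x`
  have hxp : IsPGroup p (Subgroup.zpowers x) :=
    IsPGroup.of_card (n := k) (by rw [Nat.card_zpowers, hk])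
  obtain ⟨P, hP⟩ := hxp.exists_le_sylow
  have hxP : x ∈ (P : Subgroup G) := hP (Subgroup.mem_zpowers x)
  have hPcard : Nat.card (P : Subgroup G) = p ^ m := by
    obtain ⟨n, hn⟩ := IsPGroup.iff_card.mp P.isPGroup'
    have h3 := Subgroup.card_mul_index (P : Subgroup G)
    have h4 := Subgroup.card_mul_index H
    have h5 : Nat.card (P : Subgroup G) * (P : Subgroup G).index = p ^ m * Nat.card H := by
      rw [h3, ← h4, hm, mul_comm]
    have h6 : Nat.Coprime (P : Subgroup G).index p :=
      ((Nat.Prime.coprime_iff_not_dvd hp.out).mpr P.not_dvd_index).symm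
    apply Nat.dvd_antisymm
    · have h7 : Nat.card (P : Subgroup G) ∣ p ^ m * Nat.card H := h5 ▸ Dvd.intro _ rfl
      rw [hn] at h7 ⊢
      exact (Nat.Coprime.pow_left n hHp.symm).dvd_of_dvd_mul_right h7
    · have h7 : p ^ m ∣ Nat.card (P : Subgroup G) * (P : Subgroup G).index := h5 ▸ Dvd.intro _ rfl
      exact (Nat.Coprime.pow_right m h6).symm.dvd_of_dvd_mul_right h7
  have hcompl : H.IsComplement' (P : Subgroup G) := by
    apply Subgroup.isComplement'_of_coprime
    · rw [hPcard, ← hm, mul_comm, ← Subgroup.index_mul_card H] 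
    · rw [hPcard]
      exact Nat.Coprime.pow_right m hHp
  have hconj : ∀ g : G, g * x * g⁻¹ ∈ (P : Subgroup G) := by
    intro g
    obtain ⟨⟨u, v⟩, huv⟩ := (Subgroup.isComplement'_def.mp hcompl).2 g⁻¹
    have h3 : g = (v : G)⁻¹ * (u : G)⁻¹ := by
      have h4 : (u : G) * v = g⁻¹ := huv
      rw [← inv_inj, ← h4]
      group
    have h5 : (u : G) * x = x * u := (hmemC u).mp ((hHmem u).mp u.2).1
    have h6 : (u : G)⁻¹ * x * u = x := by
      rw [mul_assoc, ← h5]
      group
    have h7 : g * x * g⁻¹ = (v : G)⁻¹ * x * v := by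
      rw [h3]
      calc (v : G)⁻¹ * (u : G)⁻¹ * x * ((v : G)⁻¹ * (u : G)⁻¹)⁻¹
          = (v : G)⁻¹ * ((u : G)⁻¹ * x * u) * v := by group
        _ = _ := by rw [h6]
    rw [h7]
    exact (P : Subgroup G).mul_mem ((P : Subgroup G).mul_mem ((P : Subgroup G).inv_mem v.2) hxP) v.2
  let L : Subgroup G := Subgroup.normalClosure ({x} : Set G)
  have hLP : L ≤ (P : Subgroup G) := by
    refine (Subgroup.closure_le _).mpr ?_
    intro z hz
    rw [Group.mem_conjugatesOfSet_iff] at hz
    obtain ⟨b, hb, hbz⟩ := hz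
    rw [Set.mem_singleton_iff.mp hb] at hbz
    obtain ⟨c, hc⟩ := isConj_iff.mp hbz
    rw [← hc]
    exact hconj c
  have hLp : IsPGroup p L := P.isPGroup'.to_le hLP
  have hxL : x ∈ L := Subgroup.subset_normalClosure (Set.mem_singleton x)
  have hHL : ∀ y ∈ H, ∀ w ∈ L, y * w = w * y := by
    intro y hy
    obtain ⟨hyC, hyc⟩ := (hHmem y).mp hy
    apply commute_of_commute_centralizer hLp hxL ?_ ((hmemC y).mp hyC) hyc
    · intro w hw hwx
      refine h2 y hyC hyc w ((hmemC w).mpr hwx) ?_
      obtain ⟨j, hj⟩ := hLp ⟨w, hw⟩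
      exact ⟨j, congrArg Subtype.val hj⟩
    · have hLn : L.Normal := Subgroup.normalClosure_normal
      rw [Subgroup.normalizer_eq_top_iff.mpr hLn]
      exact Subgroup.mem_top _
  have hHn : H.Normal := by
    refine ⟨fun y hy g => ?_⟩
    rw [hHmem]
    obtain ⟨hyC, hyc⟩ := (hHmem y).mp hy
    refine ⟨?_, coprime_orderOf_conj y g hyc⟩
    rw [hmemC]
    have hLn : L.Normal := Subgroup.normalClosure_normal
    have h3 := hHL y hy (g⁻¹ * x * g) (by
      simpa using hLn.conj_mem x hxL g⁻¹)
    calc g * y * g⁻¹ * x = g * (y * (g⁻¹ * x * g)) * g⁻¹ := by group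
      _ = g * ((g⁻¹ * x * g) * y) * g⁻¹ := by rw [h3]
      _ = _ := by group
  exact ⟨P, H, hHn, hcompl⟩

end Cfsg.Agent.Lib.Transfer.ClassSize
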