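import Cfsg.Agent.Lib.Transfer.Cor3

/-!
# Further normal `p`-complement criteria, part 2

* `S3838`: if `N_G(P)` is `p`-nilpotent then so is `N_G(Q)` for `P' ≤ Q ≤ Φ(P)`.
-/

set_option autoImplicit false

namespace Cfsg.Agent.Lib.Transfer.Cor4

open Cfsg Cfsg.Agent.Lib.Transfer.Basic Cfsg.Agent.Lib.Transfer.Frobenius
  Cfsg.Agent.Lib.Transfer.Focal Cfsg.Agent.Lib.Transfer.Tate Cfsg.Agent.Lib.Transfer.Cor
  Cfsg.Agent.Lib.Transfer.Cor3
open scoped Pointwise commutatorElement IsMulCommutative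

universe u v

/-- The Frattini subgroup is preserved by isomorphisms. -/
theorem map_frattini_map {X : Type u} {Y : Type v} [Group X] [Group Y] (φ : X →* Y)
    (hφ : Function.Injective φ) (A : Subgroup X) (B : Subgroup Y) (hB : A.map φ = B) :
    (frattini B).map B.subtype = ((frattini A).map A.subtype).map φ := by
  subst hB
  let e : A ≃* A.map φ := A.equivMapOfInjective φ hφ
  have h1 : (frattini A).map e.toMonoidHom = frattini (A.map φ) :=
    OrderIso.map_radical e.mapSubgroup
  rw [← h1, Subgroup.map_map, Subgroup.map_map]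
  rfl

variable {G : Type u} [Group G] [Finite G] {p : ℕ} [hp : Fact p.Prime]

omit hp in
/-- In a finite group, an element conjugating a subgroup into itself normalizes it. -/
theorem mem_normalizer_of_conj_mem {K : Subgroup G} {x : G} (h : ∀ t ∈ K, x * t * x⁻¹ ∈ K) :
    x ∈ Subgroup.normalizer (K : Set G) := by
  have hle : K.map (MulAut.conj x).toMonoidHom ≤ K := by
    rintro _ ⟨t, ht, rfl⟩
    exact h t ht
  have hcard : Nat.card (K.map (MulAut.conj x).toMonoidHom) = Nat.card K :=
    Subgroup.card_map_of_injective (MulAut.conj x).injective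
  have heq : K.map (MulAut.conj x).toMonoidHom = K :=
    Subgroup.eq_of_le_of_card_ge hle hcard.ge
  refine mem_normalizer_iff'.mpr ?_
  intro t
  refine ⟨h t, fun ht => ?_⟩
  rw [← heq] at ht
  obtain ⟨s, hs, hst⟩ := ht
  have h1 : x * s * x⁻¹ = x * t * x⁻¹ := hst
  have h2 : s = t := by simpa using h1
  exact h2 ▸ hs

/-- `S3838`. -/
theorem hasNormalPComplement_normalizer_of_between (P : Sylow p G)
    (hN : HasNormalPComplement p (Subgroup.normalizer ((P : Subgroup G) : Set G))) (Q : Subgroup G)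
    (h1 : (commutator (P : Subgroup G)).map (P : Subgroup G).subtype ≤ Q)
    (h2 : Q ≤ (frattini (P : Subgroup G)).map (P : Subgroup G).subtype) :
    HasNormalPComplement p (Subgroup.normalizer (Q : Set G)) := by
  have hQP : Q ≤ (P : Subgroup G) := h2.trans (Subgroup.map_subtype_le _)
  have hcomm : ∀ s ∈ (P : Subgroup G), ∀ t ∈ (P : Subgroup G), s * t * s⁻¹ * t⁻¹ ∈ Q := by
    intro s hs t ht
    apply h1
    refine ⟨⁅(⟨s, hs⟩ : (P : Subgroup G)), ⟨t, ht⟩⁆,
      Subgroup.commutator_mem_commutator (Subgroup.mem_top _) (Subgroup.mem_top _), ?_⟩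
    simp [commutatorElement_def]
  set M : Subgroup G := Subgroup.normalizer (Q : Set G) with hM
  have hPM : (P : Subgroup G) ≤ M := by
    intro s hs
    apply mem_normalizer_of_conj_mem
    intro x hx
    have h3 := hcomm s hs x (hQP hx)
    have h4 : s * x * s⁻¹ = (s * x * s⁻¹ * x⁻¹) * x := by group
    rw [h4]
    exact Q.mul_mem h3 hx
  let P₁ : Sylow p M := P.subtype hPM
  have hP₁ : (P₁ : Subgroup M) = (P : Subgroup G).subgroupOf M := P.coe_subtype hPM
  have hmem : ∀ x : M, x ∈ (P₁ : Subgroup M) ↔ (x : G) ∈ (P : Subgroup G) := by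
    intro x
    rw [hP₁]
    exact Subgroup.mem_subgroupOf
  have hP₁map : (P₁ : Subgroup M).map M.subtype = (P : Subgroup G) := by
    rw [hP₁]
    exact Subgroup.map_subgroupOf_eq_of_le hPM
  let Q₁ : Subgroup M := Q.subgroupOf M
  haveI hQ₁ : Q₁.Normal := Subgroup.normal_in_normalizer
  let π : M →* M ⧸ Q₁ := QuotientGroup.mk' Q₁
  have hπ : Function.Surjective π := QuotientGroup.mk'_surjective Q₁
  have hker : ∀ x : M, π x = 1 ↔ (x : G) ∈ Q := by
    intro x
    exact (QuotientGroup.eq_one_iff x).trans Subgroup.mem_subgroupOf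
  let Pb : Sylow p (M ⧸ Q₁) := P₁.mapSurjective hπ
  have hPb : ∀ z, z ∈ (Pb : Subgroup (M ⧸ Q₁)) ↔ ∃ t : M, (t : G) ∈ (P : Subgroup G) ∧ π t = z := by
    intro z
    have h3 : (Pb : Subgroup (M ⧸ Q₁)) = (P₁ : Subgroup M).map π := Sylow.coe_mapSurjective hπ P₁
    rw [h3]
    constructor
    · rintro ⟨t, ht, rfl⟩
      exact ⟨t, (hmem t).mp ht, rfl⟩
    · rintro ⟨t, ht, rfl⟩
      exact ⟨t, (hmem t).mpr ht, rfl⟩
  -- the normal complement in `N_G(P)`
  set N : Subgroup G := Subgroup.normalizer ((P : Subgroup G) : Set G) with hNdef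
  have hPN : (P : Subgroup G) ≤ N := Subgroup.le_normalizer
  let P₂ : Sylow p N := P.subtype hPN
  have hc₂ := isComplement'_pResidual hN P₂
  have hmem₂ : ∀ x : N, x ∈ (P₂ : Subgroup N) ↔ (x : G) ∈ (P : Subgroup G) := by
    intro x
    rw [show (P₂ : Subgroup N) = (P : Subgroup G).subgroupOf N from P.coe_subtype hPN]
    exact Subgroup.mem_subgroupOf
  -- elements of the normalizer act on `P/Q` trivially
  have hact : ∀ x : G, x ∈ N → ∀ t ∈ (P : Subgroup G), x * t * x⁻¹ * t⁻¹ ∈ Q := by
    intro x hx t ht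
    have hx' : (⟨x, hx⟩ : N) ∈ pResidual p N ⊔ (P₂ : Subgroup N) := by
      rw [hc₂.sup_eq_top]; exact Subgroup.mem_top _
    obtain ⟨l, hl, u, hu, hlu⟩ := Subgroup.mem_sup_of_normal_left.mp hx'
    have hxlu : x = (l : G) * (u : G) := (congrArg Subtype.val hlu).symm
    have huP : (u : G) ∈ (P : Subgroup G) := (hmem₂ u).mp hu
    set v : G := (u : G) * t * (u : G)⁻¹ with hv
    have hvP : v ∈ (P : Subgroup G) :=
      (P : Subgroup G).mul_mem ((P : Subgroup G).mul_mem huP ht) ((P : Subgroup G).inv_mem huP)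
    -- `l` commutes with `v`
    have hlv : (l : G) * v * (l : G)⁻¹ * v⁻¹ = 1 := by
      have hvN : v ∈ N := hPN hvP
      have h3 : l * (⟨v, hvN⟩ : N) * l⁻¹ * (⟨v, hvN⟩ : N)⁻¹ ∈ pResidual p N := by
        have h4 : (⟨v, hvN⟩ : N) * l⁻¹ * (⟨v, hvN⟩ : N)⁻¹ ∈ pResidual p N :=
          (inferInstance : (pResidual p N).Normal).conj_mem _ (Subgroup.inv_mem _ hl) _
        have h5 := Subgroup.mul_mem _ hl h4
        simpa [mul_assoc] using h5
      have h6 : l * (⟨v, hvN⟩ : N) * l⁻¹ * (⟨v, hvN⟩ : N)⁻¹ ∈ (P₂ : Subgroup N) := by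
        rw [hmem₂]
        have h7 : (l : G) * v * (l : G)⁻¹ ∈ (P : Subgroup G) :=
          (mem_normalizer_iff'.mp l.2 v).mp hvP
        exact (P : Subgroup G).mul_mem h7 ((P : Subgroup G).inv_mem hvP)
      have h8 := Subgroup.disjoint_def.mp hc₂.disjoint h3 h6
      exact congrArg Subtype.val h8
    have h9 : x * t * x⁻¹ = v := by
      have h10 : (l : G) * v * (l : G)⁻¹ = v := by
        have := mul_eq_one_iff_eq_inv.mp hlv
        rwa [inv_inv] at this
      rw [hxlu, ← h10, hv]
      group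
    rw [h9, hv]
    exact hcomm _ huP t ht
  -- Burnside in the quotient
  have hB : HasNormalPComplement p (M ⧸ Q₁) := by
    refine ⟨Pb, _, inferInstance, MonoidHom.ker_transferSylow_isComplement' Pb ?_⟩
    intro z hz
    obtain ⟨x, rfl⟩ := hπ z
    have hxN : (x : G) ∈ N := by
      apply mem_normalizer_of_conj_mem
      intro t ht
      have h3 : π ⟨t, hPM ht⟩ ∈ (Pb : Subgroup (M ⧸ Q₁)) := (hPb _).mpr ⟨⟨t, hPM ht⟩, ht, rfl⟩
      have h4 := (mem_normalizer_iff'.mp hz _).mp h3
      obtain ⟨t', ht', ht'e⟩ := (hPb _).mp h4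
      have h5 : π (t'⁻¹ * (x * ⟨t, hPM ht⟩ * x⁻¹)) = 1 := by
        rw [map_mul, map_inv, ht'e, map_mul, map_mul, map_inv]
        exact inv_mul_cancel _
      have h6 := hQP ((hker _).mp h5)
      have h7 : (x : G) * t * (x : G)⁻¹ =
          (t' : G) * (((t'⁻¹ * (x * ⟨t, hPM ht⟩ * x⁻¹) : M)) : G) := by
        simp
      rw [h7]
      exact (P : Subgroup G).mul_mem ht' h6
    refine Subgroup.mem_centralizer_iff.mpr ?_
    intro w hw
    obtain ⟨t, ht, rfl⟩ := (hPb w).mp hw
    have h3 := hact (x : G) hxN t ht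
    have h4 : π (x * t * x⁻¹ * t⁻¹) = 1 := by
      rw [hker]
      simpa using h3
    rw [map_mul, map_mul, map_mul, map_inv, map_inv] at h4
    have h5 : π x * π t * (π x)⁻¹ = π t := mul_inv_eq_one.mp h4
    calc π t * π x = π x * π t * (π x)⁻¹ * π x := by rw [h5]
      _ = π x * π t := by group
  have hcoprime := hasNormalPComplement_iff_pResidual.mp hB
  -- the Tate step
  have hTate : HasNormalPComplement p (pResidual p M) := by
    apply hasNormalPComplement_of_inf_le_frattini P₁
    rintro x ⟨hx1, hx2⟩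
    have h3 : π x ∈ pResidual p (M ⧸ Q₁) := map_pResidual_le p π ⟨x, hx1, rfl⟩
    have h4 : π x ∈ (Pb : Subgroup (M ⧸ Q₁)) := (hPb _).mpr ⟨x, (hmem x).mp hx2, rfl⟩
    have h5 : π x = 1 := by
      apply eq_one_of_coprime_of_mem_isPGroup Pb.2 h4
      have h6 : orderOf (π x) ∣ Nat.card (pResidual p (M ⧸ Q₁)) := by
        have := orderOf_dvd_natCard (⟨π x, h3⟩ : pResidual p (M ⧸ Q₁))
        rwa [Subgroup.orderOf_mk] at this
      exact Nat.Coprime.coprime_dvd_left h6 hcoprime
    have h7 : (x : G) ∈ Q := (hker x).mp h5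
    have h8 := h2 h7
    rw [map_frattini_map M.subtype M.subtype_injective (P₁ : Subgroup M) (P : Subgroup G) hP₁map] at h8
    obtain ⟨y, hy, hyx⟩ := h8
    have h9 : y = x := M.subtype_injective hyx
    rwa [h9] at hy
  exact hasNormalPComplement_of_normal_of_isPGroup_quotient (pResidual p M) hTate
    isPGroup_quotient_pResidual

omit [Finite G] hp in
/-- Two nontrivial subgroups of a cyclic `p`-group meet nontrivially. -/
theorem inf_ne_bot_of_isCyclic {Q : Type v} [Group Q] [Finite Q] [hp : Fact p.Prime] [IsCyclic Q]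
    (hQ : IsPGroup p Q) {A B : Subgroup Q} (hA : A ≠ ⊥) (hB : B ≠ ⊥) : A ⊓ B ≠ ⊥ := by
  classical
  haveI := Fintype.ofFinite Q
  have hcard : ∀ C : Subgroup Q, C ≠ ⊥ → ∃ x ∈ C, orderOf x = p := by
    intro C hC
    obtain ⟨k, hk⟩ := IsPGroup.iff_card.mp (hQ.to_subgroup C)
    have hk0 : k ≠ 0 := by
      rintro rfl
      rw [pow_zero] at hk
      exact hC (Subgroup.card_eq_one.mp hk)
    have hd : p ∣ Nat.card C := by
      rw [hk]; exact dvd_pow_self p hk0
    obtain ⟨x, hx⟩ := exists_prime_orderOf_dvd_card' p hd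
    refine ⟨x, x.2, ?_⟩
    rwa [Subgroup.orderOf_coe]
  obtain ⟨a, haA, hao⟩ := hcard A hA
  obtain ⟨b, hbB, hbo⟩ := hcard B hB
  have hle := IsCyclic.card_pow_eq_one_le (α := Q) (n := p) hp.out.pos
  -- all elements `x` with `x ^ p = 1` are powers of `a`
  have hZS : (Subgroup.zpowers a : Set Q).toFinset ⊆ (Finset.univ.filter fun z : Q => z ^ p = 1) := by
    intro z hz
    rw [Set.mem_toFinset] at hz
    obtain ⟨k, rfl⟩ := hz
    simp only [Finset.mem_filter, Finset.mem_univ, true_and]
    rw [← zpow_natCast, ← zpow_mul, mul_comm, zpow_mul, zpow_natCast, ← hao, pow_orderOf_eq_one,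
      one_zpow]
  have hZcard : (Subgroup.zpowers a : Set Q).toFinset.card = p := by
    rw [Set.toFinset_card, ← Nat.card_eq_fintype_card]
    change Nat.card (Subgroup.zpowers a) = p
    rw [Nat.card_zpowers, hao]
  have heq := Finset.eq_of_subset_of_card_le hZS (by rw [hZcard]; exact hle)
  have hb1 : b ∈ (Finset.univ.filter fun z : Q => z ^ p = 1) := by
    simp only [Finset.mem_filter, Finset.mem_univ, true_and]
    rw [← hbo]
    exact pow_orderOf_eq_one b
  rw [← heq, Set.mem_toFinset] at hb1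
  have hbA : b ∈ A := (Subgroup.zpowers_le.mpr haA) hb1
  intro hbot
  have hb2 : b ∈ A ⊓ B := ⟨hbA, hbB⟩
  rw [hbot, Subgroup.mem_bot] at hb2
  rw [hb2, orderOf_one] at hbo
  exact hp.out.one_lt.ne hbo

omit [Finite G] hp in
/-- A finite group with a cyclic Sylow `p`-subgroup `T` with a nontrivial subgroup of `T` central
has a normal `p`-complement. -/
theorem hasNormalPComplement_of_cyclic_of_central {Y : Type v} [Group Y] [Finite Y]
    [hp : Fact p.Prime] (T : Sylow p Y) (hT : IsCyclic T) (Z : Subgroup Y) (hZ : Z ≤ Subgroup.center Y)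
    (hZT : Z ≤ (T : Subgroup Y)) (hZ1 : Z ≠ ⊥) : HasNormalPComplement p Y := by
  letI : CommGroup (T : Subgroup Y) := IsCyclic.commGroup
  have hc : IsMulCommutative (T : Subgroup Y) := ⟨⟨fun a b => mul_comm a b⟩⟩
  have hcomm : ⁅(T : Subgroup Y), (T : Subgroup Y)⁆ = ⊥ := by
    rw [Subgroup.commutator_eq_bot_iff_le_centralizer]
    intro a ha
    refine Subgroup.mem_centralizer_iff.mpr ?_
    intro b hb
    exact congrArg Subtype.val (mul_comm (⟨b, hb⟩ : (T : Subgroup Y)) ⟨a, ha⟩)
  apply hasNormalPComplement_of_commutator_inf T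
  rw [hcomm]
  by_contra hne
  -- the intersection with the centre
  have hbot := abelian_hall_inf_eq_bot (T : Subgroup Y) hc T.card_coprime_index
  let A : Subgroup (T : Subgroup Y) := (commutator Y).subgroupOf (T : Subgroup Y)
  let B : Subgroup (T : Subgroup Y) := Z.subgroupOf (T : Subgroup Y)
  have hA : A ≠ ⊥ := by
    intro h
    apply hne
    rw [eq_bot_iff]
    rintro x ⟨hx1, hx2⟩
    have : (⟨x, hx2⟩ : (T : Subgroup Y)) ∈ A := Subgroup.mem_subgroupOf.mpr hx1
    rw [h, Subgroup.mem_bot] at this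
    exact congrArg Subtype.val this
  have hB : B ≠ ⊥ := by
    intro h
    apply hZ1
    rw [eq_bot_iff]
    intro x hx
    have : (⟨x, hZT hx⟩ : (T : Subgroup Y)) ∈ B := Subgroup.mem_subgroupOf.mpr hx
    rw [h, Subgroup.mem_bot] at this
    exact congrArg Subtype.val this
  apply inf_ne_bot_of_isCyclic T.2 hA hB
  rw [eq_bot_iff]
  rintro ⟨x, hx⟩ ⟨h1, h2⟩
  have h3 : x ∈ (T : Subgroup Y) ⊓ commutator Y ⊓ Subgroup.center Y :=
    ⟨⟨hx, Subgroup.mem_subgroupOf.mp h1⟩, hZ (Subgroup.mem_subgroupOf.mp h2)⟩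
  rw [hbot, Subgroup.mem_bot] at h3
  exact Subtype.ext h3

omit [Finite G] hp in
/-- A normal series of the form `p'`, `p`, `p'`. -/
theorem isPSolvable_of_chain (N C : Subgroup G) [hN : N.Normal] [hC : C.Normal] (hNC : N ≤ C)
    (h1 : Nat.Coprime (Nat.card N) p) (h2 : ∃ m : ℕ, N.relIndex C = p ^ m)
    (h3 : Nat.Coprime C.index p) : IsPSolvable p G := by
  refine ⟨3, ![⊥, N, C, ⊤], rfl, rfl, ?_, ?_, ?_⟩
  · apply Fin.monotone_iff_le_succ.mpr
    intro i
    fin_cases i
    · exact bot_le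
    · exact hNC
    · exact le_top
  · intro i
    fin_cases i
    · exact (inferInstance : (⊥ : Subgroup G).Normal)
    · exact hN
    · exact hC
    · exact (inferInstance : (⊤ : Subgroup G).Normal)
  · intro i
    fin_cases i
    · right
      change ((⊥ : Subgroup G).relIndex N).Coprime p
      rw [Subgroup.relIndex_bot_left]
      exact h1
    · left
      exact h2
    · right
      change (C.relIndex ⊤).Coprime p
      rw [Subgroup.relIndex_top_right]
      exact h3

/-- `S4145`. -/
theorem cyclic_sylow_normal_subgroup (P : Sylow p G) (hP : IsCyclic (P : Subgroup G)) (H : Subgroup G)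
    [hHn : H.Normal] (h1 : p ∣ Nat.card H) (h2 : p ∣ H.index) :
    HasNormalPComplement p H ∧ IsPSolvable p G := by
  have hA : HasNormalPComplement p H := by
    apply hasNormalPComplement_of_inf_le_frattini P H
    rintro x ⟨hxH, hxP⟩
    have hne : H.subgroupOf (P : Subgroup G) ≠ ⊤ := by
      intro htop
      have hle : (P : Subgroup G) ≤ H := Subgroup.subgroupOf_eq_top.mp htop
      have hdvd : H.index ∣ (P : Subgroup G).index := Subgroup.index_dvd_of_le hle
      exact P.not_dvd_index (h2.trans hdvd)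
    have hle := le_frattini_of_isCyclic P.isPGroup' _ hne
    exact ⟨⟨x, hxP⟩, hle (Subgroup.mem_subgroupOf.mpr hxH), rfl⟩
  refine ⟨hA, ?_⟩
  let L : Subgroup G := (pResidual p H).map H.subtype
  haveI hL : L.Normal := map_subtype_normal_of_characteristic H _
  have hLcard : Nat.card L = Nat.card (pResidual p H) :=
    Subgroup.card_map_of_injective H.subtype_injective
  have hLcop : Nat.Coprime (Nat.card L) p := by
    rw [hLcard]; exact hasNormalPComplement_iff_pResidual.mp hA
  let π : G →* G ⧸ L := QuotientGroup.mk' L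
  have hπ : Function.Surjective π := QuotientGroup.mk'_surjective L
  have hker : π.ker = L := QuotientGroup.ker_mk' L
  let Hb : Subgroup (G ⧸ L) := H.map π
  haveI hHbn : Hb.Normal := Subgroup.Normal.map hHn π hπ
  have hHbp : IsPGroup p Hb := by
    rintro ⟨_, h, hh, rfl⟩
    obtain ⟨k, hk⟩ := (isPGroup_quotient_pResidual (p := p) (G := H))
      (QuotientGroup.mk' _ (⟨h, hh⟩ : H))
    refine ⟨k, Subtype.ext ?_⟩
    rw [← map_pow] at hk
    have h3 := (QuotientGroup.eq_one_iff _).mp hk
    have h4 : h ^ p ^ k ∈ L := ⟨_, h3, rfl⟩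
    have h5 : π (h ^ p ^ k) = 1 := by rw [← MonoidHom.mem_ker, hker]; exact h4
    rw [map_pow] at h5
    exact h5
  have hHb1 : Hb ≠ ⊥ := by
    intro hbot
    have hle : H ≤ L := by
      rw [← hker]
      exact (Subgroup.map_eq_bot_iff _).mp hbot
    have hd : p ∣ Nat.card L := h1.trans (Subgroup.card_dvd_of_le hle)
    have := Nat.dvd_gcd hd (dvd_refl p)
    rw [hLcop] at this
    exact hp.out.one_lt.ne' (Nat.dvd_one.mp this)
  let Pb : Sylow p (G ⧸ L) := P.mapSurjective hπ
  have hPbcoe : (Pb : Subgroup (G ⧸ L)) = (P : Subgroup G).map π := Sylow.coe_mapSurjective hπ P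
  have hHP : Hb ≤ (Pb : Subgroup (G ⧸ L)) := hHbp.le_sylow_of_normal Pb
  haveI hPbcyc : IsCyclic (Pb : Subgroup (G ⧸ L)) := by
    rw [hPbcoe]
    exact isCyclic_of_surjective (π.subgroupMap (P : Subgroup G)) (MonoidHom.subgroupMap_surjective _ _)
  have hPbcomm : ∀ a ∈ (Pb : Subgroup (G ⧸ L)), ∀ b ∈ (Pb : Subgroup (G ⧸ L)), a * b = b * a := by
    intro a ha b hb
    letI : CommGroup (Pb : Subgroup (G ⧸ L)) := IsCyclic.commGroup
    exact congrArg Subtype.val (mul_comm (⟨a, ha⟩ : (Pb : Subgroup (G ⧸ L))) ⟨b, hb⟩)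
  let A : Subgroup (G ⧸ L) := Subgroup.centralizer (Hb : Set (G ⧸ L))
  have hPA : (Pb : Subgroup (G ⧸ L)) ≤ A := by
    intro a ha
    refine Subgroup.mem_centralizer_iff.mpr ?_
    intro b hb
    exact hPbcomm b (hHP hb) a ha
  haveI hAn : A.Normal := by
    constructor
    intro g hg u
    refine Subgroup.mem_centralizer_iff.mpr ?_
    intro b hb
    have hb' : u⁻¹ * b * u ∈ Hb := by
      have := hHbn.conj_mem b hb u⁻¹
      simpa using this
    have h3 := Subgroup.mem_centralizer_iff.mp hg _ hb'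
    calc b * (u * g * u⁻¹) = u * ((u⁻¹ * b * u) * g) * u⁻¹ := by group
      _ = u * (g * (u⁻¹ * b * u)) * u⁻¹ := by rw [h3]
      _ = u * g * u⁻¹ * b := by group
  let T : Sylow p A := Pb.subtype hPA
  have hTcoe : (T : Subgroup A) = (Pb : Subgroup (G ⧸ L)).subgroupOf A := Pb.coe_subtype hPA
  have hTcyc : IsCyclic (T : Subgroup A) := by
    rw [hTcoe]
    exact isCyclic_of_surjective (Subgroup.subgroupOfEquivOfLe hPA).symm.toMonoidHom
      (Subgroup.subgroupOfEquivOfLe hPA).symm.surjective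
  have hHA : Hb ≤ A := hHP.trans hPA
  have hnc : HasNormalPComplement p A := by
    apply hasNormalPComplement_of_cyclic_of_central T hTcyc (Hb.subgroupOf A)
    · intro x hx
      refine Subgroup.mem_center_iff.mpr ?_
      intro y
      apply Subtype.ext
      exact (Subgroup.mem_centralizer_iff.mp y.2 _ (Subgroup.mem_subgroupOf.mp hx)).symm
    · rw [hTcoe]
      intro x hx
      exact Subgroup.mem_subgroupOf.mpr (hHP (Subgroup.mem_subgroupOf.mp hx))
    · intro hbot
      apply hHb1
      rw [eq_bot_iff]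
      intro x hx
      have : (⟨x, hHA hx⟩ : A) ∈ Hb.subgroupOf A := Subgroup.mem_subgroupOf.mpr hx
      rw [hbot, Subgroup.mem_bot] at this
      exact congrArg Subtype.val this
  have hcoprime := hasNormalPComplement_iff_pResidual.mp hnc
  let Nb : Subgroup (G ⧸ L) := (pResidual p A).map A.subtype
  haveI hNb : Nb.Normal := map_subtype_normal_of_characteristic A _
  haveI hN : (Nb.comap π).Normal := Subgroup.Normal.comap hNb π
  haveI hC : (A.comap π).Normal := Subgroup.Normal.comap hAn π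
  have hNA : Nb ≤ A := Subgroup.map_subtype_le _
  refine isPSolvable_of_chain (Nb.comap π) (A.comap π) (Subgroup.comap_mono hNA) ?_ ?_ ?_
  · have h3 := Cfsg.Agent.Lib.Coprime.SchurZassenhaus.card_map_mul_card_inf_ker π (Nb.comap π)
    rw [Subgroup.map_comap_eq_self_of_surjective hπ] at h3
    have h4 : Nb.comap π ⊓ π.ker = L := by
      rw [hker]
      apply inf_eq_right.mpr
      intro x hx
      have : π x = 1 := by rw [← MonoidHom.mem_ker, hker]; exact hx
      change π x ∈ Nb
      rw [this]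
      exact Subgroup.one_mem _
    rw [h4] at h3
    rw [← h3]
    apply Nat.Coprime.mul_left
    · have h5 : Nat.card Nb = Nat.card (pResidual p A) :=
        Subgroup.card_map_of_injective A.subtype_injective
      rw [h5]
      exact hcoprime
    · exact hLcop
  · rw [Subgroup.relIndex_comap, Subgroup.map_comap_eq_self_of_surjective hπ]
    have h3 : Nb.relIndex A = (pResidual p A).index := by
      rw [Subgroup.relIndex]
      congr 1
      exact Subgroup.comap_map_eq_self_of_injective A.subtype_injective _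
    rw [h3, Subgroup.index_eq_card]
    exact IsPGroup.iff_card.mp isPGroup_quotient_pResidual
  · have hle : (P : Subgroup G) ≤ A.comap π := by
      intro t ht
      apply hPA
      rw [hPbcoe]
      exact ⟨t, ht, rfl⟩
    have hd := Subgroup.index_dvd_of_le hle
    exact (Nat.Coprime.coprime_dvd_left hd (Nat.Prime.coprime_iff_not_dvd hp.out |>.mpr P.not_dvd_index).symm)

end Cfsg.Agent.Lib.Transfer.Cor4
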