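import Mathlib
import Cfsg.Agent.Lib.Transfer.ClassSize
import Cfsg.Agent.Lib.Transfer.Cor4
import Cfsg.Agent.Lib.Core.Residual
import Cfsg.Agent.Lib.Core.SylowFacts
import Cfsg.Agent.Lib.FGS.Product
import Cfsg.Agent.Lib.Involutions2.NormalFour

/-!
# Normal subgroups with two `G`-class sizes

`nilpotent_of_two_sizes` (`S4135`): if `N ⊴ G` contains a non-central Sylow `r`-subgroup of `G`, and
every element of `N` has `G`-class size `1` or `m`, then `N` is nilpotent.
-/

set_option autoImplicit false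

namespace Cfsg.Agent.Lib.Transfer.TwoGClassSizes

open Cfsg.Agent.Lib.Transfer.ClassSize
  (eq_top_of_forall_conj_mem exists_sylow_of_not_dvd_index centralizer_mul_of_coprime)
open Cfsg.Agent.Lib.Core.Residual (exists_pPart_pPrimePart)

variable {G : Type*} [Group G]

/-- The centralizer of an element. -/
abbrev cz (x : G) : Subgroup G := Subgroup.centralizer ({x} : Set G)

theorem mem_cz {x y : G} : y ∈ cz x ↔ x * y = y * x := by
  simp [cz, Subgroup.mem_centralizer_iff]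

theorem conj_mem_cz {a x y : G} (h : y ∈ cz x) : a * y * a⁻¹ ∈ cz (a * x * a⁻¹) := by
  rw [mem_cz] at h ⊢
  calc a * x * a⁻¹ * (a * y * a⁻¹) = a * (x * y) * a⁻¹ := by group
    _ = a * (y * x) * a⁻¹ := by rw [h]
    _ = _ := by group

theorem index_cz_eq_one_iff (x : G) : (cz x).index = 1 ↔ x ∈ Subgroup.center G := by
  rw [Subgroup.index_eq_one, Subgroup.centralizer_eq_top_iff_subset]; simp

theorem conj_mem_center_iff {a x : G} : a * x * a⁻¹ ∈ Subgroup.center G ↔ x ∈ Subgroup.center G := by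
  constructor
  · intro h
    have h2 := (Subgroup.mem_center_iff.mp h) a
    rw [Subgroup.mem_center_iff]
    intro g
    have h3 := (Subgroup.mem_center_iff.mp h) (a * g * a⁻¹)
    have h4 : a * (g * x) * a⁻¹ = a * (x * g) * a⁻¹ := by
      calc a * (g * x) * a⁻¹ = (a * g * a⁻¹) * (a * x * a⁻¹) := by group
        _ = (a * x * a⁻¹) * (a * g * a⁻¹) := h3
        _ = _ := by group
    exact mul_left_cancel (mul_right_cancel h4)
  · intro h
    rw [Subgroup.mem_center_iff] at h ⊢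
    intro g
    have h3 := h (a⁻¹ * g * a)
    calc g * (a * x * a⁻¹) = a * ((a⁻¹ * g * a) * x) * a⁻¹ := by group
      _ = a * (x * (a⁻¹ * g * a)) * a⁻¹ := by rw [h3]
      _ = _ := by group

/-- The `p`-part of a subgroup of pairwise commuting elements. -/
def pPart (C : Subgroup G) (p : ℕ) (hC : ∀ a ∈ C, ∀ b ∈ C, Commute a b) : Subgroup G where
  carrier := {g | g ∈ C ∧ ∃ k : ℕ, g ^ p ^ k = 1}
  mul_mem' := by
    rintro a b ⟨ha, k, hk⟩ ⟨hb, l, hl⟩
    refine ⟨C.mul_mem ha hb, k + l, ?_⟩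
    rw [(hC a ha b hb).mul_pow, pow_add p k l, pow_mul, hk, one_pow, one_mul, mul_comm (p ^ k),
      pow_mul, hl, one_pow]
  one_mem' := ⟨C.one_mem, 0, by simp⟩
  inv_mem' := by
    rintro a ⟨ha, k, hk⟩
    exact ⟨C.inv_mem ha, k, by rw [inv_pow, hk, inv_one]⟩

theorem mem_pPart {C : Subgroup G} {p : ℕ} {hC : ∀ a ∈ C, ∀ b ∈ C, Commute a b} {g : G} :
    g ∈ pPart C p hC ↔ g ∈ C ∧ ∃ k : ℕ, g ^ p ^ k = 1 := Iff.rfl

theorem isPGroup_of_forall {Y : Subgroup G} {p : ℕ} (h : ∀ g ∈ Y, ∃ k : ℕ, g ^ p ^ k = 1) :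
    IsPGroup p Y := by
  intro g
  obtain ⟨k, hk⟩ := h g g.2
  exact ⟨k, Subtype.ext (by simpa using hk)⟩

theorem exists_pow_of_isPGroup {Y : Subgroup G} {p : ℕ} (h : IsPGroup p Y) {g : G} (hg : g ∈ Y) :
    ∃ k : ℕ, g ^ p ^ k = 1 := by
  obtain ⟨k, hk⟩ := h ⟨g, hg⟩
  exact ⟨k, by simpa using congrArg Subtype.val hk⟩

theorem isPGroup_pPart (C : Subgroup G) (p : ℕ) (hC : ∀ a ∈ C, ∀ b ∈ C, Commute a b) :
    IsPGroup p (pPart C p hC) :=
  isPGroup_of_forall (fun _ hg => hg.2)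

section Finite

variable [Finite G]

/-- A `p`-subgroup of `C` has order dividing the `p`-part of `|C|`. -/
theorem card_dvd_ordProj {p : ℕ} [hp : Fact p.Prime] {Y C : Subgroup G} (hle : Y ≤ C)
    (hY : IsPGroup p Y) : Nat.card Y ∣ ordProj[p] (Nat.card C) := by
  obtain ⟨k, hk⟩ := IsPGroup.iff_card.mp hY
  rw [hk]
  refine (hp.out.pow_dvd_iff_dvd_ordProj (Nat.card_pos.ne')).mp ?_
  rw [← hk]
  exact Subgroup.card_dvd_of_le hle

theorem card_le_ordProj {p : ℕ} [hp : Fact p.Prime] {Y C : Subgroup G} (hle : Y ≤ C)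
    (hY : IsPGroup p Y) : Nat.card Y ≤ ordProj[p] (Nat.card C) :=
  Nat.le_of_dvd (Nat.pos_of_ne_zero (by
    exact pow_ne_zero _ hp.out.ne_zero)) (card_dvd_ordProj hle hY)

/-- Every `p`-subgroup of `C` lies in a subgroup of `C` of order the `p`-part of `|C|`. -/
theorem exists_sylow_image {p : ℕ} [hp : Fact p.Prime] (C Y : Subgroup G) (hle : Y ≤ C)
    (hY : IsPGroup p Y) :
    ∃ P : Subgroup G, Y ≤ P ∧ P ≤ C ∧ IsPGroup p P ∧ Nat.card P = ordProj[p] (Nat.card C) := by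
  have hY' : IsPGroup p (Y.subgroupOf C) := hY.comap_of_injective _ Subtype.val_injective |>.of_equiv
    (MulEquiv.refl _)
  obtain ⟨Q, hQ⟩ := hY'.exists_le_sylow
  refine ⟨(Q : Subgroup C).map C.subtype, ?_, ?_, ?_, ?_⟩
  · intro y hy
    exact ⟨⟨y, hle hy⟩, hQ (by simpa [Subgroup.mem_subgroupOf] using hy), rfl⟩
  · rintro _ ⟨q, _, rfl⟩
    exact q.2
  · exact Q.isPGroup'.map _
  · rw [Subgroup.card_subtype]
    exact Q.card_eq_multiplicity

theorem card_pPart {C : Subgroup G} {p : ℕ} [hp : Fact p.Prime]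
    {hC : ∀ a ∈ C, ∀ b ∈ C, Commute a b} :
    Nat.card (pPart C p hC) = ordProj[p] (Nat.card C) := by
  have h1 : pPart C p hC ≤ C := fun _ hg => hg.1
  obtain ⟨P, -, hPC, hP, hc⟩ := exists_sylow_image (p := p) C ⊥ bot_le IsPGroup.of_bot
  have h2 : P ≤ pPart C p hC := fun g hg => ⟨hPC hg, exists_pow_of_isPGroup hP hg⟩
  refine le_antisymm (card_le_ordProj h1 (isPGroup_pPart _ _ _)) ?_
  rw [← hc]
  exact Subgroup.card_le_of_le h2

end Finite

section Orbit

variable [Finite G]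

/-- A group `A` acting by conjugation on `Y \ Y₀`, all point stabilizers equal to `A₀`. -/
theorem orbit_bound {p : ℕ} [hp : Fact p.Prime] {A A₀ Y Y₀ : Subgroup G}
    (hY₀ : Y₀ ≤ Y) (hYp : IsPGroup p Y) (hne : ∃ y ∈ Y, y ∉ Y₀)
    (hn : ∀ a ∈ A, ∀ y ∈ Y, a * y * a⁻¹ ∈ Y) (hn₀ : ∀ a ∈ A, ∀ y ∈ Y₀, a * y * a⁻¹ ∈ Y₀)
    (hstab : ∀ a ∈ A, ∀ y ∈ Y, y ∉ Y₀ → (a * y * a⁻¹ = y ↔ a ∈ A₀))
    (hcop : (A₀.relIndex A).Coprime p) :
    A₀.relIndex A * Nat.card Y₀ < Nat.card Y := by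
  classical
  let T := {y : G // y ∈ Y ∧ y ∉ Y₀}
  letI inst : MulAction A T :=
    { smul := fun a y => ⟨(a : G) * y.1 * (a : G)⁻¹, hn a a.2 y.1 y.2.1, fun h => y.2.2 (by
        have := hn₀ (a : G)⁻¹ (A.inv_mem a.2) _ h
        have e : (a : G)⁻¹ * ((a : G) * y.1 * (a : G)⁻¹) * ((a : G)⁻¹)⁻¹ = y.1 := by group
        rwa [e] at this)⟩
      one_smul := fun y => Subtype.ext (by
        show (1 : G) * y.1 * (1 : G)⁻¹ = y.1
        group)
      mul_smul := fun a b y => Subtype.ext (by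
        show ((a : G) * b) * y.1 * ((a : G) * b)⁻¹ = (a : G) * ((b : G) * y.1 * (b : G)⁻¹) * (a : G)⁻¹
        group) }
  have hsmul : ∀ (a : A) (y : T), ((a • y : T) : G) = (a : G) * y.1 * (a : G)⁻¹ := fun _ _ => rfl
  have hst : ∀ y : T, MulAction.stabilizer A y = A₀.subgroupOf A := by
    intro y
    ext a
    rw [MulAction.mem_stabilizer_iff, Subgroup.mem_subgroupOf, ← hstab a a.2 y.1 y.2.1 y.2.2]
    constructor
    · intro h
      exact (congrArg Subtype.val h : ((a • y : T) : G) = y.1)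
    · intro h
      exact Subtype.ext h
  have horb : ∀ y : T, Nat.card (MulAction.orbit A y) = A₀.relIndex A := by
    intro y
    have h1 := MulAction.index_stabilizer A y
    rw [hst y] at h1
    show Nat.card (MulAction.orbit A y) = (A₀.subgroupOf A).index
    rw [h1, Nat.card_coe_set_eq]
  have hdvd : A₀.relIndex A ∣ Nat.card T := by
    haveI : Fintype (MulAction.orbitRel.Quotient A T) := Fintype.ofFinite _
    rw [Nat.card_congr (MulAction.selfEquivSigmaOrbits A T), Nat.card_sigma]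
    refine Finset.dvd_sum (fun ω _ => ?_)
    rw [horb]
  have hcard : Nat.card Y = Nat.card Y₀ + Nat.card T := by
    have h1 : (Y₀ : Set G) ⊆ (Y : Set G) := hY₀
    have h2 := Set.ncard_sdiff_add_ncard_of_subset h1 (Set.toFinite _)
    have h3 : Nat.card T = ((Y : Set G) \ (Y₀ : Set G)).ncard := by
      rw [← Nat.card_coe_set_eq]
      rfl
    have h4 : Nat.card Y = (Y : Set G).ncard := Nat.card_coe_set_eq (Y : Set G)
    have h5 : Nat.card Y₀ = (Y₀ : Set G).ncard := Nat.card_coe_set_eq (Y₀ : Set G)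
    rw [h3, h4, h5]
    omega
  obtain ⟨k, hk⟩ := Subgroup.card_dvd_of_le hY₀
  have hY₀pos : 0 < Nat.card Y₀ := Nat.card_pos
  have hTpos : 0 < Nat.card T := by
    obtain ⟨y, hy, hy'⟩ := hne
    haveI : Nonempty T := ⟨⟨y, hy, hy'⟩⟩
    exact Nat.card_pos
  -- `|T| = |Y₀| (k - 1)`
  have hk1 : 1 ≤ k := by
    rcases Nat.eq_zero_or_pos k with h | h
    · subst h
      have : Nat.card Y = 0 := by simpa using hk
      have h0 : 0 < Nat.card Y := Nat.card_pos
      omega
    · exact h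
  have hT : Nat.card T = Nat.card Y₀ * (k - 1) := by
    have : Nat.card Y₀ * k = Nat.card Y₀ * (k - 1) + Nat.card Y₀ := by
      obtain ⟨j, rfl⟩ : ∃ j, k = j + 1 := ⟨k - 1, by omega⟩
      simp [Nat.mul_add]
    omega
  have hY₀p : IsPGroup p Y₀ := hYp.to_le hY₀
  obtain ⟨e, he⟩ := IsPGroup.iff_card.mp hY₀p
  have hcop' : (A₀.relIndex A).Coprime (Nat.card Y₀) := by
    rw [he]
    exact Nat.Coprime.pow_right _ hcop
  have hd2 : A₀.relIndex A ∣ k - 1 := by
    rw [hT] at hdvd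
    exact hcop'.dvd_of_dvd_mul_left hdvd
  have hk2 : 0 < k - 1 := by
    rcases Nat.eq_zero_or_pos (k - 1) with h | h
    · rw [h] at hT
      simp at hT
      omega
    · exact h
  have hle := Nat.le_of_dvd hk2 hd2
  calc A₀.relIndex A * Nat.card Y₀ ≤ (k - 1) * Nat.card Y₀ := Nat.mul_le_mul_right _ hle
    _ = Nat.card T := by rw [hT, mul_comm]
    _ < Nat.card Y := by omega

/-- Two subgroups of `L` meeting inside `W`. -/
theorem card_mul_card_le {L Q₁ Q₂ W : Subgroup G} (h₁ : Q₁ ≤ L) (h₂ : Q₂ ≤ L) (hW : Q₁ ⊓ Q₂ ≤ W) :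
    Nat.card Q₁ * Nat.card Q₂ ≤ Nat.card L * Nat.card W := by
  rw [← Cfsg.Agent.Lib.FGS.Product.ncard_mul_mul_card_inf Q₁ Q₂]
  refine Nat.mul_le_mul ?_ (Subgroup.card_le_of_le hW)
  have h4 : Nat.card L = (L : Set G).ncard := Nat.card_coe_set_eq (L : Set G)
  rw [h4]
  refine Set.ncard_le_ncard ?_ (Set.toFinite _)
  rintro _ ⟨a, ha, b, hb, rfl⟩
  exact L.mul_mem (h₁ ha) (h₂ hb)

end Orbit

section Sizes

variable [Finite G] {N : Subgroup G} {m : ℕ} {r : ℕ}

/-- Every element of `N` has `G`-class size `1` or `m`. -/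
abbrev TwoSizes (N : Subgroup G) (m : ℕ) : Prop := ∀ x ∈ N, (cz x).index = 1 ∨ (cz x).index = m

theorem TwoSizes.index_eq (H : TwoSizes N m) {x : G} (hx : x ∈ N) (hc : x ∉ Subgroup.center G) :
    (cz x).index = m := by
  rcases H x hx with h | h
  · exact absurd ((index_cz_eq_one_iff x).mp h) hc
  · exact h

theorem TwoSizes.card_eq (H : TwoSizes N m) {x y : G} (hx : x ∈ N) (hxc : x ∉ Subgroup.center G)
    (hy : y ∈ N) (hyc : y ∉ Subgroup.center G) : Nat.card (cz x) = Nat.card (cz y) := by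
  have h1 := Subgroup.card_mul_index (cz x)
  have h2 := Subgroup.card_mul_index (cz y)
  have h3 : m ≠ 0 := by
    rw [← H.index_eq hx hxc]
    exact Subgroup.index_ne_zero_of_finite
  rw [H.index_eq hx hxc] at h1
  rw [H.index_eq hy hyc] at h2
  exact Nat.eq_of_mul_eq_mul_right (Nat.pos_of_ne_zero h3) (h1.trans h2.symm)

theorem TwoSizes.eq_of_le (H : TwoSizes N m) {x y : G} (hx : x ∈ N) (hxc : x ∉ Subgroup.center G)
    (hy : y ∈ N) (hyc : y ∉ Subgroup.center G) (h : cz x ≤ cz y) : cz x = cz y :=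
  Subgroup.eq_of_le_of_card_ge h (H.card_eq hx hxc hy hyc).ge

theorem TwoSizes.le_of_coprime (H : TwoSizes N m) {x y : G} (hx : x ∈ N)
    (hxc : x ∉ Subgroup.center G) (hy : y ∈ N) (hc : Commute x y)
    (hco : (orderOf x).Coprime (orderOf y)) : cz x ≤ cz y := by
  have hw : x * y ∈ N := N.mul_mem hx hy
  have e : cz (x * y) = cz x ⊓ cz y := centralizer_mul_of_coprime hc hco
  have hwc : x * y ∉ Subgroup.center G := by
    intro h
    apply hxc
    rw [← index_cz_eq_one_iff] at h ⊢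
    rw [Subgroup.index_eq_one] at h ⊢
    rw [e] at h
    exact (inf_eq_top_iff.mp h).1
  have h1 : cz (x * y) = cz x := H.eq_of_le hw hwc hx hxc (by rw [e]; exact inf_le_left)
  rw [e] at h1
  exact inf_eq_left.mp h1

omit [Finite G] in
theorem coprime_of_pow {g y : G} {k : ℕ} (hg : g ^ r ^ k = 1) (hy : (orderOf y).Coprime r) :
    (orderOf g).Coprime (orderOf y) :=
  Nat.Coprime.coprime_dvd_left (orderOf_dvd_of_pow_eq_one hg) (Nat.Coprime.pow_left k hy.symm)

/-- `|N : C_N(u)|` divides the class size. -/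
theorem ordProj_card_dvd [N.Normal] (H : TwoSizes N m) {u : G} (hu : u ∈ N)
    (huc : u ∉ Subgroup.center G) (s : ℕ) [hs : Fact s.Prime] :
    ordProj[s] (Nat.card N) ∣ ordProj[s] (Nat.card (cz u ⊓ N : Subgroup G)) * ordProj[s] m := by
  have h1 : (cz u).relIndex N ∣ m := by
    rw [← H.index_eq hu huc]
    exact Cfsg.Agent.Lib.Core.SylowFacts.relIndex_dvd_index_of_normal_right _ _
  have hm : m ≠ 0 := by
    rw [← H.index_eq hu huc]
    exact Subgroup.index_ne_zero_of_finite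
  have h2 : Nat.card (cz u ⊓ N : Subgroup G) * (cz u).relIndex N = Nat.card N := by
    have h3 := Subgroup.card_mul_index ((cz u).subgroupOf N)
    have h4 : Nat.card ((cz u).subgroupOf N) = Nat.card (cz u ⊓ N : Subgroup G) := by
      rw [← Subgroup.inf_subgroupOf_right]
      exact Nat.card_congr (Subgroup.subgroupOfEquivOfLe inf_le_right).toEquiv
    rw [h4] at h3
    exact h3
  have hr0 : (cz u).relIndex N ≠ 0 := fun h => hm (by simpa [h] using h1)
  rw [← h2, Nat.ordProj_mul s (Nat.card_pos.ne') hr0]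
  exact Nat.mul_dvd_mul_left _ (Nat.ordProj_dvd_ordProj_of_dvd hm h1 s)

end Sizes

section Helpers

variable [Finite G]

theorem card_inf_mul_relIndex (H K : Subgroup G) :
    Nat.card (H ⊓ K : Subgroup G) * H.relIndex K = Nat.card K := by
  have h3 := Subgroup.card_mul_index (H.subgroupOf K)
  have h4 : Nat.card (H.subgroupOf K) = Nat.card (H ⊓ K : Subgroup G) := by
    rw [← Subgroup.inf_subgroupOf_right]
    exact Nat.card_congr (Subgroup.subgroupOfEquivOfLe inf_le_right).toEquiv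
  rw [h4] at h3
  exact h3

omit [Finite G] in
theorem card_map_conj (a : G) (Y : Subgroup G) :
    Nat.card (Y.map (MulAut.conj a).toMonoidHom) = Nat.card Y :=
  Subgroup.card_map_of_injective (MulAut.conj a).injective

omit [Finite G] in
theorem mem_map_conj {a v : G} {Y : Subgroup G} (h : v ∈ Y) :
    a * v * a⁻¹ ∈ Y.map (MulAut.conj a).toMonoidHom :=
  ⟨v, h, rfl⟩

/-- Jordan's lemma inside a subgroup. -/
theorem le_of_conj_cover {N D : Subgroup G} (h : ∀ u ∈ N, ∃ n ∈ N, n * u * n⁻¹ ∈ D) : N ≤ D := by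
  have h1 : D.subgroupOf N = ⊤ := by
    apply eq_top_of_forall_conj_mem
    intro g
    obtain ⟨n, hn, hu⟩ := h g g.2
    refine ⟨⟨n, hn⟩, ?_⟩
    rw [Subgroup.mem_subgroupOf]
    simpa using hu
  intro u hu
  have h2 : (⟨u, hu⟩ : N) ∈ D.subgroupOf N := by rw [h1]; trivial
  simpa [Subgroup.mem_subgroupOf] using h2

/-- Conjugating a `p`-subgroup of `N` into a large `p`-subgroup of `N`. -/
theorem exists_conj_le {s : ℕ} [hs : Fact s.Prime] {N T Y : Subgroup G} (hTN : T ≤ N)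
    (hT : Nat.card T = ordProj[s] (Nat.card N)) (hYN : Y ≤ N) (hY : IsPGroup s Y) :
    ∃ n ∈ N, ∀ v ∈ Y, n * v * n⁻¹ ∈ T := by
  have hc : Nat.card (T.subgroupOf N) = s ^ (Nat.card N).factorization s := by
    rw [← hT]
    exact Nat.card_congr (Subgroup.subgroupOfEquivOfLe hTN).toEquiv
  let P : Sylow s N := Sylow.ofCard _ hc
  have hY' : IsPGroup s (Y.subgroupOf N) := hY.comap_of_injective _ Subtype.val_injective |>.of_equiv
    (MulEquiv.refl _)
  obtain ⟨Q, hQ⟩ := hY'.exists_le_sylow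
  obtain ⟨n, hn⟩ := MulAction.exists_smul_eq N Q P
  refine ⟨n, n.2, fun v hv => ?_⟩
  have h1 : (⟨v, hYN hv⟩ : N) ∈ (Q : Subgroup N) := hQ (by simpa [Subgroup.mem_subgroupOf] using hv)
  have h2 : n * (⟨v, hYN hv⟩ : N) * n⁻¹ ∈ (P : Subgroup N) := by
    rw [← hn]
    exact Subgroup.mem_map_of_mem _ h1
  have h3 : (n * (⟨v, hYN hv⟩ : N) * n⁻¹ : N) ∈ T.subgroupOf N := h2
  simpa [Subgroup.mem_subgroupOf] using h3

/-- A normal subgroup of a `p`-group `S` not inside the centre of `G` contains a non-central element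
central modulo the centre of `G`. -/
theorem exists_central_mod {s : ℕ} [hs : Fact s.Prime] {S N : Subgroup G} [N.Normal]
    (hS : IsPGroup s S) {t : G} (htS : t ∈ S) (htN : t ∈ N) (htc : t ∉ Subgroup.center G) :
    ∃ x ∈ S, x ∈ N ∧ x ∉ Subgroup.center G ∧ ∀ g ∈ S, x⁻¹ * (g * x * g⁻¹) ∈ Subgroup.center G := by
  let Zs : Subgroup S := (Subgroup.center G).subgroupOf S
  haveI : Zs.Normal := Subgroup.normal_subgroupOf
  have hQ : IsPGroup s (S ⧸ Zs) := hS.to_quotient Zs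
  let K : Subgroup (S ⧸ Zs) := (N.subgroupOf S).map (QuotientGroup.mk' Zs)
  haveI hKn : K.Normal :=
    Subgroup.Normal.map Subgroup.normal_subgroupOf _ (QuotientGroup.mk'_surjective Zs)
  have hne : K ≠ ⊥ := by
    intro h
    have h1 : QuotientGroup.mk' Zs (⟨t, htS⟩ : S) ∈ K :=
      Subgroup.mem_map_of_mem _ (by simpa [Subgroup.mem_subgroupOf] using htN)
    rw [h, Subgroup.mem_bot] at h1
    have h2 : (⟨t, htS⟩ : S) ∈ Zs := (QuotientGroup.eq_one_iff _).mp h1
    exact htc (by simpa [Zs, Subgroup.mem_subgroupOf] using h2)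
  have h3 := Cfsg.Agent.Lib.Involutions2.NormalFour.inf_center_ne_bot hQ K hne
  obtain ⟨⟨q, hq⟩, hq1'⟩ := Subgroup.ne_bot_iff_exists_ne_one.mp h3
  have hq1 : q ≠ 1 := fun h => hq1' (Subtype.ext h)
  obtain ⟨hqK, hqZ⟩ := Subgroup.mem_inf.mp hq
  obtain ⟨x, hxN, rfl⟩ := hqK
  refine ⟨x, x.2, by simpa [Subgroup.mem_subgroupOf] using hxN, ?_, ?_⟩
  · intro h
    apply hq1
    exact (QuotientGroup.eq_one_iff _).mpr (by simpa [Zs, Subgroup.mem_subgroupOf] using h)
  · intro g hg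
    have h4 := Subgroup.mem_center_iff.mp hqZ (QuotientGroup.mk' Zs (⟨g, hg⟩ : S))
    rw [← map_mul, ← map_mul] at h4
    have h5 : QuotientGroup.mk' Zs ((⟨g, hg⟩ : S) * x * (⟨g, hg⟩ : S)⁻¹) = QuotientGroup.mk' Zs x := by
      rw [map_mul, map_mul, map_inv, ← map_mul, h4, map_mul]
      group
    have h6 : x⁻¹ * ((⟨g, hg⟩ : S) * x * (⟨g, hg⟩ : S)⁻¹) ∈ Zs :=
      QuotientGroup.eq.mp h5.symm
    simpa [Zs, Subgroup.mem_subgroupOf] using h6

/-- Every non-central `r'`-element has a non-central `s`-element (some prime `s ≠ r`) among its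
powers. -/
theorem exists_primary {r : ℕ} {x : G} (hxc : x ∉ Subgroup.center G) (hxr : (orderOf x).Coprime r) :
    ∃ s : ℕ, ∃ _ : Fact s.Prime, s ≠ r ∧ ∃ t ∈ Subgroup.zpowers x, t ∉ Subgroup.center G ∧
      ∃ k : ℕ, t ^ s ^ k = 1 := by
  induction hn : orderOf x using Nat.strong_induction_on generalizing x with
  | _ n ih =>
    have hx1 : x ≠ 1 := fun h => hxc (h ▸ Subgroup.one_mem _)
    have hord : orderOf x ≠ 1 := fun h => hx1 (orderOf_eq_one_iff.mp h)
    have hsp : (Nat.minFac (orderOf x)).Prime := Nat.minFac_prime hord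
    set s := Nat.minFac (orderOf x) with hs
    haveI : Fact s.Prime := ⟨hsp⟩
    have hsd : s ∣ orderOf x := Nat.minFac_dvd _
    have hsr : s ≠ r := by
      intro h
      rw [h] at hsd
      have := Nat.Coprime.eq_one_of_dvd hxr.symm hsd
      rw [← h] at this
      exact hsp.ne_one this
    obtain ⟨a, b, hab, hcomm, ⟨k, hk⟩, hb, ha', hb'⟩ :=
      exists_pPart_pPrimePart s x (isOfFinOrder_of_finite x)
    by_cases hac : a ∈ Subgroup.center G
    · have hbc : b ∉ Subgroup.center G := by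
        intro h
        apply hxc
        rw [← hab]
        exact Subgroup.mul_mem _ hac h
      have hd : orderOf b ∣ orderOf x := orderOf_dvd_of_mem_zpowers hb'
      have hlt : orderOf b < n := by
        rw [← hn]
        refine lt_of_le_of_ne (Nat.le_of_dvd (orderOf_pos x) hd) ?_
        intro h
        rw [h] at hb
        have := Nat.Coprime.eq_one_of_dvd hb.symm hsd
        exact hsp.ne_one this
      obtain ⟨s', hs', hsr', t, ht, htc, hk'⟩ :=
        ih _ hlt hbc (Nat.Coprime.coprime_dvd_left hd hxr) rfl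
      exact ⟨s', hs', hsr', t, (Subgroup.zpowers_le.mpr hb') ht, htc, hk'⟩
    · exact ⟨s, inferInstance, hsr, a, ha', hac, k, hk⟩

end Helpers

section Main

variable [Finite G] {N : Subgroup G} [hNn : N.Normal] {m r : ℕ} [hr : Fact r.Prime] {z : G}

/-- The standing hypotheses. -/
structure Ctx (N : Subgroup G) (m r : ℕ) (z : G) : Prop where
  H : TwoSizes N m
  hrN : ∀ (g : G) (k : ℕ), g ^ r ^ k = 1 → g ∈ N
  hz : ∃ k : ℕ, z ^ r ^ k = 1
  hzc : z ∉ Subgroup.center G
  hrm : r ∣ m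

/-- The central `p`-elements of `N`. -/
def W (N : Subgroup G) (p : ℕ) : Subgroup G :=
  pPart (N ⊓ Subgroup.center G) p
    (fun a ha _ _ => (Subgroup.mem_center_iff.mp (Subgroup.mem_inf.mp ha).2 _).symm)

omit [Finite G] hNn in
theorem mem_W {p : ℕ} {g : G} : g ∈ W N p ↔ g ∈ N ∧ g ∈ Subgroup.center G ∧ ∃ k : ℕ, g ^ p ^ k = 1 := by
  constructor
  · rintro ⟨h1, h2⟩
    exact ⟨(Subgroup.mem_inf.mp h1).1, (Subgroup.mem_inf.mp h1).2, h2⟩
  · rintro ⟨h1, h2, h3⟩
    exact ⟨Subgroup.mem_inf.mpr ⟨h1, h2⟩, h3⟩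

omit [Finite G] hNn in
theorem conj_of_mem_W {p : ℕ} {g : G} (h : g ∈ W N p) (a : G) : a * g * a⁻¹ = g := by
  have h2 := Subgroup.mem_center_iff.mp (mem_W.mp h).2.1 a
  rw [h2]; group

omit hNn in
theorem card_W_pos {p : ℕ} : 0 < Nat.card (W N p) := Nat.card_pos

/-- The `r`-part of `C_G(z)` is larger than the central `r`-part. -/
theorem Ctx.card_W_lt (c : Ctx N m r z) : Nat.card (W N r) < ordProj[r] (Nat.card (cz z)) := by
  obtain ⟨k, hk⟩ := c.hz
  have hzN : z ∈ N := c.hrN z k hk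
  haveI hWn : (W N r).Normal := ⟨fun n hn g => by rw [conj_of_mem_W hn]; exact hn⟩
  have hzp : IsPGroup r (Subgroup.zpowers z) := isPGroup_of_forall (fun g hg => by
    obtain ⟨i, rfl⟩ := Subgroup.mem_zpowers_iff.mp hg
    exact ⟨k, by rw [← zpow_natCast, ← zpow_mul, mul_comm, zpow_mul, zpow_natCast, hk, one_zpow]⟩)
  have hY : IsPGroup r (W N r ⊔ Subgroup.zpowers z : Subgroup G) :=
    (show IsPGroup r (W N r) from isPGroup_pPart _ _ _).to_sup_of_normal_left hzp
  have hle : (W N r ⊔ Subgroup.zpowers z : Subgroup G) ≤ cz z := by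
    refine sup_le (fun g hg => ?_) ?_
    · rw [mem_cz]
      exact (Subgroup.mem_center_iff.mp (mem_W.mp hg).2.1 z)
    · rw [Subgroup.zpowers_le, mem_cz]
  obtain ⟨P, hYP, hPC, hP, hcard⟩ := exists_sylow_image (p := r) (cz z) _ hle hY
  rw [← hcard]
  have hWP : W N r ≤ P := le_trans le_sup_left hYP
  refine lt_of_le_of_ne (Subgroup.card_le_of_le hWP) ?_
  intro he
  have h1 : W N r = P := Subgroup.eq_of_le_of_card_ge hWP he.ge
  have h2 : z ∈ P := hYP (Subgroup.mem_sup_right (Subgroup.mem_zpowers z))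
  rw [← h1] at h2
  exact c.hzc (mem_W.mp h2).2.1

theorem Ctx.ordProj_eq (c : Ctx N m r z) {u : G} (hu : u ∈ N) (huc : u ∉ Subgroup.center G) :
    ordProj[r] (Nat.card (cz u)) = ordProj[r] (Nat.card (cz z)) := by
  obtain ⟨k, hk⟩ := c.hz
  rw [c.H.card_eq hu huc (c.hrN z k hk) c.hzc]

/-- "Good" centralizers: of non-central `r'`-elements of `N`. -/
def Good (N : Subgroup G) (r : ℕ) (D : Subgroup G) : Prop :=
  ∃ x, x ∈ N ∧ x ∉ Subgroup.center G ∧ (orderOf x).Coprime r ∧ D = cz x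

variable {D : Subgroup G}

theorem Ctx.good_exists_r (c : Ctx N m r z) (hD : Good N r D) :
    ∃ y ∈ D, y ∉ Subgroup.center G ∧ (∃ k : ℕ, y ^ r ^ k = 1) ∧ cz y = D := by
  obtain ⟨x, hx, hxc, hxr, rfl⟩ := hD
  obtain ⟨P, -, hPC, hP, hcard⟩ := exists_sylow_image (p := r) (cz x) ⊥ bot_le IsPGroup.of_bot
  have h1 : ∃ y ∈ P, y ∉ Subgroup.center G := by
    by_contra hcon
    push Not at hcon
    have hPW : P ≤ W N r := fun g hg => by
      obtain ⟨k, hk⟩ := exists_pow_of_isPGroup hP hg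
      exact mem_W.mpr ⟨c.hrN g k hk, hcon g hg, k, hk⟩
    have h2 := Subgroup.card_le_of_le hPW
    have h3 := c.card_W_lt
    rw [← c.ordProj_eq hx hxc, ← hcard] at h3
    omega
  obtain ⟨y, hy, hyc⟩ := h1
  obtain ⟨k, hk⟩ := exists_pow_of_isPGroup hP hy
  have hyN := c.hrN y k hk
  have hcm : Commute x y := mem_cz.mp (hPC hy)
  have hco := coprime_of_pow hk hxr
  have le1 : cz x ≤ cz y := c.H.le_of_coprime hx hxc hyN hcm hco.symm
  have le2 : cz y ≤ cz x := c.H.le_of_coprime hyN hyc hx hcm.symm hco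
  exact ⟨y, hPC hy, hyc, ⟨k, hk⟩, le_antisymm le2 le1⟩

theorem Ctx.good_central (c : Ctx N m r z) (hD : Good N r D) {u v : G} (hu : u ∈ D) (huN : u ∈ N)
    (hv : v ∈ D) : u * v = v * u := by
  obtain ⟨y, hy, hyc, ⟨k, hk⟩, hyD⟩ := c.good_exists_r hD
  have hyN := c.hrN y k hk
  obtain ⟨x, hx, hxc, hxr, rfl⟩ := hD
  obtain ⟨a, b, hab, hcomm, ⟨l, hl⟩, hb, ha', hb'⟩ :=
    exists_pPart_pPrimePart r u (isOfFinOrder_of_finite u)
  have hzp1 : Subgroup.zpowers u ≤ cz x := Subgroup.zpowers_le.mpr hu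
  have hzp2 : Subgroup.zpowers u ≤ N := Subgroup.zpowers_le.mpr huN
  have h1 : cz x ≤ cz a := c.H.le_of_coprime hx hxc (hzp2 ha') (mem_cz.mp (hzp1 ha'))
    (coprime_of_pow hl hxr).symm
  have h2 : cz y ≤ cz b := c.H.le_of_coprime hyN hyc (hzp2 hb')
    (mem_cz.mp (by rw [hyD]; exact hzp1 hb')) (coprime_of_pow hk hb)
  have h3 : a * v = v * a := mem_cz.mp (h1 hv)
  have h4 : b * v = v * b := mem_cz.mp (h2 (by rw [hyD]; exact hv))
  rw [← hab]
  calc a * b * v = a * (v * b) := by rw [mul_assoc, h4]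
    _ = (a * v) * b := by group
    _ = v * a * b := by rw [h3]
    _ = _ := by group

theorem Ctx.good_cz (c : Ctx N m r z) (hD : Good N r D) {u : G} (hu : u ∈ D) (huN : u ∈ N)
    (huc : u ∉ Subgroup.center G) : cz u = D := by
  have h := fun v (hv : v ∈ D) => mem_cz.mpr (c.good_central hD hu huN hv)
  obtain ⟨x, hx, hxc, hxr, rfl⟩ := hD
  exact (c.H.eq_of_le hx hxc huN huc h).symm

theorem Ctx.good_comm (c : Ctx N m r z) (hD : Good N r D) :
    ∀ a ∈ D ⊓ N, ∀ b ∈ D ⊓ N, Commute a b := fun _ ha _ hb =>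
  c.good_central hD (Subgroup.mem_inf.mp ha).1 (Subgroup.mem_inf.mp ha).2 (Subgroup.mem_inf.mp hb).1

/-- The `p`-part of `D ∩ N`. -/
def Ctx.part (c : Ctx N m r z) (hD : Good N r D) (p : ℕ) : Subgroup G :=
  pPart (D ⊓ N) p (c.good_comm hD)

theorem Ctx.mem_part (c : Ctx N m r z) (hD : Good N r D) {p : ℕ} {g : G} :
    g ∈ c.part hD p ↔ g ∈ D ∧ g ∈ N ∧ ∃ k : ℕ, g ^ p ^ k = 1 := by
  constructor
  · rintro ⟨h1, h2⟩
    exact ⟨(Subgroup.mem_inf.mp h1).1, (Subgroup.mem_inf.mp h1).2, h2⟩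
  · rintro ⟨h1, h2, h3⟩
    exact ⟨Subgroup.mem_inf.mpr ⟨h1, h2⟩, h3⟩

theorem Ctx.isPGroup_part (c : Ctx N m r z) (hD : Good N r D) (p : ℕ) :
    IsPGroup p (c.part hD p) := isPGroup_pPart _ _ _

theorem Ctx.part_le (c : Ctx N m r z) (hD : Good N r D) (p : ℕ) : c.part hD p ≤ D :=
  fun _ hg => ((c.mem_part hD).mp hg).1

theorem Ctx.part_le_N (c : Ctx N m r z) (hD : Good N r D) (p : ℕ) : c.part hD p ≤ N :=
  fun _ hg => ((c.mem_part hD).mp hg).2.1

theorem Ctx.W_le_part (c : Ctx N m r z) (hD : Good N r D) (p : ℕ) : W N p ≤ c.part hD p := by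
  intro g hg
  obtain ⟨h1, h2, h3⟩ := mem_W.mp hg
  refine (c.mem_part hD).mpr ⟨?_, h1, h3⟩
  obtain ⟨x, -, -, -, rfl⟩ := hD
  rw [mem_cz]
  exact (Subgroup.mem_center_iff.mp h2 x)

theorem Ctx.not_center_of_not_W (c : Ctx N m r z) (hD : Good N r D) {p : ℕ} {y : G}
    (hy : y ∈ c.part hD p) (hyW : y ∉ W N p) : y ∉ Subgroup.center G := by
  intro h
  obtain ⟨-, h2, h3⟩ := (c.mem_part hD).mp hy
  exact hyW (mem_W.mpr ⟨h2, h, h3⟩)

theorem Ctx.cz_of_part (c : Ctx N m r z) (hD : Good N r D) {p : ℕ} {y : G}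
    (hy : y ∈ c.part hD p) (hyc : y ∉ Subgroup.center G) : cz y = D :=
  c.good_cz hD ((c.mem_part hD).mp hy).1 ((c.mem_part hD).mp hy).2.1 hyc

theorem Ctx.card_part_r (c : Ctx N m r z) (hD : Good N r D) :
    Nat.card (c.part hD r) = ordProj[r] (Nat.card (cz z)) := by
  have hDo : ordProj[r] (Nat.card D) = ordProj[r] (Nat.card (cz z)) := by
    obtain ⟨x, hx, hxc, -, rfl⟩ := hD
    exact c.ordProj_eq hx hxc
  rw [← hDo]
  refine le_antisymm (card_le_ordProj (c.part_le hD r) (c.isPGroup_part hD r)) ?_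
  obtain ⟨P, -, hPC, hP, hcard⟩ := exists_sylow_image (p := r) D ⊥ bot_le IsPGroup.of_bot
  rw [← hcard]
  refine Subgroup.card_le_of_le (fun g hg => ?_)
  obtain ⟨k, hk⟩ := exists_pow_of_isPGroup hP hg
  exact (c.mem_part hD).mpr ⟨hPC hg, c.hrN g k hk, k, hk⟩

theorem Ctx.not_le (c : Ctx N m r z) (hD : Good N r D) : ¬ N ≤ D := by
  intro h
  obtain ⟨x, hx, hxc, -, rfl⟩ := hD
  let Q : Sylow r G := default
  have hQ : (Q : Subgroup G) ≤ cz x := fun g hg => by
    obtain ⟨k, hk⟩ := exists_pow_of_isPGroup Q.isPGroup' hg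
    exact h (c.hrN g k hk)
  have h1 : (cz x).index ∣ (Q : Subgroup G).index := Subgroup.index_dvd_of_le hQ
  rw [c.H.index_eq hx hxc] at h1
  exact Q.not_dvd_index (c.hrm.trans h1)

/-- A `G`-conjugate of an `r`-element: the `r`-part of `C_G(x₁)` is an orbit argument for `S`. -/
theorem Ctx.lemmaA (c : Ctx N m r z) {s : ℕ} [hs : Fact s.Prime] (hsr : s ≠ r) {t₀ : G} (ht₀ : t₀ ∈ N)
    (ht₀c : t₀ ∉ Subgroup.center G) (hk : ∃ k : ℕ, t₀ ^ s ^ k = 1) :
    ordProj[s] m * Nat.card (W N r) < ordProj[r] (Nat.card (cz z)) := by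
  have hzp : IsPGroup s (Subgroup.zpowers t₀) := isPGroup_of_forall (fun g hg => by
    obtain ⟨k, hk⟩ := hk
    obtain ⟨i, rfl⟩ := Subgroup.mem_zpowers_iff.mp hg
    exact ⟨k, by rw [← zpow_natCast, ← zpow_mul, mul_comm, zpow_mul, zpow_natCast, hk, one_zpow]⟩)
  obtain ⟨S, hS⟩ := hzp.exists_le_sylow
  have htS : t₀ ∈ (S : Subgroup G) := hS (Subgroup.mem_zpowers t₀)
  obtain ⟨x, hxS, hxN, hxc, hnorm⟩ := exists_central_mod S.isPGroup' htS ht₀ ht₀c
  have hxr : (orderOf x).Coprime r := by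
    obtain ⟨l, hl⟩ := exists_pow_of_isPGroup S.isPGroup' hxS
    exact Nat.Coprime.coprime_dvd_left (orderOf_dvd_of_pow_eq_one hl)
      (Nat.Coprime.pow_left l ((Nat.coprime_primes hs.out hr.out).mpr hsr))
  have hD : Good N r (cz x) := ⟨x, hxN, hxc, hxr, rfl⟩
  obtain ⟨y, hy, hyc, ⟨k, hk⟩, hyD⟩ := c.good_exists_r hD
  have hN_D : ∀ g ∈ (S : Subgroup G), ∀ v ∈ cz x, g * v * g⁻¹ ∈ cz x := by
    intro g hg v hv
    have h1 := hnorm g hg
    set e := x⁻¹ * (g * x * g⁻¹) with he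
    have h2 : g * x * g⁻¹ = x * e := by rw [he]; group
    have h3 : g * v * g⁻¹ ∈ cz (g * x * g⁻¹) := conj_mem_cz hv
    rw [h2, mem_cz] at h3
    rw [mem_cz]
    have h4 := Subgroup.mem_center_iff.mp h1 (g * v * g⁻¹)
    have h5 : x * (g * v * g⁻¹) * e = (g * v * g⁻¹) * x * e := by
      calc x * (g * v * g⁻¹) * e = x * ((g * v * g⁻¹) * e) := by group
        _ = x * (e * (g * v * g⁻¹)) := by rw [h4]
        _ = x * e * (g * v * g⁻¹) := by group
        _ = g * v * g⁻¹ * (x * e) := h3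
        _ = _ := by group
    exact mul_right_cancel h5
  have hb := orbit_bound (p := r) (A := (S : Subgroup G)) (A₀ := cz x ⊓ (S : Subgroup G))
    (Y := c.part hD r) (Y₀ := W N r) (c.W_le_part hD r) (c.isPGroup_part hD r)
    ⟨y, (c.mem_part hD).mpr ⟨hy, c.hrN y k hk, k, hk⟩, fun h => hyc (mem_W.mp h).2.1⟩
    (fun a ha u hu => by
      obtain ⟨h1, h2, l, hl⟩ := (c.mem_part hD).mp hu
      refine (c.mem_part hD).mpr ⟨hN_D a ha u h1, hNn.conj_mem u h2 a, l, ?_⟩
      rw [conj_pow, hl]; group)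
    (fun a _ u hu => by rw [conj_of_mem_W hu]; exact hu)
    (fun a ha u hu huW => by
      have h1 := c.cz_of_part hD hu (c.not_center_of_not_W hD hu huW)
      rw [Subgroup.mem_inf, ← h1]
      constructor
      · intro h
        refine ⟨?_, ha⟩
        rw [mem_cz]
        have h2 : a * u = u * a := by
          calc a * u = a * u * a⁻¹ * a := by group
            _ = u * a := by rw [h]
        exact h2.symm
      · rintro ⟨h, -⟩
        have h2 := mem_cz.mp h
        rw [← h2]; group)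
    (by
      rw [Subgroup.inf_relIndex_right]
      obtain ⟨e, he⟩ := IsPGroup.iff_card.mp S.isPGroup'
      have h1 : (cz x).relIndex (S : Subgroup G) ∣ s ^ e := by
        rw [← he]; exact Subgroup.relIndex_dvd_card _ _
      exact Nat.Coprime.coprime_dvd_left h1
        (Nat.Coprime.pow_left e ((Nat.coprime_primes hs.out hr.out).mpr hsr)))
  rw [Subgroup.inf_relIndex_right, c.card_part_r hD] at hb
  refine lt_of_le_of_lt (Nat.mul_le_mul_right _ ?_) hb
  -- `m_s ≤ |S : S ∩ C(x)|`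
  have h1 := card_inf_mul_relIndex (cz x) (S : Subgroup G)
  have h2 : Nat.card (S : Subgroup G) = ordProj[s] (Nat.card G) := S.card_eq_multiplicity
  have h3 : Nat.card G = Nat.card (cz x) * m := by
    rw [← c.H.index_eq hxN hxc, Subgroup.card_mul_index]
  have hm0 : m ≠ 0 := by
    rw [← c.H.index_eq hxN hxc]
    exact Subgroup.index_ne_zero_of_finite
  have h4 : Nat.card (cz x ⊓ (S : Subgroup G) : Subgroup G) ≤ ordProj[s] (Nat.card (cz x)) :=
    card_le_ordProj inf_le_left (S.isPGroup'.to_le inf_le_right)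
  rw [h2, h3, Nat.ordProj_mul s Nat.card_pos.ne' hm0] at h1
  have h5 : 0 < Nat.card (cz x ⊓ (S : Subgroup G) : Subgroup G) := Nat.card_pos
  have h6 : 0 < ordProj[s] m := Nat.pos_of_ne_zero (pow_ne_zero _ hs.out.ne_zero)
  by_contra hlt
  push Not at hlt
  have h7 := Nat.mul_lt_mul_of_le_of_lt h4 hlt (Nat.pos_of_ne_zero (pow_ne_zero _ hs.out.ne_zero))
  rw [mul_comm _ ((cz x).relIndex _)] at h7
  nlinarith

/-- The reverse inequality: the `s`-part of a good `D ∩ N` modulo the centre has order at most the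
`s`-part of `m`. -/
theorem Ctx.lemmaII (c : Ctx N m r z) (hD : Good N r D) {s : ℕ} [hs : Fact s.Prime] (hsr : s ≠ r) :
    Nat.card (c.part hD s) ≤ ordProj[s] m * Nat.card (W N s) := by
  by_contra hBig
  push Not at hBig
  have hYτ : Nat.card (c.part hD s) ≤ ordProj[s] (Nat.card N) :=
    card_le_ordProj (c.part_le_N hD s) (c.isPGroup_part hD s)
  have hpos : 0 < ordProj[s] (Nat.card N) := Nat.pos_of_ne_zero (pow_ne_zero _ hs.out.ne_zero)
  have hsr' : ∀ g : G, ∀ k : ℕ, g ^ s ^ k = 1 → (orderOf g).Coprime r := fun g k hg =>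
    Nat.Coprime.coprime_dvd_left (orderOf_dvd_of_pow_eq_one hg)
      (Nat.Coprime.pow_left k ((Nat.coprime_primes hs.out hr.out).mpr hsr))
  -- Step 1
  have step1 : ∀ u ∈ N, u ∉ Subgroup.center G →
      ∃ t ∈ cz u, t ∈ N ∧ t ∉ Subgroup.center G ∧ ∃ k : ℕ, t ^ s ^ k = 1 := by
    intro u hu huc
    by_contra hcon
    push Not at hcon
    obtain ⟨P, -, hPC, hP, hcard⟩ :=
      exists_sylow_image (p := s) (cz u ⊓ N) ⊥ bot_le IsPGroup.of_bot
    have hPW : P ≤ W N s := by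
      intro g hg
      obtain ⟨k, hk⟩ := exists_pow_of_isPGroup hP hg
      have h1 := Subgroup.mem_inf.mp (hPC hg)
      refine mem_W.mpr ⟨h1.2, ?_, k, hk⟩
      by_contra hgc
      exact hcon g h1.1 h1.2 hgc k hk
    have h1 := ordProj_card_dvd c.H hu huc s
    rw [← hcard] at h1
    have h2 := Nat.le_of_dvd (Nat.mul_pos Nat.card_pos
      (Nat.pos_of_ne_zero (pow_ne_zero _ hs.out.ne_zero))) h1
    have h3 := Subgroup.card_le_of_le hPW
    have h4 : Nat.card P * ordProj[s] m ≤ ordProj[s] m * Nat.card (W N s) := by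
      rw [mul_comm]
      exact Nat.mul_le_mul_left _ h3
    omega
  -- Step 2
  have step2 : ∀ t ∈ N, t ∉ Subgroup.center G → (∃ k : ℕ, t ^ s ^ k = 1) →
      ∃ n ∈ N, n * t * n⁻¹ ∈ D := by
    rintro t ht htc ⟨k, hk⟩
    have hD' : Good N r (cz t) := ⟨t, ht, htc, hsr' t k hk, rfl⟩
    obtain ⟨T, hYT, hTN, hT, hTcard⟩ := exists_sylow_image (p := s) N (c.part hD s)
      (c.part_le_N hD s) (c.isPGroup_part hD s)
    obtain ⟨n, hn, hnT⟩ := exists_conj_le hTN hTcard (c.part_le_N hD' s) (c.isPGroup_part hD' s)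
    refine ⟨n, hn, ?_⟩
    by_contra ht₁
    let Q := (c.part hD' s).map (MulAut.conj n).toMonoidHom
    have hQT : Q ≤ T := by
      rintro _ ⟨v, hv, rfl⟩
      exact hnT v hv
    have hQY : Q ⊓ c.part hD s ≤ W N s := by
      intro v hv
      obtain ⟨⟨v', hv', rfl⟩, hvY⟩ := Subgroup.mem_inf.mp hv
      obtain ⟨-, h2, l, hl⟩ := (c.mem_part hD).mp hvY
      refine mem_W.mpr ⟨h2, ?_, l, hl⟩
      by_contra hvc
      apply ht₁
      have h3 := c.cz_of_part hD hvY hvc
      rw [← h3, mem_cz]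
      have h4 : n * v' * n⁻¹ ∈ cz (n * t * n⁻¹) :=
        conj_mem_cz ((c.mem_part hD').mp hv').1
      exact (mem_cz.mp h4).symm
    have h5 := card_mul_card_le hQT (le_trans hYT le_rfl) hQY
    have h6 : Nat.card Q = ordProj[s] (Nat.card (cz t ⊓ N : Subgroup G)) := by
      rw [card_map_conj]
      exact card_pPart
    have h7 := ordProj_card_dvd c.H ht htc s
    rw [← h6] at h7
    have hQ0 : 0 < Nat.card Q := Nat.card_pos
    have h8 := Nat.le_of_dvd (Nat.mul_pos hQ0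
      (Nat.pos_of_ne_zero (pow_ne_zero _ hs.out.ne_zero))) h7
    rw [hTcard] at h5
    have h9 : Nat.card Q * Nat.card (c.part hD s) ≤
        Nat.card Q * (ordProj[s] m * Nat.card (W N s)) := by
      calc Nat.card Q * Nat.card (c.part hD s)
          ≤ ordProj[s] (Nat.card N) * Nat.card (W N s) := h5
        _ ≤ (Nat.card Q * ordProj[s] m) * Nat.card (W N s) := Nat.mul_le_mul_right _ h8
        _ = _ := by ring
    have h10 := Nat.le_of_mul_le_mul_left h9 hQ0
    omega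
  -- Step 3
  apply c.not_le hD
  apply le_of_conj_cover
  intro u hu
  by_cases huc : u ∈ Subgroup.center G
  · refine ⟨1, N.one_mem, ?_⟩
    have : (1 : G) * u * 1⁻¹ = u := by group
    rw [this]
    obtain ⟨x, -, -, -, rfl⟩ := hD
    rw [mem_cz]
    exact (Subgroup.mem_center_iff.mp huc x)
  · obtain ⟨t, htu, htN, htc, hk⟩ := step1 u hu huc
    obtain ⟨n, hn, htD⟩ := step2 t htN htc hk
    refine ⟨n, hn, ?_⟩
    have h1 : cz (n * t * n⁻¹) = D := c.good_cz hD htD (hNn.conj_mem t htN n)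
      (fun h => htc (conj_mem_center_iff.mp h))
    rw [← h1]
    exact conj_mem_cz (mem_cz.mpr (mem_cz.mp htu).symm)

theorem Ctx.norm_D (c : Ctx N m r z) (hD : Good N r D) {a : G}
    (ha : a ∈ Subgroup.normalizer (c.part hD r : Set G)) {v : G} (hv : v ∈ D) : a * v * a⁻¹ ∈ D := by
  obtain ⟨y, hy, hyc, ⟨k, hk⟩, hyD⟩ := c.good_exists_r hD
  have hyX : y ∈ c.part hD r := (c.mem_part hD).mpr ⟨hy, c.hrN y k hk, k, hk⟩
  have h1 : a * y * a⁻¹ ∈ c.part hD r := (Subgroup.mem_set_normalizer_iff.mp ha y).mp hyX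
  have h2 := c.cz_of_part hD h1 (fun h => hyc (conj_mem_center_iff.mp h))
  rw [← h2]
  exact conj_mem_cz (by rw [hyD]; exact hv)

theorem Ctx.conj_part_of_D (c : Ctx N m r z) (hD : Good N r D) {p : ℕ} {a : G}
    (ha : ∀ v ∈ D, a * v * a⁻¹ ∈ D) {y : G} (hy : y ∈ c.part hD p) : a * y * a⁻¹ ∈ c.part hD p := by
  obtain ⟨h1, h2, l, hl⟩ := (c.mem_part hD).mp hy
  refine (c.mem_part hD).mpr ⟨ha y h1, hNn.conj_mem y h2 a, l, ?_⟩
  rw [conj_pow, hl]; group

/-- If `a` does not normalize the `r`-part `X` then `X` and `X^a` meet in central elements. -/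
theorem Ctx.ti (c : Ctx N m r z) (hD : Good N r D) {a : G}
    (ha : a ∉ Subgroup.normalizer (c.part hD r : Set G)) :
    (c.part hD r).map (MulAut.conj a).toMonoidHom ⊓ c.part hD r ≤ W N r := by
  intro v hv
  obtain ⟨⟨v', hv', rfl⟩, hvX⟩ := Subgroup.mem_inf.mp hv
  obtain ⟨-, h2, l, hl⟩ := (c.mem_part hD).mp hvX
  refine mem_W.mpr ⟨h2, ?_, l, hl⟩
  by_contra hvc
  apply ha
  have hv'c : v' ∉ Subgroup.center G := fun h => hvc (conj_mem_center_iff.mpr h)
  have h3 := c.cz_of_part hD hvX hvc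
  have h4 := c.cz_of_part hD hv' hv'c
  have h5 : ∀ w ∈ D, a * w * a⁻¹ ∈ D := fun w hw => by
    have h6 : a * w * a⁻¹ ∈ cz (a * v' * a⁻¹) := conj_mem_cz (by rw [h4]; exact hw)
    have h7 : cz (a * v' * a⁻¹) = D := h3
    rwa [h7] at h6
  exact Cfsg.Agent.Lib.Transfer.Cor4.mem_normalizer_of_conj_mem
    (fun t ht => c.conj_part_of_D hD h5 ht)

/-- The key inequality for `N_R(X)`. -/
theorem Ctx.star (c : Ctx N m r z) (hD : Good N r D) (R : Sylow r G) (hXR : c.part hD r ≤ R)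
    {s : ℕ} [hs : Fact s.Prime] (hsr : s ≠ r) {t : G} (ht : t ∈ D) (htN : t ∈ N)
    (htc : t ∉ Subgroup.center G) (hk : ∃ k : ℕ, t ^ s ^ k = 1) :
    Nat.card ((R : Subgroup G) ⊓ Subgroup.normalizer (c.part hD r : Set G) : Subgroup G) *
      Nat.card (W N r) < Nat.card (c.part hD r) * Nat.card (c.part hD r) := by
  set X := c.part hD r with hX
  let L : Subgroup G := (R : Subgroup G) ⊓ Subgroup.normalizer (X : Set G)
  have hLp : IsPGroup r L := R.isPGroup'.to_le inf_le_left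
  have hb := orbit_bound (p := s) (A := L) (A₀ := X)
    (Y := c.part hD s) (Y₀ := W N s) (c.W_le_part hD s) (c.isPGroup_part hD s)
    ⟨t, (c.mem_part hD).mpr ⟨ht, htN, hk⟩, fun h => htc (mem_W.mp h).2.1⟩
    (fun a ha u hu => c.conj_part_of_D hD (fun v hv => c.norm_D hD (Subgroup.mem_inf.mp ha).2 hv) hu)
    (fun a _ u hu => by rw [conj_of_mem_W hu]; exact hu)
    (fun a ha u hu huW => by
      have h1 := c.cz_of_part hD hu (c.not_center_of_not_W hD hu huW)
      constructor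
      · intro h
        have h2 : a * u = u * a := by
          calc a * u = a * u * a⁻¹ * a := by group
            _ = u * a := by rw [h]
        have h3 : a ∈ D := by rw [← h1, mem_cz]; exact h2.symm
        obtain ⟨l, hl⟩ := exists_pow_of_isPGroup hLp ha
        exact (c.mem_part hD).mpr ⟨h3, c.hrN a l hl, l, hl⟩
      · intro h
        have h2 := mem_cz.mp (show a ∈ cz u by rw [h1]; exact c.part_le hD r h)
        rw [← h2]; group)
    (by
      obtain ⟨e, he⟩ := IsPGroup.iff_card.mp hLp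
      have h1 : X.relIndex L ∣ r ^ e := by
        rw [← he]; exact Subgroup.relIndex_dvd_card _ _
      exact Nat.Coprime.coprime_dvd_left h1
        (Nat.Coprime.pow_left e ((Nat.coprime_primes hr.out hs.out).mpr hsr.symm)))
  have hII := c.lemmaII hD hsr
  have hq : X.relIndex L < ordProj[s] m :=
    Nat.lt_of_mul_lt_mul_right (lt_of_lt_of_le hb hII)
  have hA := c.lemmaA hsr htN htc hk
  rw [← c.card_part_r hD] at hA
  have hXL : X ≤ L := le_inf hXR Subgroup.le_normalizer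
  have h1 := card_inf_mul_relIndex X L
  rw [inf_eq_left.mpr hXL] at h1
  show Nat.card L * Nat.card (W N r) < _
  rw [← h1]
  have hX0 : 0 < Nat.card X := Nat.card_pos
  have h2 : X.relIndex L * Nat.card (W N r) < Nat.card X :=
    lt_of_le_of_lt (Nat.mul_le_mul_right _ hq.le) hA
  calc Nat.card X * X.relIndex L * Nat.card (W N r)
      = Nat.card X * (X.relIndex L * Nat.card (W N r)) := by ring
    _ < Nat.card X * Nat.card X := Nat.mul_lt_mul_of_pos_left h2 hX0

/-- `X` is normal in `R`. -/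
theorem Ctx.normal_R (c : Ctx N m r z) (hD : Good N r D) (R : Sylow r G) (hXR : c.part hD r ≤ R)
    {s : ℕ} [hs : Fact s.Prime] (hsr : s ≠ r) {t : G} (ht : t ∈ D) (htN : t ∈ N)
    (htc : t ∉ Subgroup.center G) (hk : ∃ k : ℕ, t ^ s ^ k = 1) :
    (R : Subgroup G) ≤ Subgroup.normalizer (c.part hD r : Set G) := by
  set X := c.part hD r with hX
  by_contra hcon
  let L' : Subgroup R := (Subgroup.normalizer (X : Set G)).subgroupOf R
  have hL' : L' ≠ ⊤ := by
    intro h
    apply hcon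
    intro g hg
    have : (⟨g, hg⟩ : R) ∈ L' := by rw [h]; trivial
    exact Subgroup.mem_subgroupOf.mp this
  haveI : Group.IsNilpotent R := R.isPGroup'.isNilpotent
  have hnc := Group.normalizerCondition_of_isNilpotent (G := R) L' (lt_top_iff_ne_top.mpr hL')
  obtain ⟨a, ha, ha'⟩ := SetLike.exists_of_lt hnc
  have haX : (a : G) ∉ Subgroup.normalizer (X : Set G) := fun h => ha' (by
    simpa [L', Subgroup.mem_subgroupOf] using h)
  let L : Subgroup G := (R : Subgroup G) ⊓ Subgroup.normalizer (X : Set G)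
  have hXL : X ≤ L := le_inf hXR Subgroup.le_normalizer
  have hQL : X.map (MulAut.conj (a : G)).toMonoidHom ≤ L := by
    rintro _ ⟨v, hv, rfl⟩
    have h1 : (⟨v, hXR hv⟩ : R) ∈ L' := by
      show (v : G) ∈ Subgroup.normalizer (X : Set G)
      exact Subgroup.le_normalizer hv
    have h2 := (Subgroup.mem_set_normalizer_iff.mp ha _).mp h1
    have h3 : (a : G) * v * (a : G)⁻¹ ∈ Subgroup.normalizer (X : Set G) := by
      simpa [L', Subgroup.mem_subgroupOf] using h2
    exact Subgroup.mem_inf.mpr ⟨R.1.mul_mem (R.1.mul_mem a.2 (hXR hv)) (R.1.inv_mem a.2), h3⟩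
  have h4 := card_mul_card_le hQL hXL (c.ti hD haX)
  rw [card_map_conj] at h4
  have h5 := c.star hD R hXR hsr ht htN htc hk
  have h6 : Nat.card X * Nat.card X ≤ Nat.card L * Nat.card (W N r) := h4
  have h7 : Nat.card L * Nat.card (W N r) < Nat.card X * Nat.card X := h5
  omega

/-- `|R| |W| < |X|²`. -/
theorem Ctx.star2 (c : Ctx N m r z) (hD : Good N r D) (R : Sylow r G) (hXR : c.part hD r ≤ R)
    {s : ℕ} [hs : Fact s.Prime] (hsr : s ≠ r) {t : G} (ht : t ∈ D) (htN : t ∈ N)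
    (htc : t ∉ Subgroup.center G) (hk : ∃ k : ℕ, t ^ s ^ k = 1) :
    Nat.card R * Nat.card (W N r) < Nat.card (c.part hD r) * Nat.card (c.part hD r) := by
  have h1 := c.star hD R hXR hsr ht htN htc hk
  rwa [inf_eq_left.mpr (c.normal_R hD R hXR hsr ht htN htc hk)] at h1

/-- The main theorem for `r ∣ m`: no non-central `r'`-element exists in `N`. -/
theorem Ctx.false_of_good (c : Ctx N m r z) {x : G} (hx : x ∈ N) (hxc : x ∉ Subgroup.center G)
    (hxr : (orderOf x).Coprime r) : False := by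
  have hD : Good N r (cz x) := ⟨x, hx, hxc, hxr, rfl⟩
  obtain ⟨s, hs, hsr, t, htz, htc, hk⟩ := exists_primary hxc hxr
  have ht : t ∈ cz x := by
    have : Subgroup.zpowers x ≤ cz x := Subgroup.zpowers_le.mpr (mem_cz.mpr rfl)
    exact this htz
  have htN : t ∈ N := (Subgroup.zpowers_le.mpr hx) htz
  set X := c.part hD r with hX
  obtain ⟨R, hXR⟩ := (c.isPGroup_part hD r).exists_le_sylow
  have h2 : Nat.card R * Nat.card (W N r) < Nat.card X * Nat.card X :=
    c.star2 hD R hXR hsr ht htN htc hk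
  have hcardX : Nat.card X = ordProj[r] (Nat.card (cz z)) := c.card_part_r hD
  have hRN : (R : Subgroup G) ≤ N := fun g hg => by
    obtain ⟨k, hk⟩ := exists_pow_of_isPGroup R.isPGroup' hg
    exact c.hrN g k hk
  -- `N_G(R)` normalizes `X`
  have hnorm : ∀ k ∈ Subgroup.normalizer ((R : Subgroup G) : Set G),
      k ∈ Subgroup.normalizer (X : Set G) := by
    intro k hk'
    by_contra hk''
    have hQ : X.map (MulAut.conj k).toMonoidHom ≤ R := by
      rintro _ ⟨v, hv, rfl⟩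
      exact (Subgroup.mem_set_normalizer_iff.mp hk' v).mp (hXR hv)
    have h4 : Nat.card X * Nat.card X ≤ Nat.card R * Nat.card (W N r) := by
      have h5 := card_mul_card_le hQ hXR (c.ti hD hk'')
      rwa [card_map_conj] at h5
    omega
  -- noncentral `r`-elements are `N`-conjugate into `X`
  have hconj : ∀ g ∈ N, g ∉ Subgroup.center G → (∃ k : ℕ, g ^ r ^ k = 1) →
      ∃ n ∈ N, n * g * n⁻¹ ∈ X := by
    rintro g hg hgc ⟨k, hk⟩
    have hzp : IsPGroup r (Subgroup.zpowers g) := isPGroup_of_forall (fun w hw => by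
      obtain ⟨i, rfl⟩ := Subgroup.mem_zpowers_iff.mp hw
      exact ⟨k, by rw [← zpow_natCast, ← zpow_mul, mul_comm, zpow_mul, zpow_natCast, hk, one_zpow]⟩)
    obtain ⟨P, hgP, hPC, hP, hcard⟩ := exists_sylow_image (p := r) (cz g) (Subgroup.zpowers g)
      (Subgroup.zpowers_le.mpr (mem_cz.mpr rfl)) hzp
    obtain ⟨R', hR'⟩ := hP.exists_le_sylow
    obtain ⟨h, hh⟩ := MulAction.exists_smul_eq G R' R
    have hconjP : ∀ v ∈ P, h * v * h⁻¹ ∈ (R : Subgroup G) := fun v hv => by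
      rw [← hh]
      exact Subgroup.mem_map_of_mem _ (hR' hv)
    let Q := P.map (MulAut.conj h).toMonoidHom
    have hQR : Q ≤ R := by
      rintro _ ⟨v, hv, rfl⟩
      exact hconjP v hv
    have hg₁ : h * g * h⁻¹ ∈ X := by
      by_contra hg₁
      have hQX : Q ⊓ X ≤ W N r := by
        intro v hv
        obtain ⟨⟨v', hv', rfl⟩, hvX⟩ := Subgroup.mem_inf.mp hv
        obtain ⟨-, h2', l, hl⟩ := (c.mem_part hD).mp hvX
        refine mem_W.mpr ⟨h2', ?_, l, hl⟩
        by_contra hvc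
        apply hg₁
        have h3 := c.cz_of_part hD hvX hvc
        have h4 : h * v' * h⁻¹ ∈ cz (h * g * h⁻¹) := conj_mem_cz (hPC hv')
        have h5 : h * g * h⁻¹ ∈ cz (h * v' * h⁻¹) := mem_cz.mpr (mem_cz.mp h4).symm
        have h6 : cz (h * v' * h⁻¹) = cz x := h3
        rw [h6] at h5
        refine (c.mem_part hD).mpr ⟨h5, hNn.conj_mem g hg h, k, ?_⟩
        rw [conj_pow, hk]; group
      have h4 : Nat.card Q * Nat.card X ≤ Nat.card R * Nat.card (W N r) :=
        card_mul_card_le hQR hXR hQX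
      have h5 : Nat.card Q = Nat.card X := by
        rw [card_map_conj, hcard, hcardX]
        exact c.ordProj_eq hg hgc
      rw [h5] at h4
      omega
    have hsup : Subgroup.normalizer ((R : Subgroup G) : Set G) ⊔ N = ⊤ :=
      Sylow.normalizer_sup_eq_top' (N := N) R hRN
    have hh' : h ∈ ((Subgroup.normalizer ((R : Subgroup G) : Set G) ⊔ N : Subgroup G) : Set G) := by
      rw [hsup]; trivial
    rw [Subgroup.mul_normal] at hh'
    obtain ⟨k', hk', n, hn, rfl⟩ := Set.mem_mul.mp hh'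
    refine ⟨n, hn, ?_⟩
    have h7 := Subgroup.mem_set_normalizer_iff.mp (hnorm k' hk') (n * g * n⁻¹)
    refine h7.mpr ?_
    have e : k' * (n * g * n⁻¹) * k'⁻¹ = k' * n * g * (k' * n)⁻¹ := by group
    rw [e]
    exact hg₁
  -- the cover
  apply c.not_le hD
  apply le_of_conj_cover
  intro u hu
  by_cases huc : u ∈ Subgroup.center G
  · refine ⟨1, N.one_mem, ?_⟩
    have : (1 : G) * u * 1⁻¹ = u := by group
    rw [this, mem_cz]
    exact (Subgroup.mem_center_iff.mp huc x)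
  · obtain ⟨a, b, hab, hcomm, ⟨l, hl⟩, hb, ha', hb'⟩ :=
      exists_pPart_pPrimePart r u (isOfFinOrder_of_finite u)
    have hzp2 : Subgroup.zpowers u ≤ N := Subgroup.zpowers_le.mpr hu
    have hcomm' : ∀ w ∈ Subgroup.zpowers u, u ∈ cz w := by
      intro w hw
      obtain ⟨i, rfl⟩ := Subgroup.mem_zpowers_iff.mp hw
      rw [mem_cz]
      exact ((Commute.refl u).zpow_left i)
    by_cases hac : a ∈ Subgroup.center G
    · have hbc : b ∉ Subgroup.center G := by
        intro h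
        apply huc
        rw [← hab]
        exact Subgroup.mul_mem _ hac h
      have hDb : Good N r (cz b) := ⟨b, hzp2 hb', hbc, hb, rfl⟩
      obtain ⟨y, hy, hyc, ⟨k, hk⟩, hyD⟩ := c.good_exists_r hDb
      obtain ⟨n, hn, hyX⟩ := hconj y (c.hrN y k hk) hyc ⟨k, hk⟩
      refine ⟨n, hn, ?_⟩
      have h1 : cz (n * y * n⁻¹) = cz x :=
        c.cz_of_part hD hyX (fun h => hyc (conj_mem_center_iff.mp h))
      rw [← h1]
      exact conj_mem_cz (by rw [hyD]; exact hcomm' b hb')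
    · obtain ⟨n, hn, haX⟩ := hconj a (hzp2 ha') hac ⟨l, hl⟩
      refine ⟨n, hn, ?_⟩
      have h1 : cz (n * a * n⁻¹) = cz x :=
        c.cz_of_part hD haX (fun h => hac (conj_mem_center_iff.mp h))
      rw [← h1]
      exact conj_mem_cz (hcomm' a ha')

end Main

/-- If all `r'`-elements of `N` are central in `N` then `N` is nilpotent. -/
theorem nilpotent_of_comm [Finite G] {N : Subgroup G} {r : ℕ} [hr : Fact r.Prime]
    (h : ∀ y ∈ N, (orderOf y).Coprime r → ∀ a ∈ N, y * a = a * y) : Group.IsNilpotent N := by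
  apply Group.of_quotient_center_nilpotent
  have hp : IsPGroup r (N ⧸ Subgroup.center N) := by
    intro q
    obtain ⟨x, rfl⟩ := QuotientGroup.mk_surjective q
    obtain ⟨a, b, hab, hcomm, ⟨l, hl⟩, hb, -, -⟩ :=
      exists_pPart_pPrimePart r x (isOfFinOrder_of_finite x)
    refine ⟨l, ?_⟩
    have hbc : b ∈ Subgroup.center N := by
      rw [Subgroup.mem_center_iff]
      intro g
      have h1 := h b b.2 (by simpa [Subgroup.orderOf_coe] using hb) g g.2
      exact Subtype.ext h1.symm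
    rw [← QuotientGroup.mk_pow, ← hab, hcomm.mul_pow, hl, one_mul]
    rw [QuotientGroup.eq_one_iff]
    exact Subgroup.pow_mem _ hbc _
  exact hp.isNilpotent

/-- `S4135`. -/
theorem nilpotent_of_two_sizes [Finite G] {N : Subgroup G} [N.Normal] {m r : ℕ} [hr : Fact r.Prime]
    (R : Sylow r G) (hR : ¬ (R : Subgroup G) ≤ Subgroup.center G) (hRN : (R : Subgroup G) ≤ N)
    (H : TwoSizes N m) : Group.IsNilpotent N := by
  obtain ⟨z, hzR, hzc⟩ := SetLike.not_le_iff_exists.mp hR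
  obtain ⟨k, hk⟩ := exists_pow_of_isPGroup R.isPGroup' hzR
  have hzN := hRN hzR
  have hrN : ∀ (g : G) (k : ℕ), g ^ r ^ k = 1 → g ∈ N := by
    intro g k hg
    have hzp : IsPGroup r (Subgroup.zpowers g) := isPGroup_of_forall (fun w hw => by
      obtain ⟨i, rfl⟩ := Subgroup.mem_zpowers_iff.mp hw
      exact ⟨k, by rw [← zpow_natCast, ← zpow_mul, mul_comm, zpow_mul, zpow_natCast, hg, one_zpow]⟩)
    obtain ⟨R', hR'⟩ := hzp.exists_le_sylow
    obtain ⟨h, hh⟩ := MulAction.exists_smul_eq G R' R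
    have h1 : h * g * h⁻¹ ∈ (R : Subgroup G) := by
      rw [← hh]
      exact Subgroup.mem_map_of_mem _ (hR' (Subgroup.mem_zpowers g))
    have h2 := Subgroup.Normal.conj_mem ‹N.Normal› _ (hRN h1) h⁻¹
    convert h2 using 1
    group
  by_cases hrm : r ∣ m
  · have c : Ctx N m r z := ⟨H, hrN, ⟨k, hk⟩, hzc, hrm⟩
    apply nilpotent_of_comm (r := r)
    intro y hy hyr a ha
    by_contra hya
    exact c.false_of_good hy (fun hc => hya (Subgroup.mem_center_iff.mp hc a).symm) hyr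
  · -- `r ∤ m`
    have hcov : N ≤ Subgroup.centralizer ((R : Subgroup G) : Set G) := by
      apply le_of_conj_cover
      intro u hu
      have hnd : ¬ r ∣ (cz u).index := by
        rcases H u hu with h | h
        · rw [h]; exact hr.out.one_lt.not_ge ∘ Nat.le_of_dvd one_pos
        · rw [h]; exact hrm
      obtain ⟨Q, -, hQ⟩ := exists_sylow_of_not_dvd_index r hnd (Commute.one_left u) ⟨0, by simp⟩
      obtain ⟨h, hh⟩ := MulAction.exists_smul_eq G Q R
      have hsup : Subgroup.normalizer ((R : Subgroup G) : Set G) ⊔ N = ⊤ :=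
      Sylow.normalizer_sup_eq_top' (N := N) R hRN
      have hh' : h ∈ ((Subgroup.normalizer ((R : Subgroup G) : Set G) ⊔ N : Subgroup G) : Set G) := by
        rw [hsup]; trivial
      rw [Subgroup.mul_normal] at hh'
      obtain ⟨k', hk', n, hn, rfl⟩ := Set.mem_mul.mp hh'
      refine ⟨n, hn, ?_⟩
      rw [Subgroup.mem_centralizer_iff]
      intro w hw
      -- `w = k' n q n⁻¹ k'⁻¹`-type computation
      have hw' : k' * w * k'⁻¹ ∈ (R : Subgroup G) := (Subgroup.mem_set_normalizer_iff.mp hk' w).mp hw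
      rw [← hh] at hw'
      obtain ⟨q, hq, hq'⟩ := hw'
      have hq2 := hQ q hq
      have hq3 : (k' * n) * q * (k' * n)⁻¹ = k' * w * k'⁻¹ := hq'
      have hw2 : w = n * q * n⁻¹ := by
        have : k' * (n * q * n⁻¹) * k'⁻¹ = k' * w * k'⁻¹ := by
          rw [← hq3]; group
        exact (mul_left_cancel (mul_right_cancel this)).symm
      rw [hw2]
      calc n * q * n⁻¹ * (n * u * n⁻¹) = n * (q * u) * n⁻¹ := by group
        _ = n * (u * q) * n⁻¹ := by rw [hq2]
        _ = _ := by group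
    have hN_cz : N ≤ cz z := fun a ha => by
      have := (Subgroup.mem_centralizer_iff.mp (hcov ha)) z hzR
      exact mem_cz.mpr this
    apply nilpotent_of_comm (r := r)
    intro y hy hyr a ha
    have h1 : cz z ≤ cz y := H.le_of_coprime hzN hzc hy (mem_cz.mp (hN_cz hy))
      (coprime_of_pow hk hyr)
    exact mem_cz.mp (h1 (hN_cz ha))

end Cfsg.Agent.Lib.Transfer.TwoGClassSizes
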