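import Cfsg.Agent.Lib.Transfer.Hall
import Cfsg.Agent.S0073

/-!
# Burnside's criterion via fixed point counting

If `P` is an abelian Sylow `p`-subgroup and no prime `q ≠ p` dividing `|G|` divides a number
`|P| - p^k` with `p^k < |P|`, then `N_G(P) = C_G(P)` and `G` has a normal `p`-complement.
-/

set_option autoImplicit false

namespace Cfsg.Agent.Lib.Transfer.SmallSylow

open Cfsg Cfsg.Agent.Lib.Transfer.Basic Cfsg.Agent.Lib.Transfer.Frobenius
open scoped Pointwise commutatorElement IsMulCommutative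

universe u

variable {G : Type u} [Group G] [Finite G] {p : ℕ} [hp : Fact p.Prime]

/-- The number of elements of `P` fixed by a `q`-element `y` normalizing `P` is congruent to `|P|`
modulo `q`. -/
theorem card_modEq_card_inf_centralizer (P : Subgroup G) {y : G}
    (hy : y ∈ Subgroup.normalizer (P : Set G)) {q k : ℕ} [Fact q.Prime] (hk : orderOf y = q ^ k) :
    Nat.card P ≡ Nat.card (P ⊓ Subgroup.centralizer ({y} : Set G) : Subgroup G) [MOD q] := by
  classical
  haveI := Fintype.ofFinite P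
  let f : Function.End P := fun z => ⟨y * z * y⁻¹, (mem_normalizer_iff'.mp hy z).mp z.2⟩
  have hpow : ∀ (m : ℕ) (z : P), (((f ^ m) z : P) : G) = y ^ m * z * (y ^ m)⁻¹ := by
    intro m
    induction m with
    | zero => intro z; simp; rfl
    | succ m ih =>
      intro z
      rw [pow_succ]
      change (((f ^ m) (f z) : P) : G) = _
      rw [ih]
      change y ^ m * (y * (z : G) * y⁻¹) * (y ^ m)⁻¹ = _
      rw [pow_succ]
      group
  have hf : f ^ q ^ k = 1 := by
    funext z
    apply Subtype.ext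
    rw [hpow, ← hk, pow_orderOf_eq_one]
    simp
    rfl
  have h1 := Equiv.Perm.card_fixedPoints_modEq hf
  rw [← Nat.card_eq_fintype_card, ← Nat.card_eq_fintype_card] at h1
  have h2 : Nat.card (Function.fixedPoints f) =
      Nat.card (P ⊓ Subgroup.centralizer ({y} : Set G) : Subgroup G) := by
    apply Nat.card_congr
    refine ⟨fun z => ⟨(z.1 : G), z.1.2, ?_⟩, fun z => ⟨⟨z.1, z.2.1⟩, ?_⟩, ?_, ?_⟩
    · refine Subgroup.mem_centralizer_iff.mpr ?_
      intro w hw
      rw [Set.mem_singleton_iff.mp hw]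
      have h3 : y * (z.1 : G) * y⁻¹ = z.1 := congrArg Subtype.val z.2
      calc y * (z.1 : G) = y * (z.1 : G) * y⁻¹ * y := by group
        _ = z.1 * y := by rw [h3]
    · apply Subtype.ext
      have h3 := Subgroup.mem_centralizer_iff.mp z.2.2 y rfl
      change y * (z : G) * y⁻¹ = z
      rw [h3]; group
    · intro z; rfl
    · intro z; rfl
  rwa [h2] at h1

/-- Burnside's criterion via fixed point counting. -/
theorem normalizer_le_centralizer_of_primes (P : Sylow p G) (hP : IsMulCommutative P)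
    (hcond : ∀ q : ℕ, q.Prime → q ≠ p → q ∣ Nat.card G → ∀ k : ℕ, p ^ k ∣ Nat.card P →
      p ^ k < Nat.card P → ¬ q ∣ Nat.card P - p ^ k) :
    Subgroup.normalizer ((P : Subgroup G) : Set G) ≤ Subgroup.centralizer ((P : Subgroup G) : Set G) := by
  intro x hx
  by_contra hxC
  obtain ⟨y, q, k, hq, hk, hy, hyC⟩ := Cfsg.Agent.S0073.exists_prime_pow_power _ x hxC
  haveI : Fact q.Prime := ⟨hq⟩
  have hyN : Subgroup.zpowers y ≤ Subgroup.normalizer ((P : Subgroup G) : Set G) :=
    Subgroup.zpowers_le.2 ((Subgroup.zpowers_le.2 hx) hy)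
  have hZp : IsPGroup q (Subgroup.zpowers y) :=
    IsPGroup.of_card (n := k) (by rw [Nat.card_zpowers, hk])
  have hqp : q ≠ p := by
    rintro rfl
    have h1 := hZp.inf_normalizer_sylow P
    have h2 : y ∈ Subgroup.zpowers y ⊓ (P : Subgroup G) := by
      rw [← h1]
      exact ⟨Subgroup.mem_zpowers y, hyN (Subgroup.mem_zpowers y)⟩
    apply hyC
    rw [Subgroup.mem_centralizer_iff]
    intro z hz
    have := hP.is_comm.comm (⟨z, hz⟩ : (P : Subgroup G)) ⟨y, h2.2⟩
    exact congrArg Subtype.val this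
  have hqdvd : q ∣ Nat.card G := by
    have hk0 : k ≠ 0 := by
      rintro rfl
      rw [pow_zero, orderOf_eq_one_iff] at hk
      rw [hk] at hyC
      exact hyC (Subgroup.one_mem _)
    have h1 : q ∣ orderOf y := by
      rw [hk]; exact dvd_pow_self _ hk0
    exact h1.trans (orderOf_dvd_natCard y)
  have hmod := card_modEq_card_inf_centralizer (P : Subgroup G)
    (hyN (Subgroup.mem_zpowers y)) hk
  set F : Subgroup G := (P : Subgroup G) ⊓ Subgroup.centralizer ({y} : Set G) with hF
  have hFdvd : Nat.card F ∣ Nat.card (P : Subgroup G) := Subgroup.card_dvd_of_le inf_le_left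
  obtain ⟨n, hn⟩ := IsPGroup.iff_card.mp P.isPGroup'
  obtain ⟨j, -, hj⟩ := (Nat.dvd_prime_pow hp.out).mp (hn ▸ hFdvd)
  have hFlt : Nat.card F < Nat.card (P : Subgroup G) := by
    apply lt_of_le_of_ne (Nat.le_of_dvd Nat.card_pos hFdvd)
    intro heq
    have hFP : F = (P : Subgroup G) :=
      Subgroup.eq_of_le_of_card_ge inf_le_left heq.ge
    apply hyC
    rw [Subgroup.mem_centralizer_iff]
    intro z hz
    have hz' : z ∈ F := hFP ▸ hz
    exact (Subgroup.mem_centralizer_iff.mp hz'.2 y rfl).symm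
  have hdvd : q ∣ Nat.card (P : Subgroup G) - Nat.card F :=
    (Nat.modEq_iff_dvd' hFlt.le).mp hmod.symm
  rw [hj] at hdvd hFlt hFdvd
  exact hcond q hq hqp hqdvd j hFdvd hFlt hdvd

theorem hasNormalPComplement_of_primes (P : Sylow p G) (hP : IsMulCommutative P)
    (hcond : ∀ q : ℕ, q.Prime → q ≠ p → q ∣ Nat.card G → ∀ k : ℕ, p ^ k ∣ Nat.card P →
      p ^ k < Nat.card P → ¬ q ∣ Nat.card P - p ^ k) :
    HasNormalPComplement p G :=
  ⟨P, _, inferInstance, MonoidHom.ker_transferSylow_isComplement' P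
    (normalizer_le_centralizer_of_primes P hP hcond)⟩

omit [Finite G] [hp : Fact p.Prime] in
/-- Groups of exponent two are commutative. -/
theorem isMulCommutative_of_sq {T : Subgroup G} (he : ∀ x : T, x * x = 1) : IsMulCommutative T := by
  refine ⟨⟨?_⟩⟩
  intro a b
  have h1 : a⁻¹ = a := inv_eq_of_mul_eq_one_left (he a)
  have h2 : b⁻¹ = b := inv_eq_of_mul_eq_one_left (he b)
  have h3 : (a * b)⁻¹ = a * b := inv_eq_of_mul_eq_one_left (he _)
  rw [← h3, mul_inv_rev, h1, h2]

/-- `S0084`. -/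
theorem klein_four_sylow (T : Sylow 2 G) (hT : IsKleinFour T) (h3 : ¬ 3 ∣ Nat.card G) :
    HasNormalPComplement 2 G := by
  have he : ∀ x : T, x * x = 1 := by
    intro x
    have h1 : x ^ Monoid.exponent (T : Subgroup G) = 1 := Monoid.pow_exponent_eq_one x
    rw [hT.exponent_two, pow_two] at h1
    exact h1
  apply hasNormalPComplement_of_primes T (isMulCommutative_of_sq he)
  intro q hq hq2 hqd k hk hk2
  have h4 : Nat.card T = 4 := hT.card_four
  rw [h4] at hk hk2 ⊢
  have hk3 : k < 2 := (Nat.pow_lt_pow_iff_right (by norm_num : 1 < 2)).mp (by simpa using hk2)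
  intro hd
  interval_cases k
  · have h5 : q ∣ 3 := by simpa using hd
    have h6 : q = 3 := (Nat.prime_dvd_prime_iff_eq hq Nat.prime_three).mp h5
    exact h3 (h6 ▸ hqd)
  · have h5 : q ∣ 2 := by simpa using hd
    exact hq2 ((Nat.prime_dvd_prime_iff_eq hq Nat.prime_two).mp h5)

/-- `S0085`. -/
theorem elementary_eight_sylow (T : Sylow 2 G) (h8 : Nat.card T = 8) (he : ∀ x : T, x * x = 1)
    (h3 : ¬ 3 ∣ Nat.card G) (h7 : ¬ 7 ∣ Nat.card G) : HasNormalPComplement 2 G := by
  apply hasNormalPComplement_of_primes T (isMulCommutative_of_sq he)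
  intro q hq hq2 hqd k hk hk2
  rw [h8] at hk hk2 ⊢
  have hk3 : k < 3 := (Nat.pow_lt_pow_iff_right (by norm_num : 1 < 2)).mp (by simpa using hk2)
  have hn2 : ¬ q ∣ 2 := fun h => hq2 ((Nat.prime_dvd_prime_iff_eq hq Nat.prime_two).mp h)
  intro hd
  interval_cases k
  · have h5 : q ∣ 7 := by simpa using hd
    have h6 : q = 7 := (Nat.prime_dvd_prime_iff_eq hq (by norm_num)).mp h5
    exact h7 (h6 ▸ hqd)
  · have h5 : q ∣ 2 * 3 := by simpa using hd
    rcases (Nat.Prime.dvd_mul hq).mp h5 with h6 | h6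
    · exact hn2 h6
    · have h7' : q = 3 := (Nat.prime_dvd_prime_iff_eq hq Nat.prime_three).mp h6
      exact h3 (h7' ▸ hqd)
  · have h5 : q ∣ 2 ^ 2 := by simpa using hd
    exact hn2 (hq.dvd_of_dvd_pow h5)

end Cfsg.Agent.Lib.Transfer.SmallSylow
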