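import Cfsg.Agent.S0042
import Cfsg.Agent.Lib.Frobenius.Conjugacy

/-!
# A subgroup central in every solvable overgroup is central
-/

set_option autoImplicit false
set_option linter.unusedSectionVars false
set_option linter.style.haveILetI false

namespace Cfsg.Agent.Lib.Transfer.SolvCentral

open Cfsg Cfsg.Agent.Lib.Frobenius.Basic Cfsg.Agent.Lib.Frobenius.Theorem
open scoped Pointwise

universe u

theorem isSolvable_sup {G : Type*} [Group G] (N H : Subgroup G) [hN : N.Normal]
    (h1 : Group.IsSolvable N) (h2 : Group.IsSolvable H) : Group.IsSolvable (N ⊔ H : Subgroup G) := by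
  let S : Subgroup G := N ⊔ H
  have hNS : N ≤ S := le_sup_left
  have hHS : H ≤ S := le_sup_right
  let N' : Subgroup S := N.subgroupOf S
  haveI : N'.Normal := Subgroup.normal_subgroupOf
  let φ : S →* S ⧸ N' := QuotientGroup.mk' N'
  let ψ : H →* S ⧸ N' := φ.comp (Subgroup.inclusion hHS)
  have hψ : Function.Surjective ψ := by
    intro q
    obtain ⟨s, rfl⟩ := QuotientGroup.mk_surjective q
    have hs : (s : G) ∈ (N * H : Set G) := by
      rw [← Subgroup.normal_mul]; exact s.2
    obtain ⟨n, hn, h, hh, e⟩ := Set.mem_mul.1 hs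
    refine ⟨⟨h, hh⟩, ?_⟩
    show ((Subgroup.inclusion hHS ⟨h, hh⟩ : S) : S ⧸ N') = (s : S ⧸ N')
    rw [QuotientGroup.eq]
    show ((Subgroup.inclusion hHS ⟨h, hh⟩ : S)⁻¹ * s : S).1 ∈ N
    have : ((Subgroup.inclusion hHS ⟨h, hh⟩ : S)⁻¹ * s : S).1 = h⁻¹ * n * h := by
      show h⁻¹ * (s : G) = _
      rw [← e]; group
    rw [this]
    have := hN.conj_mem n hn h⁻¹
    simpa using this
  haveI : Group.IsSolvable (S ⧸ N') := Group.isSolvable_of_surjective hψ
  let f : N →* S := Subgroup.inclusion hNS
  have hker : φ.ker ≤ f.range := by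
    intro s hs
    have : s ∈ N' := by simpa [φ] using hs
    exact ⟨⟨s, this⟩, rfl⟩
  exact Group.isSolvable_of_ker_le_range f φ hker

/-- A subgroup lying in a normal abelian subgroup, and central in each solvable overgroup,
is central. -/
theorem le_center_of_le_normal_abelian {G : Type*} [Group G] (A E : Subgroup G) [hE : E.Normal]
    (hcomm : ∀ x ∈ E, ∀ y ∈ E, x * y = y * x) (hAE : A ≤ E)
    (hc : ∀ S : Subgroup G, A ≤ S → Group.IsSolvable S → ∀ a ∈ A, ∀ s ∈ S, a * s = s * a) :
    A ≤ Subgroup.center G := by
  intro a ha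
  rw [Subgroup.mem_center_iff]
  intro g
  have h1 : Group.IsSolvable E := Group.isSolvable_of_comm (fun x y => by
    apply Subtype.ext
    exact hcomm x x.2 y y.2)
  have h2 : Group.IsSolvable (Subgroup.zpowers g) :=
    Group.isSolvable_of_comm (fun x y => (inferInstance : IsMulCommutative (Subgroup.zpowers g)).is_comm.comm x y)
  have h3 := isSolvable_sup E (Subgroup.zpowers g) h1 h2
  have h4 := hc _ (hAE.trans le_sup_left) h3 a ha g
    ((Subgroup.mem_zpowers g |> (le_sup_right : Subgroup.zpowers g ≤ E ⊔ Subgroup.zpowers g)))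
  exact h4.symm

/-- The main theorem. -/
theorem main (n : ℕ) : ∀ (G : Type u) [Group G] [Finite G] (A : Subgroup G), Nat.card G = n →
    Group.IsSolvable A →
    (∀ S : Subgroup G, A ≤ S → Group.IsSolvable S → ∀ a ∈ A, ∀ s ∈ S, a * s = s * a) →
    A ≤ Subgroup.center G := by
  induction n using Nat.strong_induction_on with
  | _ n ih =>
  intro G _ _ A hn hA hc
  by_contra hnot
  -- proper subgroups containing `A`
  have hprop : ∀ X : Subgroup G, X ≠ ⊤ → A ≤ X → ∀ a ∈ A, ∀ x ∈ X, a * x = x * a := by
    intro X hX hAX a ha x hx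
    have hlt : Nat.card X < n := by
      rw [← hn]
      exact lt_of_le_of_ne (Subgroup.card_le_card_group X) (fun h => hX (Subgroup.eq_top_of_card_eq X h))
    have hsol : Group.IsSolvable (A.subgroupOf X) :=
      Group.isSolvable_of_isSolvable_injective (f := (Subgroup.subgroupOfEquivOfLe hAX).toMonoidHom)
        (Subgroup.subgroupOfEquivOfLe hAX).injective
    have key := ih _ hlt X (A.subgroupOf X) rfl hsol ?_ (⟨⟨a, hAX ha⟩, ha⟩ : A.subgroupOf X).2
    · have := (Subgroup.mem_center_iff.1 key) ⟨x, hx⟩
      exact (congrArg Subtype.val this).symm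
    · intro S hS hsolS b hb s hs
      have hmap : A ≤ S.map X.subtype := by
        intro y hy
        exact ⟨⟨y, hAX hy⟩, hS hy, rfl⟩
      have hsolmap : Group.IsSolvable (S.map X.subtype) :=
        Group.isSolvable_of_surjective (f := (X.subtype.subgroupMap S)) (MonoidHom.subgroupMap_surjective _ _)
      have := hc _ hmap hsolmap b.1 hb s.1 ⟨s, hs, rfl⟩
      exact Subtype.ext this
  have hAcomm : ∀ a ∈ A, ∀ b ∈ A, a * b = b * a := fun a ha b hb => hc A le_rfl hA a ha b hb
  -- the centre is trivial
  have hZ : Subgroup.center G = ⊥ := by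
    by_contra hZne
    let Z : Subgroup G := Subgroup.center G
    let Q := G ⧸ Z
    let π : G →* Q := QuotientGroup.mk' Z
    have hπ : Function.Surjective π := QuotientGroup.mk'_surjective Z
    have hQlt : Nat.card Q < n := by
      rw [← hn]
      have h1 : Nat.card Z * Z.index = Nat.card G := Subgroup.card_mul_index Z
      have h2 : 1 < Nat.card Z := by
        have : Nontrivial Z := (Subgroup.nontrivial_iff_ne_bot Z).2 hZne
        exact Finite.one_lt_card
      have h3 : 0 < Z.index := Nat.pos_of_ne_zero (Subgroup.index_ne_zero_of_finite)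
      have h4 : Nat.card Q = Z.index := rfl
      rw [h4, ← h1]
      nlinarith
    have hsol : Group.IsSolvable (A.map π) :=
      Group.isSolvable_of_surjective (f := π.subgroupMap A) (MonoidHom.subgroupMap_surjective _ _)
    have key := ih _ hQlt Q (A.map π) rfl hsol (by
      intro S hS hsolS x hx s hs
      obtain ⟨a, ha, rfl⟩ := hx
      obtain ⟨t, rfl⟩ := hπ s
      have hsolc : Group.IsSolvable (S.comap π) := by
        let g : S.comap π →* S := π.subgroupComap S
        let f : Z →* S.comap π := Subgroup.inclusion (by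
          intro z hz
          have : π z = 1 := (QuotientGroup.eq_one_iff z).2 hz
          rw [Subgroup.mem_comap, this]
          exact S.one_mem)
        have hZs : Group.IsSolvable Z := Group.isSolvable_of_comm (fun x y => by
          apply Subtype.ext
          exact (Subgroup.mem_center_iff.1 x.2 y.1).symm)
        refine Group.isSolvable_of_ker_le_range f g ?_
        intro y hy
        have h1 : π y.1 = 1 := congrArg Subtype.val (MonoidHom.mem_ker.1 hy)
        exact ⟨⟨y.1, (QuotientGroup.eq_one_iff _).1 h1⟩, rfl⟩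
      have hle : A ≤ S.comap π := fun y hy => hS ⟨y, hy, rfl⟩
      have := hc _ hle hsolc a ha t hs
      rw [← map_mul, ← map_mul, this])
    -- `E` = the preimage of the image of `A`
    let E : Subgroup G := (A.map π).comap π
    haveI hQn : (A.map π).Normal := by
      constructor
      intro x hx g
      have := Subgroup.mem_center_iff.1 (key hx) g
      rw [this, mul_assoc, mul_inv_cancel, mul_one]
      exact hx
    haveI : E.Normal := Subgroup.Normal.comap hQn π
    have hdecomp : ∀ x ∈ E, ∃ a ∈ A, ∃ z ∈ Z, x = a * z := by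
      intro x hx
      obtain ⟨a, ha, e⟩ := hx
      refine ⟨a, ha, a⁻¹ * x, ?_, by group⟩
      have : π (a⁻¹ * x) = 1 := by
        rw [map_mul, map_inv, e, inv_mul_cancel]
      exact (QuotientGroup.eq_one_iff _).1 this
    refine hnot (le_center_of_le_normal_abelian A E ?_ (fun y hy => ⟨y, hy, rfl⟩) hc)
    intro x hx y hy
    obtain ⟨a, ha, z, hz, rfl⟩ := hdecomp x hx
    obtain ⟨b, hb, w, hw, rfl⟩ := hdecomp y hy
    have h1 := hAcomm a ha b hb
    have h2 := Subgroup.mem_center_iff.1 hz
    have h3 := Subgroup.mem_center_iff.1 hw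
    calc a * z * (b * w) = a * b * (z * w) := by
          rw [mul_assoc a z, ← mul_assoc z b, ← h2 b]; group
      _ = b * a * (w * z) := by rw [h1, h2 w]
      _ = b * w * (a * z) := by
          rw [mul_assoc b w, ← mul_assoc w a, ← h3 a]; group
  -- the centraliser
  let C : Subgroup G := Subgroup.centralizer (A : Set G)
  have hmemC : ∀ x : G, x ∈ C ↔ ∀ a ∈ A, a * x = x * a := fun x => by
    simp [C, Subgroup.mem_centralizer_iff]
  have hAC : A ≤ C := fun a ha => (hmemC a).2 (fun b hb => hAcomm b hb a ha)
  have hCtop : C ≠ ⊤ := by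
    intro h
    apply hnot
    intro a ha
    rw [Subgroup.mem_center_iff]
    intro g
    have : g ∈ C := h ▸ Subgroup.mem_top g
    exact ((hmemC g).1 this a ha).symm
  have hAbot : A ≠ ⊥ := by
    rintro rfl
    exact hnot bot_le
  have hmax : ∀ X : Subgroup G, X ≠ ⊤ → A ≤ X → X ≤ C :=
    fun X hX hAX x hx => (hmemC x).2 (fun a ha => hprop X hX hAX a ha x hx)
  -- `C` is self-normalizing
  have hCnorm : ¬ C.Normal := by
    intro hCn
    haveI := hCn
    refine hnot (le_center_of_le_normal_abelian A (C ⊓ Subgroup.centralizer (C : Set G)) ?_ ?_ hc)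
    · rintro x ⟨hx1, hx2⟩ y ⟨hy1, hy2⟩
      exact (Subgroup.mem_centralizer_iff.1 hy2 x hx1)
    · intro a ha
      refine ⟨hAC ha, Subgroup.mem_centralizer_iff.2 ?_⟩
      intro c hc'
      exact ((hmemC c).1 hc' a ha).symm
  have hN : Subgroup.normalizer (C : Set G) ≤ C := by
    apply hmax
    · intro h
      exact hCnorm (Subgroup.normalizer_eq_top_iff.1 h)
    · exact hAC.trans Subgroup.le_normalizer
  -- the centraliser of any non-identity element of `C` lies in `C`
  have hcent : ∀ x ∈ C, x ≠ 1 → Subgroup.centralizer ({x} : Set G) ≤ C := by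
    intro x hx hx1
    apply hmax
    · intro h
      have hxz : x ∈ Subgroup.center G := by
        rw [Subgroup.mem_center_iff]
        intro g
        have : g ∈ Subgroup.centralizer ({x} : Set G) := h ▸ Subgroup.mem_top g
        exact (Subgroup.mem_centralizer_iff.1 this x rfl).symm
      rw [hZ] at hxz
      exact hx1 hxz
    · intro a ha
      rw [Subgroup.mem_centralizer_iff]
      rintro y rfl
      exact ((hmemC y).1 hx a ha).symm
  have hF : IsFrobeniusComplement C := by
    refine isFrobeniusComplement_of ?_ hCtop ?_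
    · intro h
      exact hAbot (le_bot_iff.1 (h ▸ hAC))
    · intro g hg x hxC hx'
      by_contra hx1
      have hgA : ∀ a ∈ A, g * a * g⁻¹ ∈ C := by
        intro a ha
        apply hcent x hxC hx1
        rw [Subgroup.mem_centralizer_iff]
        rintro y rfl
        have h1 := (hmemC _).1 hx' a ha
        have h2 : g * a * g⁻¹ * (g * (g⁻¹ * y * g) * g⁻¹) = g * (g⁻¹ * y * g) * g⁻¹ * (g * a * g⁻¹) := by
          have : g * a * g⁻¹ * (g * (g⁻¹ * y * g) * g⁻¹) = g * (a * (g⁻¹ * y * g)) * g⁻¹ := by group
          rw [this, h1]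
          group
        have h3 : g * (g⁻¹ * y * g) * g⁻¹ = y := by group
        rw [h3] at h2
        exact h2.symm
      obtain ⟨a, ha, ha1⟩ : ∃ a ∈ A, a ≠ 1 := by
        rcases A.bot_or_exists_ne_one with h | h
        · exact absurd h hAbot
        · exact h
      have hw1 : g * a * g⁻¹ ≠ 1 := by
        intro h
        apply ha1
        have : a = g⁻¹ * (g * a * g⁻¹) * g := by group
        rw [this, h]
        group
      have hconjle : ∀ c ∈ C, g * c * g⁻¹ ∈ C := by
        intro c hc'
        apply hcent _ (hgA a ha) hw1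
        rw [Subgroup.mem_centralizer_iff]
        rintro y rfl
        have h1 := (hmemC c).1 hc' a ha
        have : g * a * g⁻¹ * (g * c * g⁻¹) = g * (a * c) * g⁻¹ := by group
        rw [this, h1]
        group
      have hmap : C.map (MulAut.conj g).toMonoidHom = C := by
        apply Subgroup.eq_of_le_of_card_ge
        · rintro _ ⟨c, hc', rfl⟩
          exact hconjle c hc'
        · rw [Subgroup.card_map_of_injective (MulAut.conj g).injective]
      have hgn : g ∈ Subgroup.normalizer (C : Set G) := by
        rw [Subgroup.mem_normalizer_iff]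
        intro h
        constructor
        · exact hconjle h
        · intro hh
          rw [← hmap] at hh
          obtain ⟨c, hc', e⟩ := hh
          have : c = h := by
            have e' : g * c * g⁻¹ = g * h * g⁻¹ := e
            simpa using e'
          exact this ▸ hc'
      exact hg (hN hgn)
  obtain ⟨N, hNset, hNn, hNnil⟩ := Cfsg.Agent.S0042.result C hF
  have hNk : N = kernel C := by
    apply SetLike.coe_injective
    rw [hNset, coe_kernel hF]
  have hsolN : Group.IsSolvable N := by
    haveI := hNnil
    infer_instance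
  haveI := hNn
  have hsolT := isSolvable_sup N A hsolN hA
  have hcomm := hc (N ⊔ A) le_sup_right hsolT
  have hKne : N ≠ ⊥ := by
    intro h
    apply hCtop
    have h1 : Nat.card (kernel C) = C.index := card_kernel hF
    rw [← hNk, h] at h1
    rw [Subgroup.card_bot] at h1
    exact Subgroup.index_eq_one.1 h1.symm
  obtain ⟨k, hk, hk1⟩ : ∃ k ∈ N, k ≠ 1 := by
    rcases N.bot_or_exists_ne_one with h | h
    · exact absurd h hKne
    · exact h
  obtain ⟨a, ha, ha1⟩ : ∃ a ∈ A, a ≠ 1 := by
    rcases A.bot_or_exists_ne_one with h | h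
    · exact absurd h hAbot
    · exact h
  have hkC : k ∉ C := by
    intro h
    have : k ∈ kernel C ⊓ C := ⟨hNk ▸ hk, h⟩
    rw [kernel_inf_eq_bot hF] at this
    exact hk1 this
  have h1 := hcomm a ha k ((le_sup_left : N ≤ N ⊔ A) hk)
  refine ha1 (eq_one_of_mem_of_conj_mem hF hkC (hAC ha) ?_)
  have : k * a * k⁻¹ = a := by
    rw [← h1]; group
  rw [this]
  exact hAC ha

/-- The statement in the form used. -/
theorem le_center {G : Type*} [Group G] [Finite G] (A : Subgroup G) (hA : Group.IsSolvable A)
    (hc : ∀ S : Subgroup G, A ≤ S → Group.IsSolvable S → ∀ a ∈ A, ∀ s ∈ S, a * s = s * a) :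
    A ≤ Subgroup.center G :=
  main _ G A rfl hA hc

end Cfsg.Agent.Lib.Transfer.SolvCentral
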