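import Cfsg.Agent.Lib.Transfer.Omega
import Cfsg.Prelude.Def_KGroupFacts

/-!
# A small-exponent subgroup detecting `p'`-automorphisms (`S1949`)
-/

set_option autoImplicit false

namespace Cfsg.Agent.Lib.Transfer.SmallCritical

open Cfsg Cfsg.Agent.Lib.Transfer.Basic Cfsg.Agent.Lib.Transfer.Frobenius
  Cfsg.Agent.Lib.Transfer.Cor3 Cfsg.Agent.Lib.Transfer.Cor4 Cfsg.Agent.Lib.Transfer.Omega
  Cfsg.Agent.Lib.PGroups.Critical Cfsg.Agent.Lib.PGroups.ClassTwo
open scoped Pointwise commutatorElement IsMulCommutative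

universe u

variable {P : Type u} [Group P] [Finite P] {p : ℕ} [hp : Fact p.Prime]

/-- The automorphism version of `fixes_of_fixes_small`. -/
theorem aut_fixes_of_fixes_small (α : MulAut P) (hα : Nat.Coprime (orderOf α) p) (W : Subgroup P)
    (hW : IsPGroup p W) (hαW : ∀ x ∈ W, α x ∈ W)
    (h : ∀ x ∈ W, (x ^ p = 1 ∨ (p = 2 ∧ x ^ 4 = 1)) → α x = x) : ∀ x ∈ W, α x = x := by
  -- restrict `α` to `W`
  let f : W →* W :=
    { toFun := fun x => ⟨α x, hαW x x.2⟩
      map_one' := by apply Subtype.ext; simp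
      map_mul' := by intro x y; apply Subtype.ext; simp }
  have hinj : Function.Injective f := by
    intro x y hxy
    have h1 : α (x : P) = α (y : P) := congrArg Subtype.val hxy
    exact Subtype.ext (α.injective h1)
  let a : MulAut W := MulEquiv.ofBijective f (Finite.injective_iff_bijective.mp hinj)
  have happly : ∀ x : W, ((a x : W) : P) = α x := fun x => rfl
  have hpow : ∀ (m : ℕ) (x : W), (((a ^ m) x : W) : P) = (α ^ m) x := by
    intro m
    induction m with
    | zero => intro x; simp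
    | succ m ih =>
      intro x
      rw [pow_succ, pow_succ]
      change (((a ^ m) (a x) : W) : P) = (α ^ m) (α x)
      rw [ih]
      rfl
  have hao : Nat.Coprime (orderOf a) p := by
    have h1 : orderOf a ∣ orderOf α := by
      apply orderOf_dvd_of_pow_eq_one
      ext x
      rw [hpow, pow_orderOf_eq_one]
      rfl
    exact Nat.Coprime.coprime_dvd_left h1 hα
  have h1 : a = 1 := by
    by_cases hp2 : p = 2
    · subst hp2
      apply eq_one_of_fixes_four hW a hao
      intro x hx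
      apply Subtype.ext
      rw [happly]
      exact h x x.2 (Or.inr ⟨rfl, by simpa using congrArg Subtype.val hx⟩)
    · apply eq_one_of_fixes_omega hp2 hW a hao
      intro x hx
      apply Subtype.ext
      rw [happly]
      exact h x x.2 (Or.inl (by simpa using congrArg Subtype.val hx))
  intro x hx
  have h2 := happly ⟨x, hx⟩
  rw [h1] at h2
  exact h2.symm

omit [Finite P] hp in
/-- An automorphism fixing `t` with `α x = x t`, of order prime to `p`, with `t` a `p`-element:
then `t = 1`. -/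
theorem eq_one_of_aut_fixed {α : MulAut P} (hα : Nat.Coprime (orderOf α) p) {x t : P}
    (hk : ∃ k : ℕ, t ^ p ^ k = 1) (hat : α t = t) (hax : α x = x * t) : t = 1 := by
  have h1 := pow_apply_of_fixed α hat hax (orderOf α)
  rw [pow_orderOf_eq_one] at h1
  have h2 : t ^ orderOf α = 1 := by
    have h3 : x * 1 = x * t ^ orderOf α := by rw [mul_one]; exact h1
    exact (mul_left_cancel h3).symm
  obtain ⟨k, hk⟩ := hk
  have h3 : t ^ Nat.gcd (orderOf α) (p ^ k) = 1 := pow_gcd_eq_one.mpr ⟨h2, hk⟩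
  rw [Nat.Coprime.pow_right k hα] at h3
  simpa using h3

/-- `S1949`. -/
theorem exists_small_subgroup (hP : IsPGroup p P) (G : Subgroup (MulAut P)) (hG : Cfsg.Inn P ≤ G) :
    ∃ D : Subgroup P,
      (∀ α ∈ G, D.map α.toMonoidHom = D) ∧
      D ≤ Subgroup.closure {y : P | ∃ α ∈ Cfsg.pResidual p ↥G, ∃ x : P, y = x⁻¹ * (α : MulAut P) x} ∧
      (∀ d ∈ D, d ^ p = 1 ∨ (p = 2 ∧ d ^ 4 = 1)) ∧
      ⁅D, (⊤ : Subgroup P)⁆ ≤ D ⊓ Subgroup.centralizer (D : Set P) ∧
      (∀ α ∈ G, (orderOf α).Coprime p → (∀ d ∈ D, α d = d) → α = 1) ∧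
      ∀ A : Subgroup P, A ≤ D → IsMulCommutative ↥A →
        (∀ B : Subgroup P, A ≤ B → B ≤ D → IsMulCommutative ↥B → B = A) →
        A.Normal ∧ ∀ α ∈ G, (∀ a ∈ A, α a = a) → ∃ k : ℕ, orderOf α = p ^ k := by
  classical
  obtain ⟨H, hchar, hfrat, hcomm, hC⟩ := exists_critical hP
  have hαH : ∀ (α : MulAut P), ∀ x ∈ H, α x ∈ H := fun α x hx =>
    (Subgroup.characteristic_iff_le_comap.mp hchar α) hx
  let L : Subgroup G := pResidual p G
  haveI hLn : L.Normal := inferInstance
  let W : Subgroup P := Subgroup.closure {y | ∃ α ∈ L, ∃ x ∈ H, y = x⁻¹ * (α : MulAut P) x}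
  have hWH : W ≤ H := by
    rw [Subgroup.closure_le]
    rintro _ ⟨α, -, x, hx, rfl⟩
    exact H.mul_mem (H.inv_mem hx) (hαH _ x hx)
  have hWG : ∀ α : G, ∀ y ∈ W, (α : MulAut P) y ∈ W := by
    intro α y hy
    have hle : W ≤ W.comap (α : MulAut P).toMonoidHom := by
      rw [Subgroup.closure_le]
      rintro _ ⟨β, hβ, x, hx, rfl⟩
      refine Subgroup.subset_closure ⟨α * β * α⁻¹, hLn.conj_mem β hβ α, (α : MulAut P) x, hαH _ x hx, ?_⟩
      simp [MulAut.mul_apply]
    exact hle hy
  -- the exponent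
  let e : ℕ := if p = 2 then 4 else p
  have hmul : ∀ x ∈ H, ∀ y ∈ H, (x * y) ^ e = x ^ e * y ^ e := by
    intro x hx y hy
    have h1 := comm_mem_of_frat hP hfrat hy hx
    have hc1 : Commute ⁅y, x⁆ x := ((Subgroup.mem_centralizer_iff.mp h1.2) x hx).symm
    have hc2 : Commute ⁅y, x⁆ y := ((Subgroup.mem_centralizer_iff.mp h1.2) y hy).symm
    have hcp : ⁅y, x⁆ ^ p = 1 := by
      rw [← comm_pow_right_of_comm hc1, commutatorElement_eq_one_iff_mul_comm]
      exact ((Subgroup.mem_centralizer_iff.mp (pow_mem_of_frat hP hfrat hx).2) y hy)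
    by_cases hp2 : p = 2
    · have he : e = 4 := if_pos hp2
      subst hp2
      rw [he, mul_pow_of_comm hc1 hc2 4]
      have h6 : Nat.choose 4 2 = 2 * 3 := by decide
      rw [h6, pow_mul, hcp, one_pow, mul_one]
    · have he : e = p := if_neg hp2
      rw [he]
      exact mul_pow_prime_of_comm hp.out hp2 hc1 hc2 hcp
  have hsmall : ∀ x : P, (x ^ p = 1 ∨ (p = 2 ∧ x ^ 4 = 1)) ↔ x ^ e = 1 := by
    intro x
    by_cases hp2 : p = 2
    · have he : e = 4 := if_pos hp2
      subst hp2
      rw [he]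
      constructor
      · rintro (h | ⟨-, h⟩)
        · have : x ^ 4 = (x ^ 2) ^ 2 := by rw [← pow_mul]
          rw [this, h, one_pow]
        · exact h
      · intro h; exact Or.inr ⟨rfl, h⟩
    · have he : e = p := if_neg hp2
      rw [he]
      constructor
      · rintro (h | ⟨h2, -⟩)
        · exact h
        · exact absurd h2 hp2
      · exact Or.inl
  let D : Subgroup P :=
    { carrier := {d | d ∈ W ∧ d ^ e = 1}
      mul_mem' := by
        rintro a b ⟨ha, hae⟩ ⟨hb, hbe⟩
        exact ⟨W.mul_mem ha hb, by rw [hmul a (hWH ha) b (hWH hb), hae, hbe, one_mul]⟩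
      one_mem' := ⟨W.one_mem, one_pow _⟩
      inv_mem' := by
        rintro a ⟨ha, hae⟩
        exact ⟨W.inv_mem ha, by rw [inv_pow, hae, inv_one]⟩ }
  have hDW : D ≤ W := fun d hd => hd.1
  have hDH : D ≤ H := hDW.trans hWH
  have hDmem : ∀ d : P, d ∈ D ↔ d ∈ W ∧ d ^ e = 1 := fun d => Iff.rfl
  have hDG : ∀ α : G, ∀ d ∈ D, (α : MulAut P) d ∈ D := by
    intro α d hd
    exact ⟨hWG α d hd.1, by rw [← map_pow, hd.2, map_one]⟩
  have hconj : ∀ g : P, ∀ d ∈ D, g * d * g⁻¹ ∈ D := by
    intro g d hd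
    exact hDG ⟨MulAut.conj g, hG ⟨g, rfl⟩⟩ d hd
  have hDcomm : ∀ d ∈ D, ∀ g : P, ⁅d, g⁆ ∈ D ⊓ Subgroup.centralizer (D : Set P) := by
    intro d hd g
    constructor
    · have h1 : ⁅d, g⁆ = d * (g * d⁻¹ * g⁻¹) := by rw [commutatorElement_def]; group
      rw [h1]
      exact D.mul_mem hd (hconj g _ (D.inv_mem hd))
    · have h1 := hcomm (Subgroup.commutator_mem_commutator (hDH hd) (Subgroup.mem_top g))
      refine Subgroup.mem_centralizer_iff.mpr ?_
      intro z hz
      exact Subgroup.mem_centralizer_iff.mp h1.2 z (hDH hz)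
  -- `p'`-automorphisms are detected on `D`
  have hdetect : ∀ α ∈ G, (orderOf α).Coprime p → (∀ d ∈ D, α d = d) → α = 1 := by
    intro α hαG hα hfix
    refine eq_one_of_fixes_critical hP H hcomm hC α hα ?_
    have hαL : (⟨α, hαG⟩ : G) ∈ L := by
      apply mem_pResidual_of_coprime
      rw [Subgroup.orderOf_mk]
      exact hα
    let W₀ : Subgroup P := Subgroup.closure {y | ∃ x ∈ H, y = x⁻¹ * α x}
    have hW₀W : W₀ ≤ W := by
      rw [Subgroup.closure_le]
      rintro _ ⟨x, hx, rfl⟩
      exact Subgroup.subset_closure ⟨⟨α, hαG⟩, hαL, x, hx, rfl⟩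
    have hW₀α : ∀ y ∈ W₀, α y ∈ W₀ := by
      intro y hy
      have hle : W₀ ≤ W₀.comap α.toMonoidHom := by
        rw [Subgroup.closure_le]
        rintro _ ⟨x, hx, rfl⟩
        refine Subgroup.subset_closure ⟨α x, hαH _ x hx, ?_⟩
        simp
      exact hle hy
    have hW₀fix := aut_fixes_of_fixes_small α hα W₀ (hP.to_subgroup W₀) hW₀α
      (fun d hd hs => hfix d ⟨hW₀W hd, (hsmall d).mp hs⟩)
    intro x hx
    set t := x⁻¹ * α x with ht
    have htW : t ∈ W₀ := Subgroup.subset_closure ⟨x, hx, rfl⟩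
    have h2 : α x = x * t := by rw [ht]; group
    have h1 : t = 1 := eq_one_of_aut_fixed hα (by
      obtain ⟨k, hk⟩ := hP t
      exact ⟨k, hk⟩) (hW₀fix t htW) h2
    rw [h2, h1, mul_one]
  refine ⟨D, ?_, ?_, ?_, ?_, hdetect, ?_⟩
  · intro α hα
    apply Subgroup.eq_of_le_of_card_ge
    · rintro _ ⟨d, hd, rfl⟩
      exact hDG ⟨α, hα⟩ d hd
    · rw [Subgroup.card_map_of_injective α.injective]
  · refine hDW.trans (Subgroup.closure_mono ?_)
    rintro _ ⟨α, hα, x, -, rfl⟩
    exact ⟨α, hα, x, rfl⟩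
  · intro d hd
    exact (hsmall d).mpr hd.2
  · rw [Subgroup.commutator_le]
    intro d hd g _
    exact hDcomm d hd g
  · intro A hAD hAc hAmax
    have hcommA : ∀ a ∈ A, ∀ b ∈ A, a * b = b * a := by
      intro a ha b hb
      exact congrArg Subtype.val (hAc.is_comm.comm (⟨a, ha⟩ : A) ⟨b, hb⟩)
    have hZA : ∀ z ∈ D, z ∈ Subgroup.centralizer (A : Set P) → z ∈ A := by
      intro z hzD hzC
      let Z : Subgroup P := Subgroup.zpowers z
      have hZA1 : Z ≤ Subgroup.centralizer (A : Set P) := Subgroup.zpowers_le.mpr hzC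
      have hAA : A ≤ Subgroup.centralizer (A : Set P) := by
        intro a ha
        refine Subgroup.mem_centralizer_iff.mpr ?_
        intro b hb
        exact hcommA b hb a ha
      have hZZ : Z ≤ Subgroup.centralizer (Z : Set P) := by
        rintro _ ⟨i, rfl⟩
        refine Subgroup.mem_centralizer_iff.mpr ?_
        rintro _ ⟨j, rfl⟩
        exact (Commute.zpow_zpow_self z j i).eq
      have hB1 : A ⊔ Z ≤ Subgroup.centralizer (A : Set P) := sup_le hAA hZA1
      have hB2 : A ⊔ Z ≤ Subgroup.centralizer (Z : Set P) :=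
        sup_le (Subgroup.le_centralizer_iff.mp hZA1) hZZ
      have hB3 : A ⊔ Z ≤ Subgroup.centralizer ((A ⊔ Z : Subgroup P) : Set P) := by
        apply Subgroup.le_centralizer_iff.mp
        exact sup_le (Subgroup.le_centralizer_iff.mp hB1) (Subgroup.le_centralizer_iff.mp hB2)
      have hBc : IsMulCommutative (A ⊔ Z : Subgroup P) := by
        refine ⟨⟨?_⟩⟩
        rintro ⟨a, ha⟩ ⟨b, hb⟩
        apply Subtype.ext
        exact Subgroup.mem_centralizer_iff.mp (hB3 hb) a ha
      have hBD : A ⊔ Z ≤ D := sup_le hAD (Subgroup.zpowers_le.mpr hzD)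
      have h1 := hAmax _ le_sup_left hBD hBc
      have h2 : z ∈ A ⊔ Z := Subgroup.mem_sup_right (Subgroup.mem_zpowers z)
      rwa [h1] at h2
    have hcA : ∀ d ∈ D, ∀ a ∈ A, ⁅d, a⁆ ∈ A := by
      intro d hd a ha
      have h1 := hDcomm d hd a
      apply hZA _ h1.1
      refine Subgroup.mem_centralizer_iff.mpr ?_
      intro b hb
      exact Subgroup.mem_centralizer_iff.mp h1.2 b (hAD hb)
    refine ⟨?_, ?_⟩
    · constructor
      intro a ha g
      have h1 := hDcomm a (hAD ha) g
      have h2 : ⁅a, g⁆ ∈ A := by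
        apply hZA _ h1.1
        refine Subgroup.mem_centralizer_iff.mpr ?_
        intro b hb
        exact Subgroup.mem_centralizer_iff.mp h1.2 b (hAD hb)
      have h3 : g * a⁻¹ * g⁻¹ = a⁻¹ * ⁅a, g⁆ := by
        rw [commutatorElement_def]
        group
      have h4 : g * a⁻¹ * g⁻¹ ∈ A := by
        rw [h3]
        exact A.mul_mem (A.inv_mem ha) h2
      have h5 := A.inv_mem h4
      simpa [mul_assoc] using h5
    · intro α hαG hαA
      have hn0 : orderOf α ≠ 0 := (orderOf_pos α).ne'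
      obtain ⟨k, r, hr, hkr⟩ := Nat.exists_eq_pow_mul_and_not_dvd hn0 p hp.out.ne_one
      set β := α ^ p ^ k with hβ
      have hβG : β ∈ G := G.pow_mem hαG _
      have hβo : orderOf β = r := by
        rw [hβ, orderOf_pow_of_dvd (pow_pos hp.out.pos k).ne' ⟨r, hkr⟩, hkr,
          Nat.mul_div_cancel_left _ (pow_pos hp.out.pos k)]
      have hβc : (orderOf β).Coprime p := by
        rw [hβo]
        exact ((Nat.Prime.coprime_iff_not_dvd hp.out).mpr hr).symm
      have hαpow : ∀ (m : ℕ), ∀ a ∈ A, (α ^ m) a = a := by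
        intro m
        induction m with
        | zero => intro a _; rfl
        | succ m ih =>
          intro a ha
          rw [pow_succ, MulAut.mul_apply, hαA a ha, ih a ha]
      have hβA : ∀ a ∈ A, β a = a := fun a ha => hαpow _ a ha
      have hβfix : ∀ d ∈ D, β d = d := by
        intro d hd
        have hb : β d ∈ D := hDG ⟨β, hβG⟩ d hd
        set t := d⁻¹ * β d with ht
        have htD : t ∈ D := D.mul_mem (D.inv_mem hd) hb
        have htC : t ∈ Subgroup.centralizer (A : Set P) := by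
          refine Subgroup.mem_centralizer_iff.mpr ?_
          intro a ha
          have h1 : β ⁅d, a⁆ = ⁅d, a⁆ := hβA _ (hcA d hd a ha)
          rw [map_commutatorElement, hβA a ha, commutatorElement_def, commutatorElement_def] at h1
          have h2 : β d * a * (β d)⁻¹ = d * a * d⁻¹ := mul_right_cancel h1
          have h3 : d * a * d⁻¹ * β d = β d * a := by
            rw [← h2]; group
          rw [ht]
          calc a * (d⁻¹ * β d) = d⁻¹ * (d * a * d⁻¹ * β d) := by group
            _ = d⁻¹ * (β d * a) := by rw [h3]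
            _ = d⁻¹ * β d * a := by group
        have htA := hZA t htD htC
        have h2 : β d = d * t := by rw [ht]; group
        have h1 : t = 1 := eq_one_of_aut_fixed hβc (by
          obtain ⟨j, hj⟩ := hP t
          exact ⟨j, hj⟩) (hβA t htA) h2
        rw [h2, h1, mul_one]
      have hβ1 := hdetect β hβG hβc hβfix
      have hd : orderOf α ∣ p ^ k := orderOf_dvd_of_pow_eq_one hβ1
      obtain ⟨j, -, hj⟩ := (Nat.dvd_prime_pow hp.out).mp hd
      exact ⟨j, hj⟩

end Cfsg.Agent.Lib.Transfer.SmallCritical
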