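import Cfsg.Agent.Lib.Transfer.StronglyClosed
import Cfsg.Agent.Lib.Transfer.SmallSylow

/-!
# The number of conjugacy classes of `p`-elements

* `PClasses`: the classes of `p`-elements.
* `two_mul_card_pClasses_le`: if `N_G(P)` does not centralize `P` then
  `2 p k_p(G) ≤ (p + 1) |P|`.
* `S3897`, `S3895`.
-/

set_option autoImplicit false

namespace Cfsg.Agent.Lib.Transfer.ClassCount

open Cfsg Cfsg.Agent.Lib.Transfer.Basic Cfsg.Agent.Lib.Transfer.Frobenius
  Cfsg.Agent.Lib.Transfer.Cor4 Cfsg.Agent.Lib.Transfer.StronglyClosed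
open scoped Pointwise commutatorElement

universe u

variable {G : Type u} [Group G] [Finite G] {p : ℕ} [hp : Fact p.Prime]

omit [Finite G] hp in
theorem orderOf_of_isConj {a b : G} (h : IsConj a b) : orderOf a = orderOf b := by
  obtain ⟨c, hc⟩ := isConj_iff.mp h
  rw [← hc]
  simpa using ((MulAut.conj c).orderOf_eq a).symm

/-- The conjugacy classes of `p`-elements. -/
abbrev PClasses (p : ℕ) (G : Type u) [Group G] : Type u :=
  {c : ConjClasses G // ∀ x ∈ c.carrier, ∃ k : ℕ, orderOf x = p ^ k}

/-- The class of an element of a Sylow `p`-subgroup. -/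
def toPClass (P : Sylow p G) (x : (P : Subgroup G)) : PClasses p G :=
  ⟨ConjClasses.mk (x : G), by
    intro y hy
    rw [ConjClasses.mem_carrier_iff_mk_eq, ConjClasses.mk_eq_mk_iff_isConj] at hy
    obtain ⟨k, hk⟩ := (IsPGroup.iff_orderOf.mp P.isPGroup') x
    refine ⟨k, ?_⟩
    rw [orderOf_of_isConj hy, Subgroup.orderOf_coe, hk]⟩

omit [Finite G] in
theorem toPClass_eq_iff (P : Sylow p G) (x y : (P : Subgroup G)) :
    toPClass P x = toPClass P y ↔ IsConj (x : G) (y : G) := by
  rw [toPClass, toPClass, Subtype.mk.injEq, ConjClasses.mk_eq_mk_iff_isConj]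

theorem toPClass_surjective (P : Sylow p G) : Function.Surjective (toPClass P) := by
  rintro ⟨c, hc⟩
  obtain ⟨g, rfl⟩ := ConjClasses.exists_rep c
  obtain ⟨k, hk⟩ := hc g ConjClasses.mem_carrier_mk
  have hg : IsPGroup p (Subgroup.zpowers g) :=
    IsPGroup.of_card (n := k) (by rw [Nat.card_zpowers, hk])
  obtain ⟨Q, hQ⟩ := hg.exists_le_sylow
  obtain ⟨a, rfl⟩ := MulAction.exists_smul_eq G P Q
  have h1 : g ∈ ((a • P : Sylow p G) : Subgroup G) := hQ (Subgroup.mem_zpowers g)
  have h2 : a⁻¹ * g * a ∈ (P : Subgroup G) := (mem_smul_sylow_iff a g P).mp h1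
  refine ⟨⟨_, h2⟩, Subtype.ext ?_⟩
  change ConjClasses.mk (a⁻¹ * g * a) = ConjClasses.mk g
  rw [ConjClasses.mk_eq_mk_iff_isConj, isConj_iff]
  exact ⟨a, by group⟩

/-- `k_p(G) ≤ k(P)`. -/
theorem card_pClasses_le_card_conjClasses (P : Sylow p G) :
    Nat.card (PClasses p G) ≤ Nat.card (ConjClasses (P : Subgroup G)) := by
  let f : ConjClasses (P : Subgroup G) → PClasses p G :=
    Quotient.lift (toPClass P) (by
      intro a b hab
      have h1 : IsConj a b := hab
      exact (toPClass_eq_iff P a b).mpr ((P : Subgroup G).subtype.map_isConj h1))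
  apply Nat.card_le_card_of_surjective f
  intro c
  obtain ⟨x, rfl⟩ := toPClass_surjective P c
  exact ⟨ConjClasses.mk x, rfl⟩

/-- If `p` divides no ... `G` has a normal `p`-complement then `k(P) ≤ k_p(G)`. -/
theorem card_conjClasses_le_card_pClasses (P : Sylow p G) (h : HasNormalPComplement p G) :
    Nat.card (ConjClasses (P : Subgroup G)) ≤ Nat.card (PClasses p G) := by
  have hc := isComplement'_pResidual h P
  have hn : (pResidual p G).Normal := inferInstance
  let f : ConjClasses (P : Subgroup G) → PClasses p G :=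
    Quotient.lift (toPClass P) (by
      intro a b hab
      have h1 : IsConj a b := hab
      exact (toPClass_eq_iff P a b).mpr ((P : Subgroup G).subtype.map_isConj h1))
  apply Nat.card_le_card_of_injective f
  intro a b hab
  obtain ⟨a, rfl⟩ := ConjClasses.exists_rep a
  obtain ⟨b, rfl⟩ := ConjClasses.exists_rep b
  have h1 : IsConj (a : G) (b : G) := (toPClass_eq_iff P a b).mp hab
  obtain ⟨g, hg⟩ := isConj_iff.mp h1
  rw [ConjClasses.mk_eq_mk_iff_isConj, isConj_iff]
  -- `g = n * u`
  obtain ⟨⟨n, u⟩, hnu⟩ := (Subgroup.isComplement'_def.mp hc).2 g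
  have hnu' : (n : G) * (u : G) = g := hnu
  refine ⟨u, ?_⟩
  apply Subtype.ext
  simp only [Subgroup.coe_mul, Subgroup.coe_inv]
  set x : G := (u : G) * a * (u : G)⁻¹ with hx
  have hxP : x ∈ (P : Subgroup G) :=
    (P : Subgroup G).mul_mem ((P : Subgroup G).mul_mem u.2 a.2) ((P : Subgroup G).inv_mem u.2)
  have h2 : (b : G) = (n : G) * x * (n : G)⁻¹ := by
    rw [← hg, ← hnu', hx]; group
  have h3 : (b : G) * x⁻¹ ∈ pResidual p G := by
    rw [h2]
    have : (n : G) * x * (n : G)⁻¹ * x⁻¹ = (n : G) * (x * (n : G)⁻¹ * x⁻¹) := by group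
    rw [this]
    exact (pResidual p G).mul_mem n.2 (hn.conj_mem _ ((pResidual p G).inv_mem n.2) x)
  have h4 : (b : G) * x⁻¹ ∈ (P : Subgroup G) :=
    (P : Subgroup G).mul_mem b.2 ((P : Subgroup G).inv_mem hxP)
  have h5 : (b : G) * x⁻¹ = 1 := by
    have h6 := (Subgroup.isComplement'_iff_card_mul_and_disjoint.mp hc).2
    exact Subgroup.disjoint_def.mp h6 h3 h4
  exact (mul_inv_eq_one.mp h5).symm

/-- The arithmetic of the counting bound. -/
theorem arith_aux (p m o n q c : ℕ) (hm : p = m + 1) (hn : 0 < n) (hsum : p * (o * n) ≤ q * (n + c * m))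
    (h2c : 2 * c ≤ n) : 2 * p * o ≤ (p + 1) * q := by
  subst hm
  apply Nat.le_of_mul_le_mul_right _ hn
  calc 2 * (m + 1) * o * n = 2 * ((m + 1) * (o * n)) := by ring
    _ ≤ 2 * (q * (n + c * m)) := Nat.mul_le_mul_left _ hsum
    _ = 2 * (q * n) + (q * m) * (2 * c) := by ring
    _ ≤ 2 * (q * n) + (q * m) * n := by
      exact Nat.add_le_add_left (Nat.mul_le_mul_left _ h2c) _
    _ = (m + 1 + 1) * q * n := by ring

/-- The counting bound. -/
theorem two_mul_card_pClasses_le (P : Sylow p G)
    (hN : ¬ Subgroup.normalizer ((P : Subgroup G) : Set G) ≤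
      Subgroup.centralizer ((P : Subgroup G) : Set G)) :
    2 * p * Nat.card (PClasses p G) ≤ (p + 1) * Nat.card (P : Subgroup G) := by
  classical
  let N : Subgroup G := Subgroup.normalizer ((P : Subgroup G) : Set G)
  haveI := Fintype.ofFinite N
  haveI := Fintype.ofFinite (P : Subgroup G)
  haveI : ∀ n : N, Fintype (MulAction.fixedBy (P : Subgroup G) n) := fun n => Fintype.ofFinite _
  haveI := Fintype.ofFinite (MulAction.orbitRel.Quotient N (P : Subgroup G))
  have hB := MulAction.sum_card_fixedBy_eq_card_orbits_mul_card_group N (P : Subgroup G)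
  have hle : Nat.card (PClasses p G) ≤
      Fintype.card (MulAction.orbitRel.Quotient N (P : Subgroup G)) := by
    rw [← Nat.card_eq_fintype_card]
    let f : MulAction.orbitRel.Quotient N (P : Subgroup G) → PClasses p G :=
      Quotient.lift (toPClass P) (by
        rintro a b ⟨n, hn⟩
        refine (toPClass_eq_iff P a b).mpr (isConj_iff.mpr ⟨(n : G)⁻¹, ?_⟩)
        rw [← hn]
        change (n : G)⁻¹ * ((n : G) * (b : G) * (n : G)⁻¹) * (n : G)⁻¹⁻¹ = b
        group)
    apply Nat.card_le_card_of_surjective f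
    intro c
    obtain ⟨x, rfl⟩ := toPClass_surjective P c
    exact ⟨Quotient.mk'' x, rfl⟩
  let C' : Subgroup N := (Subgroup.centralizer ((P : Subgroup G) : Set G)).subgroupOf N
  have hfix1 : ∀ n : N, Fintype.card (MulAction.fixedBy (P : Subgroup G) n) ≤
      Fintype.card (P : Subgroup G) := fun n => Fintype.card_subtype_le _
  have hfix2 : ∀ n : N, n ∉ C' → p * Fintype.card (MulAction.fixedBy (P : Subgroup G) n) ≤
      Fintype.card (P : Subgroup G) := by
    intro n hn
    let F : Subgroup (P : Subgroup G) :=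
      (Subgroup.centralizer ({(n : G)} : Set G)).subgroupOf (P : Subgroup G)
    have hF : ∀ x : (P : Subgroup G), x ∈ F ↔ x ∈ MulAction.fixedBy (P : Subgroup G) n := by
      intro x
      rw [Subgroup.mem_subgroupOf, Subgroup.mem_centralizer_iff, MulAction.mem_fixedBy]
      simp only [Set.mem_singleton_iff, forall_eq]
      constructor
      · intro h
        apply Subtype.ext
        change (n : G) * x * (n : G)⁻¹ = x
        rw [h, mul_inv_cancel_right]
      · intro h
        have h1 : (n : G) * x * (n : G)⁻¹ = x := congrArg Subtype.val h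
        rw [mul_inv_eq_iff_eq_mul] at h1
        exact h1
    have hcard : Fintype.card (MulAction.fixedBy (P : Subgroup G) n) = Nat.card F := by
      rw [← Nat.card_eq_fintype_card]
      exact Nat.card_congr (Equiv.subtypeEquivRight (fun x => (hF x).symm))
    have hFtop : F ≠ ⊤ := by
      intro h
      apply hn
      change (n : G) ∈ Subgroup.centralizer ((P : Subgroup G) : Set G)
      rw [Subgroup.mem_centralizer_iff]
      intro x hx
      have h1 : (⟨x, hx⟩ : (P : Subgroup G)) ∈ F := h ▸ Subgroup.mem_top _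
      have h2 : (n : G) * x = x * n := Subgroup.mem_centralizer_iff.mp h1 (n : G) rfl
      exact h2.symm
    obtain ⟨k, hk⟩ := P.isPGroup'.index F
    have hk0 : k ≠ 0 := by
      rintro rfl
      rw [pow_zero, Subgroup.index_eq_one] at hk
      exact hFtop hk
    have hdvd : p ∣ F.index := by
      rw [hk]; exact dvd_pow_self _ hk0
    have h3 := Subgroup.card_mul_index F
    rw [hcard, ← Nat.card_eq_fintype_card]
    rw [← h3, mul_comm]
    exact Nat.mul_le_mul_left _ (Nat.le_of_dvd F.index_ne_zero_of_finite.bot_lt hdvd)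
  -- the size of `C'`
  have hC' : C' ≠ ⊤ := by
    intro h
    apply hN
    intro x hx
    have h1 : (⟨x, hx⟩ : N) ∈ C' := h ▸ Subgroup.mem_top _
    exact h1
  have h2c : 2 * Nat.card C' ≤ Nat.card N := by
    have h3 := Subgroup.card_mul_index C'
    rw [← h3, mul_comm]
    refine Nat.mul_le_mul_left _ ?_
    have h4 : C'.index ≠ 0 := Subgroup.index_ne_zero_of_finite
    have h5 : C'.index ≠ 1 := fun h => hC' (Subgroup.index_eq_one.mp h)
    omega
  obtain ⟨m, hm⟩ : ∃ m, p = m + 1 := ⟨p - 1, (Nat.sub_add_cancel hp.out.one_le).symm⟩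
  have hsum : ∑ n : N, p * Fintype.card (MulAction.fixedBy (P : Subgroup G) n) ≤
      ∑ n : N, Fintype.card (P : Subgroup G) * (1 + if n ∈ C' then m else 0) := by
    apply Finset.sum_le_sum
    intro n _
    by_cases hn : n ∈ C'
    · simp only [hn, if_true]
      have h1m : 1 + m = p := by omega
      rw [h1m, mul_comm]
      exact Nat.mul_le_mul_right _ (hfix1 n)
    · simp only [hn, if_false]
      simpa using hfix2 n hn
  have hsum2 : ∑ n : N, (1 + if n ∈ C' then m else 0) = Nat.card N + Nat.card C' * m := by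
    rw [Finset.sum_add_distrib, Finset.sum_ite, Finset.sum_const_zero, add_zero, Finset.sum_const,
      Finset.sum_const, smul_eq_mul, smul_eq_mul, mul_one, Finset.card_univ,
      ← Nat.card_eq_fintype_card, Nat.card_eq_fintype_card (α := C'),
      Fintype.card_subtype]
  rw [← Finset.mul_sum, ← Finset.mul_sum, hsum2, hB] at hsum
  -- arithmetic
  have hNpos : 0 < Nat.card N := Nat.card_pos
  set o := Fintype.card (MulAction.orbitRel.Quotient N (P : Subgroup G)) with ho
  rw [← Nat.card_eq_fintype_card (α := N), ← Nat.card_eq_fintype_card (α := (P : Subgroup G))] at hsum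
  set q := Nat.card (P : Subgroup G) with hq
  set n := Nat.card N with hn
  set c := Nat.card C' with hc
  exact (Nat.mul_le_mul_left _ hle).trans (arith_aux p m o n q c hm hNpos hsum h2c)

/-- `S3897`. -/
theorem many_pClasses_iff (hp2 : p ≠ 2) (P : Sylow p G) :
    (p + 1) * Nat.card (P : Subgroup G) < 2 * p * Nat.card (PClasses p G) ↔
      HasNormalPComplement p G ∧ IsMulCommutative (P : Subgroup G) := by
  constructor
  · intro h
    have hN : Subgroup.normalizer ((P : Subgroup G) : Set G) ≤
        Subgroup.centralizer ((P : Subgroup G) : Set G) := by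
      by_contra hcon
      exact absurd h (not_lt.mpr (two_mul_card_pClasses_le P hcon))
    refine ⟨⟨P, _, inferInstance, MonoidHom.ker_transferSylow_isComplement' P hN⟩, ?_⟩
    refine ⟨⟨?_⟩⟩
    rintro ⟨a, ha⟩ ⟨b, hb⟩
    apply Subtype.ext
    exact Subgroup.mem_centralizer_iff.mp (hN (Subgroup.le_normalizer ha)) b hb |>.symm
  · rintro ⟨hn, hc⟩
    have h1 := card_conjClasses_le_card_pClasses P hn
    have h2 : Nat.card (P : Subgroup G) ≤ Nat.card (ConjClasses (P : Subgroup G)) := by
      apply Nat.card_le_card_of_injective ConjClasses.mk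
      intro a b hab
      obtain ⟨c, hc'⟩ := isConj_iff.mp (ConjClasses.mk_eq_mk_iff_isConj.mp hab)
      rw [← hc', hc.is_comm.comm c a]
      group
    have hp3 : 3 ≤ p := by
      have := hp.out.two_le
      omega
    have hP : 0 < Nat.card (P : Subgroup G) := Nat.card_pos
    calc (p + 1) * Nat.card (P : Subgroup G) < 2 * p * Nat.card (P : Subgroup G) :=
          Nat.mul_lt_mul_of_pos_right (by omega) hP
      _ ≤ 2 * p * Nat.card (PClasses p G) := Nat.mul_le_mul_left _ (h2.trans h1)

end Cfsg.Agent.Lib.Transfer.ClassCount
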