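import Cfsg.Agent.Lib.Transfer.ClassCount

/-!
# The number of classes of `2`-elements

* `exists_centric_witness`: a group without normal `p`-complement has a `p`-subgroup `Q` containing
  the center of a Sylow `p`-subgroup, and an element of prime power order `≠ p` normalizing but not
  centralizing `Q`.
* `many_two_classes_iff`: `S3895`.
-/

set_option autoImplicit false

namespace Cfsg.Agent.Lib.Transfer.ClassCount2

open Cfsg Cfsg.Agent.Lib.Transfer.Basic Cfsg.Agent.Lib.Transfer.Frobenius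
  Cfsg.Agent.Lib.Transfer.Cor4 Cfsg.Agent.Lib.Transfer.StronglyClosed
  Cfsg.Agent.Lib.Transfer.ClassCount
open scoped Pointwise commutatorElement

universe u

variable {G : Type u} [Group G] [Finite G] {p : ℕ} [hp : Fact p.Prime]

/-- Frobenius' criterion, the form with subgroups containing the center of a Sylow subgroup. -/
theorem exists_centric_witness (h : ¬ HasNormalPComplement p G) :
    ∃ (P : Sylow p G) (Q : Subgroup G), Q ≤ (P : Subgroup G) ∧
      (∀ z ∈ (P : Subgroup G), (∀ w ∈ (P : Subgroup G), w * z = z * w) → z ∈ Q) ∧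
      ∃ y ∈ Subgroup.normalizer (Q : Set G), ∃ r k : ℕ, r.Prime ∧ r ≠ p ∧ orderOf y = r ^ k ∧
        ∃ v ∈ Q, y * v * y⁻¹ ≠ v := by
  have h1 : ¬ FrobeniusCond p G := fun hc => h (hasNormalPComplement_of_frobeniusCond hc)
  unfold FrobeniusCond at h1
  push Not at h1
  obtain ⟨D, hD, g, hgN, hgc, hgC⟩ := h1
  let B : Subgroup G := Subgroup.centralizer (D : Set G)
  have hBN : ∀ t ∈ B, t ∈ Subgroup.normalizer (D : Set G) :=
    fun t ht => Subgroup.centralizer_le_normalizer _ ht
  have hconjB : ∀ t ∈ Subgroup.normalizer (D : Set G), ∀ c ∈ B, t * c * t⁻¹ ∈ B := by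
    intro t ht c hc
    refine mem_centralizer_iff'.mpr ?_
    intro x hx
    have hx' : t⁻¹ * x * t⁻¹⁻¹ ∈ D := (mem_normalizer_iff'.mp (Subgroup.inv_mem _ ht) x).mp hx
    have h2 := mem_centralizer_iff'.mp hc _ hx'
    calc t * c * t⁻¹ * x * (t * c * t⁻¹)⁻¹ = t * (c * (t⁻¹ * x * t⁻¹⁻¹) * c⁻¹) * t⁻¹ := by group
      _ = t * (t⁻¹ * x * t⁻¹⁻¹) * t⁻¹ := by rw [h2]
      _ = x := by group
  obtain ⟨P₀⟩ : Nonempty (Sylow p B) := inferInstance
  let B₀ : Subgroup G := (P₀ : Subgroup B).map B.subtype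
  have hgB : g ∈ Subgroup.normalizer (B : Set G) :=
    mem_normalizer_of_conj_mem (hconjB g hgN)
  obtain ⟨c, hcB, t, ht, hgt⟩ := exists_mul_mem_normalizer B P₀ hgB
  have htD : t ∈ Subgroup.normalizer (D : Set G) := by
    have : t = c⁻¹ * g := by rw [hgt]; group
    rw [this]
    exact Subgroup.mul_mem _ (Subgroup.inv_mem _ (hBN c hcB)) hgN
  obtain ⟨a, b, hab, -, ⟨k, hk⟩, hbc, ha, hb⟩ :=
    Cfsg.Agent.Lib.Core.Residual.exists_pPart_pPrimePart p t (isOfFinOrder_of_finite t)
  have hle : ∀ (A : Subgroup G), t ∈ A → Subgroup.zpowers t ≤ A :=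
    fun A hA => Subgroup.zpowers_le.2 hA
  have haD := hle _ htD ha
  have hbD := hle _ htD hb
  have hbB₀ := hle _ ht hb
  have hbC : b ∉ B := by
    intro hbB
    apply hgC
    refine mem_of_coset (a := a) (b := c * (a * b * a⁻¹))
      (B.mul_mem hcB (hconjB a haD b hbB)) ?_ (hconjB a haD)
      (pow_orderOf_eq_one g) hk (Nat.Coprime.pow_right k hgc)
    rw [hgt, ← hab]
    group
  let Q : Subgroup G := D ⊔ B₀
  have hB₀p : IsPGroup p B₀ := P₀.isPGroup'.map _
  have hB₀le : B₀ ≤ B := by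
    rintro _ ⟨x, -, rfl⟩
    exact x.2
  have hQp : IsPGroup p Q := hD.to_sup_of_normal_left' hB₀p (hB₀le.trans hBN)
  obtain ⟨P, hP⟩ := hQp.exists_le_sylow
  have hbQ : b ∈ Subgroup.normalizer (Q : Set G) := sup_mem_normalizer hbD hbB₀
  have hbC' : b ∉ Subgroup.centralizer (Q : Set G) := by
    intro hb'
    apply hbC
    refine mem_centralizer_iff'.mpr ?_
    intro x hx
    exact mem_centralizer_iff'.mp hb' x ((le_sup_left : D ≤ Q) hx)
  obtain ⟨y, r, j, hr, hj, hyb, hyC⟩ := Cfsg.Agent.S0073.exists_prime_pow_power _ b hbC'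
  have hyQ : y ∈ Subgroup.normalizer (Q : Set G) := Subgroup.zpowers_le.2 hbQ hyb
  have hyc : (orderOf y).Coprime p :=
    Nat.Coprime.coprime_dvd_left (orderOf_dvd_of_mem_zpowers hyb) hbc
  have hrp : r ≠ p := by
    rintro rfl
    have hj0 : j = 0 := by
      by_contra hj0
      rw [hj] at hyc
      have h2 : r ∣ Nat.gcd (r ^ j) r := Nat.dvd_gcd (dvd_pow_self _ hj0) dvd_rfl
      rw [hyc] at h2
      exact hr.one_lt.ne' (Nat.dvd_one.mp h2)
    rw [hj0, pow_zero, orderOf_eq_one_iff] at hj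
    exact hyC (hj ▸ Subgroup.one_mem _)
  have hQP : Q ≤ (P : Subgroup G) := hP
  refine ⟨P, Q, hQP, ?_, y, hyQ, r, j, hr, hrp, hj, ?_⟩
  · intro z hz hzc
    have hzB : z ∈ B := by
      refine Subgroup.mem_centralizer_iff.mpr ?_
      intro x hx
      exact (hzc x (hQP ((le_sup_left : D ≤ Q) hx))).symm ▸ (hzc x (hQP ((le_sup_left : D ≤ Q) hx)))
    have h2 : IsPGroup p ((P : Subgroup G).subgroupOf B) :=
      P.isPGroup'.comap_of_injective B.subtype B.subtype_injective
    have h3 : (P₀ : Subgroup B) ≤ (P : Subgroup G).subgroupOf B := by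
      intro x hx
      exact hQP ((le_sup_right : B₀ ≤ Q) ⟨x, hx, rfl⟩)
    have h4 := P₀.is_maximal' h2 h3
    have h5 : (⟨z, hzB⟩ : B) ∈ (P : Subgroup G).subgroupOf B := hz
    rw [h4] at h5
    exact (le_sup_right : B₀ ≤ Q) ⟨⟨z, hzB⟩, h5, rfl⟩
  · by_contra hcon
    push Not at hcon
    exact hyC (mem_centralizer_iff'.mpr hcon)

omit [Finite G] hp in
theorem pow_conj_aux {y w u : G} (hu : y * u * y⁻¹ = u) (h : y * w * y⁻¹ = u * w) (n : ℕ) :
    y ^ n * w * (y ^ n)⁻¹ = u ^ n * w := by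
  induction n with
  | zero => simp
  | succ n ih =>
    have h2 : y * u ^ n * y⁻¹ = u ^ n := by
      rw [← conj_pow, hu]
    calc y ^ (n + 1) * w * (y ^ (n + 1))⁻¹ = y * (y ^ n * w * (y ^ n)⁻¹) * y⁻¹ := by
          rw [pow_succ']; group
      _ = y * (u ^ n * w) * y⁻¹ := by rw [ih]
      _ = (y * u ^ n * y⁻¹) * (y * w * y⁻¹) := by group
      _ = u ^ n * (u * w) := by rw [h2, h]
      _ = _ := by rw [pow_succ, mul_assoc]

omit [Finite G] hp in
theorem eq_of_pow_conj_aux {y w u : G} (hy : IsOfFinOrder y) (hu : y * u * y⁻¹ = u)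
    (h : y * w * y⁻¹ = u * w) : u ^ orderOf y = 1 := by
  have h3 := pow_conj_aux hu h (orderOf y)
  rw [pow_orderOf_eq_one] at h3
  simp only [one_mul, inv_one, mul_one] at h3
  exact mul_eq_right.mp h3.symm

/-- The counting argument for `p = 2`: fibers of a modified class map have at least two elements. -/
theorem two_mul_card_le_of_witness (P : Sylow p G) {Q : Subgroup G} (hQP : Q ≤ (P : Subgroup G))
    (hZ : ∀ z ∈ (P : Subgroup G), (∀ w ∈ (P : Subgroup G), w * z = z * w) → z ∈ Q)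
    {y : G} (hyQ : y ∈ Subgroup.normalizer (Q : Set G)) (hyc : (orderOf y).Coprime p)
    (hyo : Odd (orderOf y)) {v : G} (hvQ : v ∈ Q) (hv : y * v * y⁻¹ ≠ v) :
    2 * Nat.card (PClasses p G) ≤ Nat.card (P : Subgroup G) := by
  classical
  -- the relevant elements of `P`
  have hconj : ∀ x ∈ Q, y * x * y⁻¹ ∈ Q := fun x hx => (mem_normalizer_iff'.mp hyQ x).mp hx
  let v₀ : (P : Subgroup G) := ⟨v, hQP hvQ⟩
  let v₁ : (P : Subgroup G) := ⟨y * v * y⁻¹, hQP (hconj v hvQ)⟩
  let v₂ : (P : Subgroup G) := ⟨y * (y * v * y⁻¹) * y⁻¹, hQP (hconj _ (hconj v hvQ))⟩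
  have hv01 : v₀ ≠ v₁ := fun h => hv (congrArg Subtype.val h).symm
  have hv12 : v₂ ≠ v₁ := by
    intro h
    have h1 : y * (y * v * y⁻¹) * y⁻¹ = y * v * y⁻¹ := congrArg Subtype.val h
    exact hv (conj_injective h1)
  have hv02 : v₀ ≠ v₂ := by
    intro h
    have h1 : v = y * (y * v * y⁻¹) * y⁻¹ := congrArg Subtype.val h
    obtain ⟨t, ht⟩ := hyo
    have h2 : Commute (y ^ 2) v := by
      change y ^ 2 * v = v * y ^ 2
      rw [pow_two]
      nth_rw 2 [h1]
      group
    have h3 : Commute ((y ^ 2) ^ (t + 1)) v := h2.pow_left _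
    have h4 : (y ^ 2) ^ (t + 1) = y := by
      rw [← pow_mul]
      have : 2 * (t + 1) = orderOf y + 1 := by omega
      rw [this, pow_succ, pow_orderOf_eq_one, one_mul]
    rw [h4] at h3
    apply hv
    rw [h3.eq]
    group
  have hv1 : v₁ ≠ 1 := by
    intro h
    have h1 : y * v * y⁻¹ = 1 := congrArg Subtype.val h
    apply hv
    rw [h1]
    have h2 : v = 1 := by
      have h3 : y * v = y := mul_inv_eq_one.mp h1
      exact mul_eq_left.mp h3
    exact h2.symm
  let T : ↥(P : Subgroup G) → Prop := fun x => ∀ x' : (P : Subgroup G), IsConj (x : G) (x' : G) → x' = x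
  let cl := toPClass P
  let h : ↥(P : Subgroup G) → PClasses p G :=
    fun x => if T (x * v₁⁻¹) then cl (x * v₁⁻¹) else cl x
  have hcl : ∀ a b : (P : Subgroup G), IsConj (a : G) (b : G) → cl a = cl b :=
    fun a b hab => (toPClass_eq_iff P a b).mpr hab
  have hTc : ∀ z, T z → ∀ w ∈ (P : Subgroup G), w * (z : G) = z * w := by
    intro z hz w hw
    let w' : (P : Subgroup G) := ⟨w, hw⟩
    have h1 := hz (w' * z * w'⁻¹) (isConj_iff.mpr ⟨w, rfl⟩)
    have h2 : w * (z : G) * w⁻¹ = z := congrArg Subtype.val h1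
    calc w * (z : G) = w * z * w⁻¹ * w := by group
      _ = z * w := by rw [h2]
  have hTQ : ∀ z, T z → (z : G) ∈ Q := fun z hz => hZ _ z.2 (hTc z hz)
  have hTy : ∀ z, T z → y * (z : G) * y⁻¹ = z := by
    intro z hz
    have h1 := hz ⟨y * z * y⁻¹, hQP (hconj _ (hTQ z hz))⟩ (isConj_iff.mpr ⟨y, rfl⟩)
    exact congrArg Subtype.val h1
  have hfix : ∀ u ∈ (P : Subgroup G), y * u * y⁻¹ = u → ∀ w, y * w * y⁻¹ = u * w → u = 1 := by
    intro u hu hy w hw
    have h1 := eq_of_pow_conj_aux (isOfFinOrder_of_finite y) hy hw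
    apply eq_one_of_coprime_of_mem_isPGroup P.isPGroup' hu
    exact Nat.Coprime.coprime_dvd_left (orderOf_dvd_of_pow_eq_one h1) hyc
  have hF1 : ∀ z z', T z → T z' → z * v₀ ≠ z' * v₁ := by
    intro z z' hz hz' he
    have h1 : (z : G) * v = z' * (y * v * y⁻¹) := congrArg Subtype.val he
    have h2 : y * ((z' : G)⁻¹ * z) * y⁻¹ = (z' : G)⁻¹ * z := by
      have : y * ((z' : G)⁻¹ * z) * y⁻¹ = (y * z' * y⁻¹)⁻¹ * (y * z * y⁻¹) := by group
      rw [this, hTy z hz, hTy z' hz']
    have h3 := hfix _ ((P : Subgroup G).mul_mem ((P : Subgroup G).inv_mem z'.2) z.2) h2 v (by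
      rw [mul_assoc (z' : G)⁻¹, h1]
      group)
    apply hv
    have h4 : (z : G) = z' := (inv_mul_eq_one.mp h3).symm
    rw [h4] at h1
    exact (mul_left_cancel h1).symm
  have hF2 : ∀ z z', T z → T z' → z * v₂ ≠ z' * v₁ := by
    intro z z' hz hz' he
    have h1 : (z : G) * (y * (y * v * y⁻¹) * y⁻¹) = z' * (y * v * y⁻¹) := congrArg Subtype.val he
    have h2 : y * ((z : G)⁻¹ * z') * y⁻¹ = (z : G)⁻¹ * z' := by
      have : y * ((z : G)⁻¹ * z') * y⁻¹ = (y * z * y⁻¹)⁻¹ * (y * z' * y⁻¹) := by group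
      rw [this, hTy z hz, hTy z' hz']
    have h3 := hfix _ ((P : Subgroup G).mul_mem ((P : Subgroup G).inv_mem z.2) z'.2) h2
      (y * v * y⁻¹) (by
      rw [mul_assoc (z : G)⁻¹, ← h1]
      group)
    have h4 : (z : G) = z' := inv_mul_eq_one.mp h3
    rw [h4] at h1
    exact hv (conj_injective (mul_left_cancel h1))
  have hc01 : ∀ z, T z → cl (z * v₀) = cl (z * v₁) := by
    intro z hz
    apply hcl
    refine isConj_iff.mpr ⟨y, ?_⟩
    change y * ((z : G) * v) * y⁻¹ = (z : G) * (y * v * y⁻¹)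
    have : y * ((z : G) * v) * y⁻¹ = (y * z * y⁻¹) * (y * v * y⁻¹) := by group
    rw [this, hTy z hz]
  have hc12 : ∀ z, T z → cl (z * v₁) = cl (z * v₂) := by
    intro z hz
    apply hcl
    refine isConj_iff.mpr ⟨y, ?_⟩
    change y * ((z : G) * (y * v * y⁻¹)) * y⁻¹ = (z : G) * (y * (y * v * y⁻¹) * y⁻¹)
    have : y * ((z : G) * (y * v * y⁻¹)) * y⁻¹ = (y * z * y⁻¹) * (y * (y * v * y⁻¹) * y⁻¹) := by group
    rw [this, hTy z hz]
  have hfiber : ∀ c : PClasses p G, ∃ a b : (P : Subgroup G), a ≠ b ∧ h a = c ∧ h b = c := by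
    intro c
    obtain ⟨x, rfl⟩ := toPClass_surjective P c
    change ∃ a b : (P : Subgroup G), a ≠ b ∧ h a = cl x ∧ h b = cl x
    by_cases hx : T x
    · refine ⟨x, x * v₁, ?_, ?_, ?_⟩
      · intro he
        exact hv1 (mul_eq_left.mp he.symm)
      · have h1 : ¬ T (x * v₁⁻¹) := by
          intro hz
          have h2 : x = (x * v₁⁻¹) * v₁ := by group
          have h3 := hc01 _ hz
          rw [← h2] at h3
          have h4 := hx ((x * v₁⁻¹) * v₀) ((toPClass_eq_iff P _ _).mp h3.symm)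
          apply hv01
          have h5 : (x * v₁⁻¹) * v₀ = (x * v₁⁻¹) * v₁ := by
            rw [h4]
            group
          exact mul_left_cancel h5
        simp only [h, h1, if_false]
      · have h1 : (x * v₁) * v₁⁻¹ = x := by group
        simp only [h, h1, hx, if_true]
    · by_cases hw : ∃ w, cl w = cl x ∧ T (w * v₁⁻¹)
      · obtain ⟨w, hw1, hw2⟩ := hw
        obtain ⟨z, hz⟩ : ∃ z, z = w * v₁⁻¹ := ⟨_, rfl⟩
        rw [← hz] at hw2
        have hwz : w = z * v₁ := by rw [hz]; group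
        refine ⟨z * v₀, z * v₂, ?_, ?_, ?_⟩
        · intro he
          exact hv02 (mul_left_cancel he)
        · have h1 : ¬ T (z * v₀ * v₁⁻¹) := by
            intro hz'
            exact hF1 z _ hw2 hz' (by group)
          simp only [h, h1, if_false]
          rw [hc01 z hw2, ← hwz, hw1]
        · have h1 : ¬ T (z * v₂ * v₁⁻¹) := by
            intro hz'
            exact hF2 z _ hw2 hz' (by group)
          simp only [h, h1, if_false]
          rw [← hc12 z hw2, ← hwz, hw1]
      · push Not at hw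
        have hx' : ∃ x' : (P : Subgroup G), IsConj (x : G) (x' : G) ∧ x' ≠ x := by
          by_contra hcon
          push Not at hcon
          exact hx hcon
        obtain ⟨x', hx'1, hx'2⟩ := hx'
        have h1 : ¬ T (x * v₁⁻¹) := hw x rfl
        have h2 : cl x' = cl x := (hcl _ _ hx'1).symm
        have h3 : ¬ T (x' * v₁⁻¹) := hw x' h2
        refine ⟨x, x', hx'2.symm, ?_, ?_⟩
        · simp only [h, h1, if_false]
        · simp only [h, h3, if_false]
          exact h2
  choose a b hab hac hbc using hfiber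
  let f : PClasses p G × Bool → ↥(P : Subgroup G) := fun c => if c.2 then a c.1 else b c.1
  have hf : Function.Injective f := by
    rintro ⟨c, s⟩ ⟨c', s'⟩ he
    have h1 : c = c' := by
      cases s <;> cases s' <;> simp only [f, Bool.false_eq_true, if_true, if_false] at he
      · rw [← hbc c, he, hbc]
      · rw [← hbc c, he, hac]
      · rw [← hac c, he, hbc]
      · rw [← hac c, he, hac]
    subst h1
    cases s <;> cases s' <;> simp only [f, Bool.false_eq_true, if_true, if_false] at he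
    · rfl
    · exact absurd he.symm (hab c)
    · exact absurd he (hab c)
    · rfl
  have h1 := Nat.card_le_card_of_injective f hf
  rw [Nat.card_prod, Nat.card_eq_fintype_card (α := Bool), Fintype.card_bool, mul_comm] at h1
  exact h1

/-- `S3895`. -/
theorem many_two_classes_iff (P : Sylow 2 G) :
    Nat.card (P : Subgroup G) < 2 * Nat.card (PClasses 2 G) ↔
      HasNormalPComplement 2 G ∧
        Nat.card (P : Subgroup G) < 2 * Nat.card (ConjClasses (P : Subgroup G)) := by
  constructor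
  · intro h
    refine ⟨?_, h.trans_le (Nat.mul_le_mul_left _ (card_pClasses_le_card_conjClasses P))⟩
    by_contra hcon
    obtain ⟨P₁, Q, hQP, hZ, y, hyQ, r, k, hr, hr2, hk, v, hvQ, hv⟩ := exists_centric_witness hcon
    have hrc : Nat.Coprime r 2 := (Nat.coprime_primes hr Nat.prime_two).mpr hr2
    have hyc : (orderOf y).Coprime 2 := by
      rw [hk]
      exact Nat.Coprime.pow_left k hrc
    have hyo : Odd (orderOf y) := Nat.Coprime.odd_of_right hyc
    have h1 := two_mul_card_le_of_witness P₁ hQP hZ hyQ hyc hyo hvQ hv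
    have h2 : Nat.card (P₁ : Subgroup G) = Nat.card (P : Subgroup G) := by
      rw [Sylow.card_eq_multiplicity, Sylow.card_eq_multiplicity]
    omega
  · rintro ⟨h1, h2⟩
    exact h2.trans_le (Nat.mul_le_mul_left _ (card_conjClasses_le_card_pClasses P h1))

end Cfsg.Agent.Lib.Transfer.ClassCount2
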