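import Cfsg.Agent.Lib.Transfer.Cor

/-!
# More corollaries of transfer

* `S1242`: control of `p`-fusion by a subgroup of index prime to `p` gives
  `(O^p(G) G') ∩ H = O^p(H) H'`.
-/

namespace Cfsg.Agent.Lib.Transfer.Cor2

open Cfsg.Agent.Lib.Transfer.Basic Cfsg.Agent.Lib.Transfer.Focal Cfsg.Agent.Lib.Transfer.Tate
open Cfsg
open scoped commutatorElement

universe u v

variable {G : Type u} [Group G] {p : ℕ}

/-- The quotient by a normal subgroup containing the commutator is commutative. -/
@[reducible] def commGroupQuotient (H : Type u) [Group H] (N : Subgroup H) [N.Normal]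
    (hN : commutator H ≤ N) : CommGroup (H ⧸ N) :=
  { (inferInstance : Group (H ⧸ N)) with
    mul_comm := by
      intro a b
      obtain ⟨a, rfl⟩ := QuotientGroup.mk_surjective a
      obtain ⟨b, rfl⟩ := QuotientGroup.mk_surjective b
      rw [← QuotientGroup.mk_mul, ← QuotientGroup.mk_mul]
      apply QuotientGroup.eq.mpr
      have hc : (a * b)⁻¹ * (b * a) = ⁅b⁻¹, a⁻¹⁆ := by
        rw [commutatorElement_def]; group
      rw [hc]
      exact hN (Subgroup.commutator_mem_commutator (Subgroup.mem_top _) (Subgroup.mem_top _)) }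

variable [Finite G] [Fact p.Prime]

/-- `S1242`. -/
theorem pResidual_sup_commutator_inf (H : Subgroup G) (hidx : Nat.Coprime p H.index)
    (hfus : ∀ g ∈ H, (∃ k : ℕ, orderOf g = p ^ k) → ∀ a : G, a * g * a⁻¹ ∈ H →
      ∃ h ∈ H, h * g * h⁻¹ = a * g * a⁻¹) :
    (pResidual p G ⊔ commutator G) ⊓ H = (pResidual p H ⊔ commutator H).map H.subtype := by
  apply le_antisymm
  · rintro x ⟨hx, hxH⟩
    set N : Subgroup H := pResidual p H ⊔ commutator H with hNdef
    haveI hNnormal : N.Normal := Subgroup.sup_normal _ _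
    letI : CommGroup (H ⧸ N) := commGroupQuotient H N le_sup_right
    have hAp : IsPGroup p (H ⧸ N) := by
      have h1 : IsPGroup p (H ⧸ pResidual p H) := isPGroup_quotient_pResidual
      have hle : pResidual p H ≤ N := le_sup_left
      intro q
      obtain ⟨g, rfl⟩ := QuotientGroup.mk'_surjective N q
      obtain ⟨k, hk⟩ := h1 (QuotientGroup.mk' _ g)
      refine ⟨k, ?_⟩
      rw [← map_pow] at hk ⊢
      exact (QuotientGroup.eq_one_iff _).mpr (hle ((QuotientGroup.eq_one_iff _).mp hk))
    have hinv : ∀ (x y : H) (g : G), (y : G) = g * x * g⁻¹ →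
        (QuotientGroup.mk' N) y = (QuotientGroup.mk' N) x :=
      conj_invariant_of_control (p := p) H (by
        intro x hx ⟨k, hk⟩ g hg
        obtain ⟨j, -, hj⟩ := (Nat.dvd_prime_pow (Fact.out : p.Prime)).mp (orderOf_dvd_of_pow_eq_one hk)
        obtain ⟨h, hh, hhe⟩ := hfus x hx ⟨j, hj⟩ g hg
        exact ⟨h, hh, hhe.symm⟩) hAp (QuotientGroup.mk' N)
    haveI : H.FiniteIndex := inferInstance
    have hcop : Nat.Coprime (Nat.card (H ⧸ N)) H.index := by
      obtain ⟨k, hk⟩ := IsPGroup.iff_card.mp hAp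
      rw [hk]
      exact Nat.Coprime.pow_left _ hidx
    obtain ⟨f, hf⟩ := exists_extension hcop (QuotientGroup.mk' N) hinv
    have hk1 : pResidual p G ≤ f.ker := pResidual_le_ker hAp f
    have hk2 : commutator G ≤ f.ker := by
      rw [commutator_def, Subgroup.commutator_le]
      intro a _ b _
      rw [MonoidHom.mem_ker, map_commutatorElement, commutatorElement_eq_one_iff_mul_comm]
      exact mul_comm _ _
    have hfx : f x = 1 := (sup_le hk1 hk2) hx
    refine ⟨⟨x, hxH⟩, ?_, rfl⟩
    have := hf ⟨x, hxH⟩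
    rw [hfx] at this
    exact (QuotientGroup.eq_one_iff _).mp this.symm
  · rw [Subgroup.map_sup]
    have h1 : (pResidual p H).map H.subtype ≤ pResidual p G := map_pResidual_le p H.subtype
    have h2 : (commutator H).map H.subtype ≤ commutator G := by
      rw [Subgroup.map_subtype_commutator, commutator_def]
      exact Subgroup.commutator_mono le_top le_top
    exact le_inf (sup_le_sup h1 h2) (sup_le (Subgroup.map_subtype_le _) (Subgroup.map_subtype_le _))

omit [Fact p.Prime] in
/-- `S0090`. -/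
theorem abelian_hall_decomposition (A : Subgroup G) [hN : A.Normal] (hc : IsMulCommutative A)
    (hHall : Nat.Coprime (Nat.card A) A.index) :
    ⁅A, (⊤ : Subgroup G)⁆ = commutator G ⊓ A ∧
      (commutator G ⊓ A) ⊓ (Subgroup.center G ⊓ A) = ⊥ ∧
      (commutator G ⊓ A) ⊔ (Subgroup.center G ⊓ A) = A := by
  obtain ⟨K, hK⟩ := Subgroup.exists_right_complement'_of_coprime hHall
  have hKcard : Nat.card K = A.index := by
    exact hK.symm.index_eq_card.symm
  have hKnorm : K ≤ Subgroup.normalizer (A : Set G) := by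
    have : Subgroup.normalizer (A : Set G) = ⊤ := Subgroup.normalizer_eq_top_iff.mpr hN
    rw [this]; exact le_top
  have hcop : Nat.Coprime (Nat.card K) (Nat.card A) := by
    rw [hKcard]; exact hHall.symm
  have hfs := Cfsg.Agent.Lib.Coprime.Abelian.fixed_sup_commutator hKnorm hcop
  have hcomm : ∀ a ∈ A, ∀ b ∈ A, a * b = b * a := by
    intro a ha b hb
    have := hc.is_comm.comm (⟨a, ha⟩ : A) ⟨b, hb⟩
    exact congrArg Subtype.val this
  have hZ : A ⊓ Subgroup.centralizer (K : Set G) ≤ Subgroup.center G ⊓ A := by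
    rintro a ⟨haA, haC⟩
    refine ⟨Subgroup.mem_center_iff.mpr ?_, haA⟩
    intro g
    have hg : g ∈ A ⊔ K := hK.sup_eq_top ▸ Subgroup.mem_top g
    obtain ⟨b, hb, k, hk, rfl⟩ := Subgroup.mem_sup_of_normal_left.mp hg
    have h1 : k * a = a * k := Subgroup.mem_centralizer_iff.mp haC k hk
    rw [mul_assoc, h1, ← mul_assoc, hcomm b hb a haA, mul_assoc]
  have hW1 : ⁅A, K⁆ ≤ ⁅A, (⊤ : Subgroup G)⁆ := Subgroup.commutator_mono le_rfl le_top
  have hW2 : ⁅A, (⊤ : Subgroup G)⁆ ≤ commutator G ⊓ A := by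
    refine le_inf ?_ ?_
    · rw [commutator_def]; exact Subgroup.commutator_mono le_top le_rfl
    · exact Subgroup.commutator_le_left _ _
  have hbot : (commutator G ⊓ A) ⊓ (Subgroup.center G ⊓ A) = ⊥ := by
    rw [eq_bot_iff]
    rintro x ⟨⟨h1, h2⟩, h3, -⟩
    have := abelian_hall_inf_eq_bot A hc hHall
    have hx : x ∈ A ⊓ commutator G ⊓ Subgroup.center G := ⟨⟨h2, h1⟩, h3⟩
    rw [this] at hx
    exact hx
  refine ⟨?_, hbot, ?_⟩
  · refine le_antisymm hW2 ?_
    rintro x ⟨hx1, hx2⟩
    have hx : x ∈ (A ⊓ Subgroup.centralizer (K : Set G)) ⊔ ⁅A, K⁆ := by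
      rw [hfs]; exact hx2
    -- write `x = z * c`
    obtain ⟨z, hz, c, hc', rfl⟩ : ∃ z ∈ A ⊓ Subgroup.centralizer (K : Set G), ∃ c ∈ ⁅A, K⁆, z * c = x := by
      have hcomm' : ∀ y ∈ (A ⊓ Subgroup.centralizer (K : Set G)) ⊔ ⁅A, K⁆,
          ∃ z ∈ A ⊓ Subgroup.centralizer (K : Set G), ∃ c ∈ ⁅A, K⁆, z * c = y := by
        intro y hy
        have hZn : (A ⊓ Subgroup.centralizer (K : Set G)) ≤ Subgroup.center G := fun a ha => (hZ ha).1
        have hnormal : (A ⊓ Subgroup.centralizer (K : Set G)).Normal := by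
          constructor
          intro a ha g
          have : g * a * g⁻¹ = a := by
            rw [(Subgroup.mem_center_iff.mp (hZn ha) g)]; group
          rw [this]; exact ha
        exact Subgroup.mem_sup_of_normal_left.mp hy
      exact hcomm' x hx
    have hz1 : z ∈ commutator G ⊓ A := by
      have hc2 := hW2 (hW1 hc')
      refine ⟨?_, hz.1⟩
      have : z = (z * c) * c⁻¹ := by group
      rw [this]
      exact Subgroup.mul_mem _ hx1 (Subgroup.inv_mem _ hc2.1)
    have hz2 := hZ hz
    have hz3 : z ∈ (commutator G ⊓ A) ⊓ (Subgroup.center G ⊓ A) := ⟨hz1, hz2⟩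
    rw [hbot, Subgroup.mem_bot] at hz3
    rw [hz3, one_mul]
    exact hW1 hc'
  · apply le_antisymm
    · exact sup_le inf_le_right inf_le_right
    · intro x hx
      have hx' : x ∈ (A ⊓ Subgroup.centralizer (K : Set G)) ⊔ ⁅A, K⁆ := by
        rw [hfs]; exact hx
      exact (sup_le (hZ.trans le_sup_right) ((hW1.trans hW2).trans le_sup_left)) hx'

/-- A complement of a Sylow subgroup in its normalizer (Schur--Zassenhaus). -/
theorem exists_complement_in_normalizer (P : Sylow p G) :
    ∃ K : Subgroup G, K ≤ Subgroup.normalizer ((P : Subgroup G) : Set G) ∧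
      Nat.Coprime (Nat.card K) (Nat.card (P : Subgroup G)) ∧
      ∀ n ∈ Subgroup.normalizer ((P : Subgroup G) : Set G), ∃ t ∈ (P : Subgroup G), ∃ k ∈ K, n = t * k := by
  set N := Subgroup.normalizer ((P : Subgroup G) : Set G) with hN
  have hle : (P : Subgroup G) ≤ N := Subgroup.le_normalizer
  let P' : Subgroup N := (P : Subgroup G).subgroupOf N
  haveI hP' : P'.Normal := Subgroup.normal_in_normalizer
  have hcard : Nat.card P' = Nat.card (P : Subgroup G) :=
    Nat.card_congr (Subgroup.subgroupOfEquivOfLe hle).toEquiv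
  have hidx : P'.index ∣ (P : Subgroup G).index := by
    have h := Subgroup.relIndex_mul_index hle
    exact ⟨N.index, h.symm⟩
  have hcopP : Nat.Coprime (Nat.card (P : Subgroup G)) (P : Subgroup G).index := P.card_coprime_index
  have hcop : Nat.Coprime (Nat.card P') P'.index := by
    rw [hcard]
    exact Nat.Coprime.coprime_dvd_right hidx hcopP
  obtain ⟨K', hK'⟩ := Subgroup.exists_right_complement'_of_coprime hcop
  refine ⟨K'.map N.subtype, Subgroup.map_subtype_le _, ?_, ?_⟩
  · have h1 : Nat.card (K'.map N.subtype) = Nat.card K' :=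
      Nat.card_congr (K'.equivMapOfInjective N.subtype N.subtype_injective).symm.toEquiv
    rw [h1, ← hK'.symm.index_eq_card]
    exact (Nat.Coprime.coprime_dvd_left hidx hcopP.symm)
  · intro n hn
    have hm : (⟨n, hn⟩ : N) ∈ P' ⊔ K' := hK'.sup_eq_top ▸ Subgroup.mem_top _
    obtain ⟨t, ht, k, hk, hkt⟩ := Subgroup.mem_sup_of_normal_left.mp hm
    refine ⟨t, ht, k, ⟨k, hk, rfl⟩, ?_⟩
    have := congrArg Subtype.val hkt
    exact this.symm

/-- `S0105`. -/
theorem exists_quotient_equiv_central_part (P : Sylow p G) (hP : IsMulCommutative P) :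
    ∃ (N : Subgroup G) (_ : N.Normal), Nonempty (G ⧸ N ≃*
      ((P : Subgroup G) ⊓ Subgroup.centralizer (Subgroup.normalizer ((P : Subgroup G) : Set G) : Set G) : Subgroup G)) := by
  obtain ⟨K, hKle, hKcop, hKdec⟩ := exists_complement_in_normalizer P
  set NP := Subgroup.normalizer ((P : Subgroup G) : Set G) with hNP
  set A : Subgroup G := (P : Subgroup G) ⊓ Subgroup.centralizer (NP : Set G) with hA
  haveI hPcomm : IsMulCommutative (P : Subgroup G) := hP
  have hcommP : ∀ a ∈ (P : Subgroup G), ∀ b ∈ (P : Subgroup G), a * b = b * a := by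
    intro a ha b hb
    have := hP.is_comm.comm (⟨a, ha⟩ : (P : Subgroup G)) ⟨b, hb⟩
    exact congrArg Subtype.val this
  -- `A` is commutative
  letI : CommGroup A :=
    { (inferInstance : Group A) with
      mul_comm := by
        rintro ⟨a, ha⟩ ⟨b, hb⟩
        apply Subtype.ext
        exact hcommP a ha.1 b hb.1 }
  have hν : ∀ v : (P : Subgroup G), ((Cfsg.Agent.Lib.Coprime.Abelian.norm K (P : Subgroup G) hKle v : (P : Subgroup G)) : G) ∈ A := by
    intro v
    refine ⟨Subtype.property _, ?_⟩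
    refine Subgroup.mem_centralizer_iff.mpr ?_
    intro n hn
    obtain ⟨t, ht, k, hk, rfl⟩ := hKdec n hn
    have h1 := Subgroup.mem_centralizer_iff.mp (Cfsg.Agent.Lib.Coprime.Abelian.norm_mem_centralizer hKle v) k hk
    have h2 := hcommP t ht _ (Subtype.property (Cfsg.Agent.Lib.Coprime.Abelian.norm K (P : Subgroup G) hKle v))
    rw [mul_assoc, h1, ← mul_assoc, h2, mul_assoc]
  let ψ : (P : Subgroup G) →* A :=
    { toFun := fun v => ⟨_, hν v⟩
      map_one' := by
        apply Subtype.ext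
        simp
      map_mul' := by
        intro a b
        apply Subtype.ext
        simp }
  have hinv : ∀ (x y : (P : Subgroup G)) (g : G), (y : G) = g * x * g⁻¹ → ψ y = ψ x := by
    intro x y g hxy
    obtain ⟨n, hn, hn'⟩ := burnside_control P hP x.2 g (by rw [← hxy]; exact y.2)
    obtain ⟨t, ht, k, hk, rfl⟩ := hKdec n hn
    apply Subtype.ext
    have hmem : k * (x : G) * k⁻¹ ∈ (P : Subgroup G) :=
      Cfsg.Agent.Lib.Coprime.Action.conj_mem_of_le_normalizer hKle hk x.2
    have hy : y = ⟨k * (x : G) * k⁻¹, hmem⟩ := by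
      apply Subtype.ext
      change (y : G) = k * (x : G) * k⁻¹
      rw [hxy, hn']
      have := hcommP t ht _ hmem
      calc t * k * (x : G) * (t * k)⁻¹ = t * (k * (x : G) * k⁻¹) * t⁻¹ := by group
        _ = (k * (x : G) * k⁻¹) * t * t⁻¹ := by rw [this]
        _ = k * (x : G) * k⁻¹ := by group
    change ((Cfsg.Agent.Lib.Coprime.Abelian.norm K (P : Subgroup G) hKle y : (P : Subgroup G)) : G) =
      ((Cfsg.Agent.Lib.Coprime.Abelian.norm K (P : Subgroup G) hKle x : (P : Subgroup G)) : G)
    rw [hy]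
    exact congrArg Subtype.val (Cfsg.Agent.Lib.Coprime.Abelian.norm_conj hKle x hk)
  have hcardA : Nat.card A ∣ Nat.card (P : Subgroup G) := Subgroup.card_dvd_of_le inf_le_left
  have hcop1 : Nat.Coprime (Nat.card A) (P : Subgroup G).index :=
    Nat.Coprime.coprime_dvd_left hcardA P.card_coprime_index
  obtain ⟨f, hf⟩ := exists_extension hcop1 ψ hinv
  have hsurj : Function.Surjective f := by
    intro a
    have hcop2 : Nat.Coprime (Nat.card A) (Nat.card K) :=
      (Nat.Coprime.coprime_dvd_right hcardA hKcop).symm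
    obtain ⟨b, hb⟩ := (powCoprime hcop2).surjective a
    refine ⟨(b : G), ?_⟩
    have h1 := hf ⟨b, b.2.1⟩
    refine Eq.trans h1 ?_
    apply Subtype.ext
    change ((Cfsg.Agent.Lib.Coprime.Abelian.norm K (P : Subgroup G) hKle ⟨b, b.2.1⟩ : (P : Subgroup G)) : G) = a
    have hbc : ((⟨b, b.2.1⟩ : (P : Subgroup G)) : G) ∈ Subgroup.centralizer (K : Set G) := by
      refine Subgroup.mem_centralizer_iff.mpr ?_
      intro k hk
      exact Subgroup.mem_centralizer_iff.mp b.2.2 k (hKle hk)
    rw [Cfsg.Agent.Lib.Coprime.Abelian.norm_of_mem_centralizer hKle _ hbc]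
    rw [← hb]
    simp [powCoprime]
  exact ⟨f.ker, inferInstance, ⟨QuotientGroup.quotientKerEquivOfSurjective f hsurj⟩⟩

end Cfsg.Agent.Lib.Transfer.Cor2
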