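import Cfsg.Agent.Lib.Transfer.SmallSylow

/-!
# Further normal `p`-complement criteria

* `S2007`: self-centralizing normal subgroups of Sylow subgroups with `p`-automizer.
* `S3862`: real `2`-elements central implies normal `2`-complement.
-/

set_option autoImplicit false

namespace Cfsg.Agent.Lib.Transfer.Cor3

open Cfsg Cfsg.Agent.Lib.Transfer.Basic Cfsg.Agent.Lib.Transfer.Frobenius
  Cfsg.Agent.Lib.Transfer.Focal Cfsg.Agent.Lib.Transfer.Tate Cfsg.Agent.Lib.Transfer.Cor
open scoped Pointwise commutatorElement IsMulCommutative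

universe u v

variable {G : Type u} [Group G] [Finite G] {p : ℕ} [hp : Fact p.Prime]

/-- Quotients by normal subgroups containing `O^p(G)` are `p`-groups. -/
theorem isPGroup_quotient_of_pResidual_le (N : Subgroup G) [N.Normal] (h : pResidual p G ≤ N) :
    IsPGroup p (G ⧸ N) := by
  intro q
  obtain ⟨g, rfl⟩ := QuotientGroup.mk'_surjective N q
  obtain ⟨k, hk⟩ := (isPGroup_quotient_pResidual (p := p) (G := G)) (QuotientGroup.mk' _ g)
  refine ⟨k, ?_⟩
  rw [← map_pow] at hk ⊢
  exact (QuotientGroup.eq_one_iff _).mpr (h ((QuotientGroup.eq_one_iff _).mp hk))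

/-- A central Sylow subgroup has a normal complement. -/
theorem hasNormalPComplement_of_central_sylow (P : Sylow p G)
    (h : ∀ a ∈ (P : Subgroup G), ∀ x : G, x * a = a * x) : HasNormalPComplement p G := by
  refine ⟨P, _, inferInstance, MonoidHom.ker_transferSylow_isComplement' P ?_⟩
  intro n _
  exact Subgroup.mem_centralizer_iff.mpr (fun a ha => (h a ha n).symm)

/-- `S2007`. -/
theorem hasNormalPComplement_normalizer_of_selfCentralizing (S : Sylow p G) (T : Subgroup G)
    (_hTS : T ≤ (S : Subgroup G)) (hTn : (S : Subgroup G) ≤ Subgroup.normalizer (T : Set G))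
    (hC : (S : Subgroup G) ⊓ Subgroup.centralizer (T : Set G) ≤ T)
    (hN : ∀ g ∈ Subgroup.normalizer (T : Set G), (orderOf g).Coprime p →
      g ∈ Subgroup.centralizer (T : Set G)) :
    HasNormalPComplement p (Subgroup.normalizer (T : Set G)) := by
  set N : Subgroup G := Subgroup.normalizer (T : Set G) with hNdef
  let C' : Subgroup N := (Subgroup.centralizer (T : Set G)).subgroupOf N
  have hCnormal : C'.Normal := by
    constructor
    intro x hx n
    refine Subgroup.mem_subgroupOf.mpr (Subgroup.mem_centralizer_iff.mpr ?_)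
    intro t ht
    have hx' : (x : G) ∈ Subgroup.centralizer (T : Set G) := Subgroup.mem_subgroupOf.mp hx
    have ht' : (n : G)⁻¹ * t * n ∈ T := by
      have := (mem_normalizer_iff'.mp (Subgroup.inv_mem _ n.2) t).mp ht
      simpa using this
    have h1 := Subgroup.mem_centralizer_iff.mp hx' _ ht'
    simp only [Subgroup.coe_mul, Subgroup.coe_inv]
    calc t * ((n : G) * x * (n : G)⁻¹) = n * (((n : G)⁻¹ * t * n) * x) * (n : G)⁻¹ := by group
      _ = n * (x * ((n : G)⁻¹ * t * n)) * (n : G)⁻¹ := by rw [h1]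
      _ = (n : G) * x * (n : G)⁻¹ * t := by group
  have hq : IsPGroup p (N ⧸ C') := by
    apply isPGroup_quotient_of_pResidual_le
    unfold pResidual
    rw [Subgroup.closure_le]
    intro g hg
    apply Subgroup.mem_subgroupOf.mpr
    apply hN g g.2
    rw [Subgroup.orderOf_coe]
    exact hg
  refine hasNormalPComplement_of_normal_of_isPGroup_quotient C' ?_ hq
  obtain ⟨P'⟩ : Nonempty (Sylow p C') := inferInstance
  apply hasNormalPComplement_of_central_sylow P'
  -- all elements of `P'` lie in `T`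
  have hSN : (S : Subgroup G) ≤ N := hTn
  let S' : Sylow p N := S.subtype hSN
  have hX : IsPGroup p ((P' : Subgroup C').map C'.subtype) := P'.2.map _
  obtain ⟨Q, hQ⟩ := hX.exists_le_sylow
  obtain ⟨n, hn⟩ := MulAction.exists_smul_eq N Q S'
  have hmemT : ∀ a ∈ (P' : Subgroup C'), ((a : N) : G) ∈ T := by
    intro a ha
    have h1 : (a : N) ∈ (Q : Subgroup N) := hQ ⟨a, ha, rfl⟩
    have h2 : n * (a : N) * n⁻¹ ∈ (S' : Subgroup N) := by
      rw [← hn]
      refine (mem_smul_sylow_iff n _ Q).mpr ?_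
      have h0 : n⁻¹ * (n * (a : N) * n⁻¹) * n = (a : N) := by group
      rw [h0]
      exact h1
    have h3 : ((n * (a : N) * n⁻¹ : N) : G) ∈ (S : Subgroup G) := by
      have : n * (a : N) * n⁻¹ ∈ (S : Subgroup G).subgroupOf N := by
        have h4 := Sylow.coe_subtype (P := S) hSN
        rw [← h4]
        exact h2
      exact Subgroup.mem_subgroupOf.mp this
    have h5 : n * (a : N) * n⁻¹ ∈ C' := hCnormal.conj_mem _ a.2 n
    have h6 : ((n * (a : N) * n⁻¹ : N) : G) ∈ T :=
      hC ⟨h3, Subgroup.mem_subgroupOf.mp h5⟩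
    have h7 := (mem_normalizer_iff'.mp (Subgroup.inv_mem _ n.2) _).mp h6
    simpa [mul_assoc] using h7
  intro a ha x
  apply Subtype.ext
  apply Subtype.ext
  have hx : ((x : N) : G) ∈ Subgroup.centralizer (T : Set G) := Subgroup.mem_subgroupOf.mp x.2
  have := Subgroup.mem_centralizer_iff.mp hx _ (hmemT a ha)
  exact this.symm

/-- The key step for `S3862`, in which `g` acts on a `2`-subgroup. -/
theorem fixes_of_real_central (h : ∀ x : G, (∃ j : ℕ, orderOf x = 2 ^ j) → IsConj x x⁻¹ →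
      x ∈ Subgroup.center G) (g : G) (hg : Nat.Coprime (orderOf g) 2) (n : ℕ) :
    ∀ D : Subgroup G, Nat.card D = n → IsPGroup 2 D → (∀ x ∈ D, g * x * g⁻¹ ∈ D) →
      ∀ x ∈ D, g * x * g⁻¹ = x := by
  induction n using Nat.strong_induction_on with
  | _ n ih =>
  intro D hn hD hgD
  by_cases hbot : D = ⊥
  · subst hbot
    intro x hx
    rw [Subgroup.mem_bot] at hx
    subst hx
    simp
  -- the subgroup generated by squares is proper
  let D₂ : Subgroup G := Subgroup.closure {y | ∃ a ∈ D, y = a ^ 2}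
  have hD₂le : D₂ ≤ D := by
    rw [Subgroup.closure_le]
    rintro _ ⟨a, ha, rfl⟩
    exact D.pow_mem ha 2
  have hD₂g : ∀ x ∈ D₂, g * x * g⁻¹ ∈ D₂ := by
    intro x hx
    have hle : D₂ ≤ D₂.comap (MulAut.conj g).toMonoidHom := by
      rw [Subgroup.closure_le]
      rintro _ ⟨a, ha, rfl⟩
      refine Subgroup.subset_closure ⟨g * a * g⁻¹, hgD a ha, ?_⟩
      simp [conj_pow]
    exact hle hx
  have hlt : Nat.card D₂ < n := by
    obtain ⟨k, hk⟩ := IsPGroup.iff_card.mp hD
    have hk0 : k ≠ 0 := by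
      rintro rfl
      apply hbot
      rw [pow_zero] at hk
      exact Subgroup.card_eq_one.mp hk
    obtain ⟨M, hM⟩ := Sylow.exists_subgroup_card_pow_prime (G := D) 2 (n := k - 1) (by
      rw [hk]
      exact pow_dvd_pow 2 (Nat.sub_le k 1))
    have hidx : M.index = 2 := by
      have h1 := M.card_mul_index
      rw [hM, hk] at h1
      have h2 : 2 ^ k = 2 ^ (k - 1) * 2 := by
        rw [← pow_succ]
        congr 1
        omega
      rw [h2] at h1
      exact Nat.eq_of_mul_eq_mul_left (by positivity) h1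
    have hle : D₂ ≤ M.map D.subtype := by
      rw [Subgroup.closure_le]
      rintro _ ⟨a, ha, rfl⟩
      exact ⟨_, Subgroup.sq_mem_of_index_two hidx (⟨a, ha⟩ : D), rfl⟩
    have h3 := Subgroup.card_le_of_le hle
    rw [Subgroup.card_map_of_injective D.subtype_injective, hM] at h3
    rw [← hn, hk]
    refine lt_of_le_of_lt h3 ?_
    exact Nat.pow_lt_pow_right (by norm_num) (by omega)
  have hfix := ih _ hlt D₂ rfl (hD.to_le hD₂le) hD₂g
  intro a ha
  set b := g * a * g⁻¹ with hb
  have hbD : b ∈ D := hgD a ha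
  have hsq : b * b = a * a := by
    have h1 := hfix (a ^ 2) (Subgroup.subset_closure ⟨a, ha, rfl⟩)
    rw [pow_two] at h1
    rw [hb]
    calc g * a * g⁻¹ * (g * a * g⁻¹) = g * (a * a) * g⁻¹ := by group
      _ = a * a := h1
  set c := a * b⁻¹ with hc
  have hcD : c ∈ D := D.mul_mem ha (D.inv_mem hbD)
  have hconj : IsConj c c⁻¹ := by
    refine isConj_iff.mpr ⟨b, ?_⟩
    have h2 : b⁻¹ * b⁻¹ = a⁻¹ * a⁻¹ := by
      rw [← mul_inv_rev, hsq, mul_inv_rev]
    rw [hc]
    calc b * (a * b⁻¹) * b⁻¹ = b * a * (b⁻¹ * b⁻¹) := by group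
      _ = b * a * (a⁻¹ * a⁻¹) := by rw [h2]
      _ = (a * b⁻¹)⁻¹ := by group
  have hcord : ∃ j : ℕ, orderOf c = 2 ^ j := by
    obtain ⟨j, hj⟩ := (IsPGroup.iff_orderOf.mp hD) ⟨c, hcD⟩
    rw [Subgroup.orderOf_mk] at hj
    exact ⟨j, hj⟩
  have hcZ := h c hcord hconj
  have hcomm : ∀ x : G, x * c = c * x := fun x => Subgroup.mem_center_iff.mp hcZ x
  -- iterate
  have hb' : g * a * g⁻¹ = c⁻¹ * a := by
    rw [hc, ← hb]
    group
  have hpow : ∀ m : ℕ, g ^ m * a * (g ^ m)⁻¹ = c⁻¹ ^ m * a := by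
    intro m
    induction m with
    | zero => simp
    | succ m ihm =>
      have hcomm' : ∀ x : G, x * c⁻¹ = c⁻¹ * x := fun x =>
        (show Commute x c from hcomm x).inv_right.eq
      calc g ^ (m + 1) * a * (g ^ (m + 1))⁻¹ = g ^ m * (g * a * g⁻¹) * (g ^ m)⁻¹ := by
            rw [pow_succ]; group
        _ = g ^ m * (c⁻¹ * a) * (g ^ m)⁻¹ := by rw [hb']
        _ = c⁻¹ * (g ^ m * a * (g ^ m)⁻¹) := by
            rw [← mul_assoc, hcomm' (g ^ m)]; group
        _ = c⁻¹ * (c⁻¹ ^ m * a) := by rw [ihm]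
        _ = c⁻¹ ^ (m + 1) * a := by rw [pow_succ']; group
  have h1 := hpow (orderOf g)
  rw [pow_orderOf_eq_one] at h1
  simp only [one_mul, inv_one, mul_one] at h1
  have h2 : c⁻¹ ^ orderOf g = 1 :=
    mul_right_cancel (show c⁻¹ ^ orderOf g * a = 1 * a by rw [one_mul]; exact h1.symm)
  have hc1 : c = 1 := by
    obtain ⟨j, hj⟩ := hcord
    have h3 : orderOf c ∣ orderOf g := by
      apply orderOf_dvd_of_pow_eq_one
      rw [inv_pow, inv_eq_one] at h2
      exact h2
    rw [hj] at h3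
    have h4 : Nat.Coprime (2 ^ j) (orderOf g) := Nat.Coprime.pow_left j hg.symm
    have h5 : 2 ^ j = 1 := Nat.eq_one_of_dvd_coprimes h4 dvd_rfl h3
    rw [← hj] at h5
    exact orderOf_eq_one_iff.mp h5
  calc b = c⁻¹ * a := hb'
    _ = a := by rw [hc1]; simp

/-- `S3862`. -/
theorem hasNormalTwoComplement_of_real_central
    (h : ∀ x : G, (∃ j : ℕ, orderOf x = 2 ^ j) → IsConj x x⁻¹ → x ∈ Subgroup.center G) :
    HasNormalPComplement 2 G := by
  haveI : Fact (Nat.Prime 2) := ⟨Nat.prime_two⟩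
  apply hasNormalPComplement_of_frobeniusCond
  intro D hD g hg hco
  refine mem_centralizer_iff'.mpr ?_
  intro x hx
  exact fixes_of_real_central h g hco _ D rfl hD (fun y hy => (mem_normalizer_iff'.mp hg y).mp hy) x hx

end Cfsg.Agent.Lib.Transfer.Cor3
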