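import Mathlib
import Cfsg.Agent.Lib.Subnormal.Basic

/-!
# Subgroups generated by their own conjugates of `A` (Flavell)

`Cn A`: the proper subgroups `H ⊇ A` with `NC A H = H`.  If `A` is proper with normal closure
the whole group and the join of `Cn A` is proper, then `A` lies in exactly one maximal subgroup.
-/

set_option autoImplicit false
set_option linter.style.haveILetI false
set_option linter.unusedSectionVars false

open scoped Pointwise

namespace Cfsg.Agent.Lib.Transfer.Flavell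

open Cfsg.Agent.Lib.Subnormal.Basic

variable {G : Type*} [Group G]

/-- Conjugate of a subgroup. -/
abbrev cj (g : G) (H : Subgroup G) : Subgroup G := MulAut.conj g • H

theorem cj_one (H : Subgroup G) : cj 1 H = H := by simp [cj]

theorem cj_mul (g h : G) (H : Subgroup G) : cj (g * h) H = cj g (cj h H) := by
  simp [cj, map_mul, mul_smul]

theorem cj_top (g : G) : cj g (⊤ : Subgroup G) = ⊤ :=
  conj_eq_of_mem_normalizer (Subgroup.le_normalizer (Subgroup.mem_top g))

theorem cj_le_iff {g : G} {H K : Subgroup G} : cj g H ≤ K ↔ H ≤ cj g⁻¹ K := by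
  constructor
  · intro h
    have := conj_mono (g := g⁻¹) h
    rwa [conj_inv_conj] at this
  · intro h
    have := conj_mono (g := g) h
    rwa [conj_conj_inv] at this

theorem le_cj_iff {g : G} {H K : Subgroup G} : H ≤ cj g K ↔ cj g⁻¹ H ≤ K := by
  rw [cj_le_iff, inv_inv]

theorem isCoatom_cj {M : Subgroup G} (hM : IsCoatom M) (g : G) : IsCoatom (cj g M) := by
  constructor
  · intro h
    apply hM.1
    have := conj_inv_conj g M
    rw [← this]
    show cj g⁻¹ (cj g M) = ⊤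
    rw [h, cj_top]
  · intro V hV
    have h1 : M < cj g⁻¹ V := by
      refine lt_of_le_of_ne (le_cj_iff.2 ?_) ?_
      · rw [inv_inv]; exact hV.le
      · intro h2
        apply hV.ne
        have h3 := conj_conj_inv g V
        rw [← h3]
        show cj g M = cj g (cj g⁻¹ V)
        rw [← h2]
    have h2 := hM.2 _ h1
    have h3 := conj_conj_inv g V
    rw [← h3]
    show cj g (cj g⁻¹ V) = ⊤
    rw [h2, cj_top]

theorem isMaxIn_top {M : Subgroup G} (hM : IsCoatom M) : IsMaxIn ⊤ M :=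
  ⟨hM.lt_top, fun V hV hV2 => hV2.ne (hM.2 V hV)⟩

/-! ### Normal closures -/

theorem NC_self (A : Subgroup G) : NC A A = A :=
  le_antisymm (NC_le le_rfl) le_NC

theorem NC_mono_right {A H K : Subgroup G} (hAH : A ≤ H) (hHK : H ≤ K) : NC A H ≤ NC A K := by
  have h1 : NC A H ≤ NC A K ⊓ H := by
    refine NC_le_of (le_inf le_NC hAH) inf_le_right ?_
    refine le_trans ?_ Subgroup.inf_normalizer_le_normalizer_inf
    exact le_inf (hHK.trans le_normalizer_NC) Subgroup.le_normalizer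
  exact h1.trans inf_le_left

theorem NC_mono_left {A B T : Subgroup G} (hAB : A ≤ B) (hBT : B ≤ T) : NC A T ≤ NC B T :=
  NC_le_of (hAB.trans le_NC) (NC_le hBT) le_normalizer_NC

theorem NC_cj_le (g : G) (A H : Subgroup G) (hAH : A ≤ H) :
    NC (cj g A) (cj g H) ≤ cj g (NC A H) := by
  refine NC_le_of (conj_mono le_NC) (conj_mono (NC_le hAH)) ?_
  intro y hy
  rw [mem_conj] at hy
  have h2 := (le_normalizer_NC (S := A) (T := H)) hy
  rw [Subgroup.mem_normalizer_iff] at h2 ⊢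
  intro x
  rw [mem_conj, mem_conj, h2]
  have : g⁻¹ * y * g * (g⁻¹ * x * g) * (g⁻¹ * y * g)⁻¹ = g⁻¹ * (y * x * y⁻¹) * g := by group
  rw [this]

theorem NC_cj (g : G) (A H : Subgroup G) (hAH : A ≤ H) :
    NC (cj g A) (cj g H) = cj g (NC A H) := by
  refine le_antisymm (NC_cj_le g A H hAH) ?_
  have h1 := NC_cj_le g⁻¹ (cj g A) (cj g H) (conj_mono hAH)
  have e1 : cj g⁻¹ (cj g A) = A := conj_inv_conj g A
  have e2 : cj g⁻¹ (cj g H) = H := conj_inv_conj g H
  rw [e1, e2] at h1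
  rw [le_cj_iff] at h1
  rwa [inv_inv] at h1

theorem conj_mem_NC {A T : Subgroup G} {z : G} (hz : z ∈ T) : cj z A ≤ NC A T := by
  have h1 : cj z A ≤ cj z (NC A T) := conj_mono le_NC
  rwa [show cj z (NC A T) = NC A T from conj_eq_of_mem_normalizer (le_normalizer_NC hz)] at h1

/-! ### Connected subgroups -/

/-- Proper subgroups containing `A` and generated by their own conjugates of `A`. -/
def Cn (A : Subgroup G) : Set (Subgroup G) := {H | A ≤ H ∧ H ≠ ⊤ ∧ NC A H = H}

/-- Their join. -/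
def Yj (A : Subgroup G) : Subgroup G := sSup (Cn A)

/-- The theorem for `A`, in a coatom form. -/
def Good (A : Subgroup G) : Prop :=
  A ≠ ⊤ → NC A ⊤ = ⊤ → Yj A ≠ ⊤ → ∀ L₁ L₂ : Subgroup G, IsCoatom L₁ → IsCoatom L₂ →
    A ≤ L₁ → A ≤ L₂ → L₁ = L₂

theorem self_mem_Cn {A : Subgroup G} (h : A ≠ ⊤) : A ∈ Cn A := ⟨le_rfl, h, NC_self A⟩

theorem le_Yj {A H : Subgroup G} (h : H ∈ Cn A) : H ≤ Yj A := le_sSup h

theorem NC_Yj {A : Subgroup G} (h : A ≠ ⊤) : NC A (Yj A) = Yj A := by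
  have hAY : A ≤ Yj A := le_Yj (self_mem_Cn h)
  refine le_antisymm (NC_le hAY) ?_
  refine sSup_le fun H hH => ?_
  have := NC_mono_right hH.1 (le_Yj hH)
  rwa [hH.2.2] at this

theorem Yj_mem_Cn {A : Subgroup G} (h : A ≠ ⊤) (hY : Yj A ≠ ⊤) : Yj A ∈ Cn A :=
  ⟨le_Yj (self_mem_Cn h), hY, NC_Yj h⟩

theorem exists_sn [Finite G] {A : Subgroup G} :
    ∀ H : Subgroup G, A ≤ H → H ≠ ⊤ → ∃ S ∈ Cn A, S ≤ H ∧ SN S H := by
  intro H
  induction H using WellFoundedLT.induction with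
  | _ H ih =>
    intro hAH hH
    by_cases hn : NC A H = H
    · exact ⟨H, ⟨hAH, hH, hn⟩, le_rfl, SN.refl _⟩
    · have hlt : NC A H < H := lt_of_le_of_ne (NC_le hAH) hn
      obtain ⟨S, hS, hS1, hS2⟩ := ih _ hlt le_NC (fun h => hH (top_le_iff.1 (h ▸ hlt.le)))
      exact ⟨S, hS, hS1.trans hlt.le, hS2.trans (SN.of_le_normalizer hlt.le le_normalizer_NC)⟩

theorem Cn_subset {A S : Subgroup G} (hS : S ∈ Cn A) : Cn S ⊆ Cn A := by
  intro H hH
  refine ⟨hS.1.trans hH.1, hH.2.1, ?_⟩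
  refine le_antisymm (NC_le (hS.1.trans hH.1)) ?_
  have h1 : S ≤ NC A H := by
    have := NC_mono_right hS.1 hH.1
    rwa [hS.2.2] at this
  have h2 : NC S H ≤ NC A H := NC_le_of h1 (NC_le (hS.1.trans hH.1)) le_normalizer_NC
  rwa [hH.2.2] at h2

theorem Yj_le_of_mem {A S : Subgroup G} (hS : S ∈ Cn A) : Yj S ≤ Yj A :=
  sSup_le_sSup (Cn_subset hS)

/-- Finite joins of subnormal subgroups are subnormal. -/
theorem SN_sSup [Finite G] {U : Subgroup G} (𝒮 : Set (Subgroup G)) (hne : 𝒮.Nonempty)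
    (h : ∀ B ∈ 𝒮, SN B U) : SN (sSup 𝒮) U := by
  classical
  have hfin : 𝒮.Finite := Set.toFinite 𝒮
  have key : ∀ t : Finset (Subgroup G), t.Nonempty → (∀ B ∈ t, SN B U) → SN (t.sup id) U := by
    intro t ht
    induction ht using Finset.Nonempty.cons_induction with
    | singleton a =>
      intro h1
      simpa using h1 a (by simp)
    | cons a s ha hs ih =>
      intro h1
      rw [Finset.sup_cons]
      exact SN.sup (h1 a (by simp)) (ih fun B hB => h1 B (by simp [hB]))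
  have h2 := key hfin.toFinset (by simpa using hne) (by simpa using h)
  rwa [Finset.sup_id_eq_sSup, hfin.coe_toFinset] at h2

/-- Strong form of Lemma A. -/
theorem SN.exists_inv {S Z : Subgroup G} (h : SN S Z) :
    Z ≤ Subgroup.normalizer (S : Set G) ∨
      ∃ y ∈ Z, ∃ X : Subgroup G, S ≤ X ∧ X ≤ Subgroup.normalizer (S : Set G) ∧
        cj y X = X ∧ cj y S ≠ S := by
  induction h with
  | refl => exact Or.inl Subgroup.le_normalizer
  | @tail X Y h1 h2 ih =>
    rcases ih with ih | ⟨y, hy, X', h3, h4, h5, h6⟩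
    · by_cases hY : Y ≤ Subgroup.normalizer (S : Set G)
      · exact Or.inl hY
      · obtain ⟨y, hy, hyn⟩ := SetLike.not_le_iff_exists.1 hY
        exact Or.inr ⟨y, hy, X, SN.le h1, ih, conj_eq_of_mem_normalizer (h2.2 hy),
          fun he => hyn (mem_normalizer_of_conj_eq he)⟩
    · exact Or.inr ⟨y, h2.1 hy, X', h3, h4, h5, h6⟩

theorem not_SN_top {R : Subgroup G} (hR : R ≠ ⊤) (h : NC R ⊤ = ⊤) : ¬ SN R ⊤ := by
  intro hs
  have := NC_lt hs hR
  rw [h] at this
  exact lt_irrefl _ this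


/-- The data of a maximal counterexample. -/
structure Ctx (A M : Subgroup G) : Prop where
  ih : ∀ B : Subgroup G, Nat.card A < Nat.card B → Good B
  ne_top : A ≠ ⊤
  nc_top : NC A ⊤ = ⊤
  coatom : IsCoatom M
  leM : A ≤ M
  nA : Subgroup.normalizer (A : Set G) ≤ M
  nM : Subgroup.normalizer (M : Set G) ≤ M
  sub : ∀ L : Subgroup G, IsCoatom L → A ≤ L → L ≠ M → SN A L

section Ctx

variable [Finite G] {A M : Subgroup G}

theorem Ctx.cj_self (_h : Ctx A M) {g : G} (hg : g ∈ M) : cj g M = M :=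
  conj_eq_of_mem_normalizer (Subgroup.le_normalizer hg)

theorem Ctx.mem_of_cj_eq (h : Ctx A M) {g : G} (hg : cj g M = M) : g ∈ M :=
  h.nM (mem_normalizer_of_conj_eq hg)

theorem Ctx.nc_cj (h : Ctx A M) (g : G) : NC (cj g A) ⊤ = ⊤ := by
  have := NC_cj g A ⊤ le_top
  rwa [cj_top, h.nc_top, cj_top] at this

theorem Ctx.le_cj (h : Ctx A M) (g : G) : cj g A ≤ cj g M := conj_mono h.leM

theorem Ctx.sub_cj (h : Ctx A M) (g : G) {L : Subgroup G} (hL : IsCoatom L) (hAL : cj g A ≤ L)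
    (hne : L ≠ cj g M) : SN (cj g A) L := by
  have h1 : cj g⁻¹ L ≠ M := by
    intro h2
    apply hne
    have h3 := conj_conj_inv g L
    rw [← h3]
    show cj g (cj g⁻¹ L) = cj g M
    rw [h2]
  have h2 := (h.sub _ (isCoatom_cj hL g⁻¹) (cj_le_iff.1 hAL) h1).conj g
  rwa [conj_conj_inv] at h2

theorem Ctx.base_eq (h : Ctx A M) {g k : G} (he : cj g A = cj k A) : cj g M = cj k M := by
  have h1 : cj (k⁻¹ * g) A = A := by
    rw [cj_mul, he]
    exact conj_inv_conj k A
  have h2 : k⁻¹ * g ∈ M := h.nA (mem_normalizer_of_conj_eq h1)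
  have h3 : cj (k⁻¹ * g) M = M := h.cj_self h2
  rw [cj_mul] at h3
  rw [le_antisymm_iff]
  have h4 : cj k (cj k⁻¹ (cj g M)) = cj g M := conj_conj_inv k _
  rw [← h4, h3]
  exact ⟨le_rfl, le_rfl⟩

/-- Two different conjugates `A_g, A_k` such that the two bases agree, or `A_g` does not fix the
base of `A_k`, have a join lying in at most one coatom. -/
theorem Ctx.pair_good (h : Ctx A M) (g k : G) (hne : cj g A ≠ cj k A)
    (hc : cj g M = cj k M ∨ ¬ cj g A ≤ cj k M) {L₁ L₂ : Subgroup G} (hL₁ : IsCoatom L₁)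
    (hL₂ : IsCoatom L₂) (h1 : cj g A ≤ L₁) (h2 : cj k A ≤ L₁) (h3 : cj g A ≤ L₂)
    (h4 : cj k A ≤ L₂) : L₁ = L₂ := by
  set X : Subgroup G := cj g A ⊔ cj k A with hX
  have hXL : X ≤ L₁ := sup_le h1 h2
  have hXtop : X ≠ ⊤ := fun he => hL₁.1 (top_le_iff.1 (he ▸ hXL))
  have hcard : Nat.card A < Nat.card X := by
    have h5 : cj g A < X := by
      refine lt_of_le_of_ne le_sup_left ?_
      intro h6
      have h7 : cj k A ≤ cj g A := by rw [h6]; exact le_sup_right
      apply hne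
      refine (Subgroup.eq_of_le_of_card_ge h7 ?_).symm
      rw [card_conj, card_conj]
    have h6 : Nat.card (cj g A) < Nat.card X := by
      refine lt_of_le_of_ne (Subgroup.card_le_of_le h5.le) ?_
      intro h7
      exact h5.ne (Subgroup.eq_of_le_of_card_ge h5.le h7.ge)
    rwa [card_conj] at h6
  have hnc : NC X ⊤ = ⊤ := by
    have := NC_mono_left (A := cj g A) (B := X) (T := ⊤) le_sup_left le_top
    rw [h.nc_cj g] at this
    exact top_le_iff.1 this
  -- subnormal generators force `H = X`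
  have key : ∀ H ∈ Cn X, SN (cj g A) H → SN (cj k A) H → H = X := by
    intro H hH h5 h6
    have h7 : SN X H := SN.sup h5 h6
    by_contra h8
    have h9 := NC_lt h7 (fun he => h8 he.symm)
    rw [hH.2.2] at h9
    exact lt_irrefl _ h9
  have hY : Yj X ≠ ⊤ := by
    have hexists : ∃ Z : Subgroup G, Z ≠ ⊤ ∧ Yj X ≤ Z := by
      rcases hc with hb | hn
      · refine ⟨cj g M, (isCoatom_cj h.coatom g).1, sSup_le fun H hH => ?_⟩
        by_contra hnot
        obtain ⟨L₃, hL₃, hHL₃⟩ := (eq_top_or_exists_le_coatom H).resolve_left hH.2.1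
        have hne3 : L₃ ≠ cj g M := fun he => hnot (he ▸ hHL₃)
        have hgH : cj g A ≤ H := le_sup_left.trans hH.1
        have hkH : cj k A ≤ H := le_sup_right.trans hH.1
        have h5 := (h.sub_cj g hL₃ (hgH.trans hHL₃) hne3).restrict hgH hHL₃
        have h6 := (h.sub_cj k hL₃ (hkH.trans hHL₃) (by rw [← hb]; exact hne3)).restrict hkH hHL₃
        have h7 := key H hH h5 h6
        apply hnot
        rw [h7]
        exact sup_le (h.le_cj g) (by rw [hb]; exact h.le_cj k)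
      · have hdich : ∀ H ∈ Cn X, H = X ∨ H ≤ cj g M := by
          intro H hH
          obtain ⟨L₃, hL₃, hHL₃⟩ := (eq_top_or_exists_le_coatom H).resolve_left hH.2.1
          have hgH : cj g A ≤ H := le_sup_left.trans hH.1
          have hkH : cj k A ≤ H := le_sup_right.trans hH.1
          have hne3 : L₃ ≠ cj k M := fun he => hn (he ▸ hgH.trans hHL₃)
          have h6 := (h.sub_cj k hL₃ (hkH.trans hHL₃) hne3).restrict hkH hHL₃
          by_cases hb : L₃ = cj g M
          · exact Or.inr (hb ▸ hHL₃)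
          · exact Or.inl (key H hH ((h.sub_cj g hL₃ (hgH.trans hHL₃) hb).restrict hgH hHL₃) h6)
        by_cases hXg : X ≤ cj g M
        · refine ⟨cj g M, (isCoatom_cj h.coatom g).1, sSup_le fun H hH => ?_⟩
          rcases hdich H hH with h5 | h5
          · rw [h5]; exact hXg
          · exact h5
        · refine ⟨X, hXtop, sSup_le fun H hH => ?_⟩
          rcases hdich H hH with h5 | h5
          · exact h5.le
          · exact absurd (hH.1.trans h5) hXg
    obtain ⟨Z, hZ, hYZ⟩ := hexists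
    exact fun he => hZ (top_le_iff.1 (he ▸ hYZ))
  exact h.ih X hcard hXtop hnc hY L₁ L₂ hL₁ hL₂ hXL (sup_le h3 h4)

/-- Two conjugates in two common coatoms fix each other's bases. -/
theorem Ctx.nbr (h : Ctx A M) (g k : G) {L₁ L₂ : Subgroup G} (hL₁ : IsCoatom L₁)
    (hL₂ : IsCoatom L₂) (hne : L₁ ≠ L₂) (h1 : cj g A ≤ L₁) (h2 : cj k A ≤ L₁) (h3 : cj g A ≤ L₂)
    (h4 : cj k A ≤ L₂) : cj g A ≤ cj k M := by
  by_cases he : cj g A = cj k A
  · rw [he]; exact h.le_cj k
  · by_contra hn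
    exact hne (h.pair_good g k he (Or.inr hn) hL₁ hL₂ h1 h2 h3 h4)

/-- Two conjugates with the same base lying in two common coatoms are equal. -/
theorem Ctx.uniq (h : Ctx A M) (g k : G) {L₁ L₂ : Subgroup G} (hL₁ : IsCoatom L₁)
    (hL₂ : IsCoatom L₂) (hne : L₁ ≠ L₂) (hb : cj g M = cj k M) (h1 : cj g A ≤ L₁)
    (h2 : cj k A ≤ L₁) (h3 : cj g A ≤ L₂) (h4 : cj k A ≤ L₂) : cj g A = cj k A := by
  by_contra he
  exact hne (h.pair_good g k he (Or.inl hb) hL₁ hL₂ h1 h2 h3 h4)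

/-- All conjugates of `A` inside two given subgroups. -/
def clique (A P Q : Subgroup G) : Set (Subgroup G) := {B | (∃ g : G, B = cj g A) ∧ B ≤ P ∧ B ≤ Q}

theorem mem_normalizer_of_preserves {𝒞 : Set (Subgroup G)} {x : G}
    (hx : ∀ B ∈ 𝒞, cj x B ∈ 𝒞) : x ∈ Subgroup.normalizer ((sSup 𝒞 : Subgroup G) : Set G) := by
  apply mem_normalizer_of_conj_eq
  refine Subgroup.eq_of_le_of_card_ge ?_ (by rw [card_conj])
  show cj x (sSup 𝒞) ≤ sSup 𝒞
  rw [cj_le_iff]
  refine sSup_le fun B hB => ?_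
  have h1 : cj x B ≤ sSup 𝒞 := le_sSup (hx B hB)
  exact cj_le_iff.1 h1

/-- The case of a subgroup `R = NC A₁ T'`. -/
theorem Ctx.caseR (h : Ctx A M) {s : G} {Q : Subgroup G} (hMM1 : M ≠ cj s M)
    (hNQ : Subgroup.normalizer (Q : Set G) ≠ ⊤) (hsQ : s ∈ Subgroup.normalizer (Q : Set G))
    (hrQ : ∀ r ∈ M, cj r (cj s A) ≤ cj s M → r ∈ Subgroup.normalizer (Q : Set G))
    {A₁ : Subgroup G} (hA₁ : A₁ = cj s A) {T' : Subgroup G} (hAT : A₁ ≤ T') (hTM : T' ≤ M)
    (hR1 : ¬ NC A₁ T' ≤ cj s M) (hR2 : NC A₁ (NC A₁ T') ≤ cj s M) : False := by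
  have hM := h.coatom
  obtain ⟨R, hR⟩ : ∃ R, R = NC A₁ T' := ⟨_, rfl⟩
  rw [← hR] at hR1 hR2
  have hRM : R ≤ M := hR ▸ ((NC_le hAT).trans hTM)
  have hRtop : R ≠ ⊤ := fun he => hM.1 (top_le_iff.1 (he ▸ hRM))
  have hA1R : A₁ ≤ R := hR ▸ le_NC
  have hncR : NC R ⊤ = ⊤ := by
    have := NC_mono_left (A := A₁) (B := R) (T := ⊤) hA1R le_top
    rw [hA₁, h.nc_cj s] at this
    exact top_le_iff.1 this
  -- the join of the conjugates
  have hRjoin : R = sSup {B | ∃ z ∈ T', B = cj z A₁} := by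
    rw [hR]
    refine le_antisymm ?_ (sSup_le ?_)
    · refine NC_le_of ?_ (sSup_le ?_) ?_
      · exact le_sSup ⟨1, T'.one_mem, (cj_one A₁).symm⟩
      · rintro B ⟨z, hz, rfl⟩
        exact conj_le_of_mem hz hAT
      · intro t ht
        refine mem_normalizer_of_preserves ?_
        rintro B ⟨z, hz, rfl⟩
        exact ⟨t * z, T'.mul_mem ht hz, (cj_mul _ _ _).symm⟩
    · rintro B ⟨z, hz, rfl⟩
      exact conj_mem_NC hz
  have hsubn : ∀ U : Subgroup G, R ≤ U → U < ⊤ → SN R U := by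
    intro U hRU hU
    obtain ⟨L', hL', hUL'⟩ := (eq_top_or_exists_le_coatom U).resolve_left hU.ne
    rw [hRjoin]
    refine SN_sSup _ ⟨_, 1, T'.one_mem, rfl⟩ ?_
    rintro B ⟨z, hz, rfl⟩
    have hzR : cj z A₁ ≤ R := hR ▸ conj_mem_NC hz
    have hne : L' ≠ cj (z * s) M := by
      intro he
      apply hR1
      have h3 : R ≤ cj z (cj s M) := by
        rw [← cj_mul, ← he]
        exact hRU.trans hUL'
      rw [le_cj_iff] at h3
      have h4 : cj z⁻¹ R = R :=
        conj_eq_of_mem_normalizer (hR ▸ le_normalizer_NC (T'.inv_mem hz))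
      rwa [h4] at h3
    have h5 := h.sub_cj (z * s) hL' (by rw [cj_mul, ← hA₁]; exact hzR.trans (hRU.trans hUL')) hne
    rw [cj_mul, ← hA₁] at h5
    exact h5.restrict (hzR.trans hRU) hUL'
  have hzip := zipper (T := ⊤) (S := R) le_top (not_SN_top hRtop hncR) hsubn
  -- `R` normalizes `Q`
  have hRQ : R ≤ Subgroup.normalizer (Q : Set G) := by
    intro r hr
    refine hrQ r (hRM hr) ?_
    have h3 : cj r A₁ ≤ NC A₁ R := conj_mem_NC hr
    rw [← hA₁]
    exact h3.trans hR2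
  obtain ⟨L', hL', hNL'⟩ := (eq_top_or_exists_le_coatom _).resolve_left hNQ
  have h5 : L' = M := hzip L' M (isMaxIn_top hL') (isMaxIn_top hM) (hRQ.trans hNL') hRM
  exact hMM1 (h.cj_self (h5 ▸ hNL' hsQ)).symm

/-- Descent to `caseR`. -/
theorem Ctx.caseC (h : Ctx A M) {s : G} {Q : Subgroup G} (hMM1 : M ≠ cj s M)
    (hNQ : Subgroup.normalizer (Q : Set G) ≠ ⊤) (hsQ : s ∈ Subgroup.normalizer (Q : Set G))
    (hrQ : ∀ r ∈ M, cj r (cj s A) ≤ cj s M → r ∈ Subgroup.normalizer (Q : Set G))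
    {A₁ : Subgroup G} (hA₁ : A₁ = cj s A) (hA1M1 : A₁ ≤ cj s M) (T' : Subgroup G) :
    SN A₁ T' → T' ≤ M → ¬ NC A₁ T' ≤ cj s M → False := by
  induction T' using WellFoundedLT.induction with
  | _ T' ih =>
    intro hs hTM hn
    by_cases h2 : NC A₁ (NC A₁ T') ≤ cj s M
    · exact h.caseR hMM1 hNQ hsQ hrQ hA₁ hs.le hTM hn h2
    · have hne : A₁ ≠ T' := by
        intro he
        apply hn
        rw [← he, NC_self]
        exact hA1M1
      have hlt := NC_lt hs hne
      exact ih _ hlt (hs.restrict le_NC hlt.le) (hlt.le.trans hTM) h2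

/-- The bottom case. -/
theorem Ctx.caseB (h : Ctx A M) {s : G} (hMM1 : M ≠ cj s M) (hAM1 : A ≤ cj s M)
    {A₁ : Subgroup G} (hA₁ : A₁ = cj s A) (hA1M : A₁ ≤ M) {Y : Subgroup G} (hYM : Y ≤ M)
    (hAY : A ≤ Y) (hNC : NC A Y = Y) (h2 : NC A₁ (Y ⊔ A₁) ≤ cj s M) : Y ≤ A := by
  have hM := h.coatom
  have hcoM1 := isCoatom_cj hM s
  have hone : cj (1 : G) A = A := cj_one A
  have honeM : cj (1 : G) M = M := cj_one M
  have h3 : Y ≤ Subgroup.normalizer (A : Set G) := by
    intro y hy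
    have hyM : y ∈ M := hYM hy
    have hyE : y ∈ Y ⊔ A₁ := (le_sup_left : Y ≤ Y ⊔ A₁) hy
    have h4 : cj y A₁ ≤ NC A₁ (Y ⊔ A₁) := conj_mem_NC hyE
    have h5 : cj y A₁ ≤ M := conj_le_of_mem hyM hA1M
    have h6 : A ≤ cj (y * s) M := by
      have := h.nbr 1 (y * s) hM hcoM1 hMM1 (by rw [hone]; exact h.leM)
        (by rw [cj_mul, ← hA₁]; exact h5) (by rw [hone]; exact hAM1)
        (by rw [cj_mul, ← hA₁]; exact h4.trans h2)
      rwa [hone] at this
    rw [cj_mul, le_cj_iff] at h6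
    have h7 : cj y⁻¹ A ≤ M := conj_le_of_mem (M.inv_mem hyM) h.leM
    have h8 := h.uniq y⁻¹ 1 hM hcoM1 hMM1 (by rw [honeM]; exact h.cj_self (M.inv_mem hyM))
      h7 (by rw [hone]; exact h.leM) h6 (by rw [hone]; exact hAM1)
    rw [hone] at h8
    have h9 : y⁻¹ ∈ Subgroup.normalizer (A : Set G) := mem_normalizer_of_conj_eq h8
    exact (Subgroup.inv_mem_iff _).1 h9
  have h4 : NC A Y ≤ A := NC_le_of le_rfl hAY h3
  rwa [hNC] at h4

/-- The central contradiction. -/
theorem Ctx.false_of_two (h : Ctx A M) {Y : Subgroup G} (hYM : Y ≤ M) (hAY : A ≤ Y) (hYA : ¬ Y ≤ A)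
    (hNC : NC A Y = Y)
    {L : Subgroup G} (hL : IsCoatom L) (hAL : A ≤ L) (hLM : L ≠ M) : False := by
  have hM := h.coatom
  rcases SN.exists_inv (h.sub L hL hAL hLM) with h1 | ⟨s, hsL, X, hAX, hXN, hXs, hsA⟩
  · have hLM2 : L ≤ M := h1.trans h.nA
    rcases lt_or_eq_of_le hLM2 with h2 | h2
    · exact hM.1 (hL.2 M h2)
    · exact hLM h2
  -- the conjugate `A₁ = A_s`
  have hXM : X ≤ M := hXN.trans h.nA
  have hXs' : cj s X = X := hXs
  have hA1X : cj s A ≤ X := (conj_mono (g := s) hAX).trans hXs'.le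
  have hXM1 : X ≤ cj s M := hXs'.ge.trans (conj_mono (g := s) hXM)
  have hA1L : cj s A ≤ L := conj_le_of_mem hsL hAL
  have hone : cj (1 : G) A = A := cj_one A
  have honeM : cj (1 : G) M = M := cj_one M
  have hMM1 : M ≠ cj s M := by
    intro he
    apply hsA
    have := h.uniq s 1 hM hL hLM.symm (by rw [honeM]; exact he.symm) (hA1X.trans hXM)
      (by rw [hone]; exact h.leM) hA1L (by rw [hone]; exact hAL)
    rwa [hone] at this
  have hcoM1 := isCoatom_cj hM s
  have hAM1 : A ≤ cj s M := hAX.trans hXM1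
  -- the clique and its normalizer
  obtain ⟨Q, hQ⟩ : ∃ Q, Q = sSup (clique A M (cj s M)) := ⟨_, rfl⟩
  have hAQ : A ≤ Q := hQ ▸ le_sSup ⟨⟨1, hone.symm⟩, h.leM, hAM1⟩
  have hQM : Q ≤ M := hQ ▸ sSup_le fun B hB => hB.2.1
  have hNQ : Subgroup.normalizer (Q : Set G) ≠ ⊤ := by
    intro he
    have h2 : NC A ⊤ ≤ Q := NC_le_of hAQ le_top (by rw [he])
    rw [h.nc_top] at h2
    exact hM.1 (top_le_iff.1 (h2.trans hQM))
  -- `s` normalizes `Q`
  have hsQ : s ∈ Subgroup.normalizer (Q : Set G) := by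
    apply (Subgroup.inv_mem_iff _).1
    rw [hQ]
    apply mem_normalizer_of_preserves
    rintro B ⟨⟨g, rfl⟩, hB1, hB2⟩
    have hA2 : cj (s * s) A ≤ X := by
      rw [cj_mul]
      exact (conj_mono (g := s) hA1X).trans hXs'.le
    have h3 := h.nbr g (s * s) hM hcoM1 hMM1 hB1 (hA2.trans hXM) hB2 (hA2.trans hXM1)
    rw [cj_mul] at h3
    refine ⟨⟨s⁻¹ * g, (cj_mul _ _ _).symm⟩, ?_, ?_⟩
    · exact cj_le_iff.2 (by rw [inv_inv]; exact hB2)
    · exact cj_le_iff.2 (by rw [inv_inv]; exact h3)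
  -- `r ∈ M` sending `A₁` into `M₁` normalizes `Q`
  have hrQ : ∀ r ∈ M, cj r (cj s A) ≤ cj s M → r ∈ Subgroup.normalizer (Q : Set G) := by
    intro r hrM hr
    apply (Subgroup.inv_mem_iff _).1
    rw [hQ]
    apply mem_normalizer_of_preserves
    rintro B ⟨⟨g, rfl⟩, hB1, hB2⟩
    have hr2 : cj r (cj s A) ≤ M := conj_le_of_mem hrM (hA1X.trans hXM)
    have h3 := h.nbr g (r * s) hM hcoM1 hMM1 hB1 (by rw [cj_mul]; exact hr2) hB2
      (by rw [cj_mul]; exact hr)
    rw [cj_mul] at h3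
    refine ⟨⟨r⁻¹ * g, (cj_mul _ _ _).symm⟩, ?_, ?_⟩
    · exact conj_le_of_mem (M.inv_mem hrM) hB1
    · exact cj_le_iff.2 (by rw [inv_inv]; exact h3)
  have hA1M : cj s A ≤ M := hA1X.trans hXM
  have hSN : SN (cj s A) M := h.sub_cj s hM hA1M hMM1
  have hEM : Y ⊔ cj s A ≤ M := sup_le hYM hA1M
  have hSNE : SN (cj s A) (Y ⊔ cj s A) := hSN.restrict le_sup_right hEM
  by_cases h2 : NC (cj s A) (Y ⊔ cj s A) ≤ cj s M
  · exact hYA (h.caseB hMM1 hAM1 rfl hA1M hYM hAY hNC h2)
  · exact h.caseC hMM1 hNQ hsQ hrQ rfl (h.le_cj s) _ hSNE hEM h2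

end Ctx

/-- One step of the induction. -/
theorem good_step [Finite G] (A : Subgroup G)
    (hih : ∀ B : Subgroup G, Nat.card A < Nat.card B → Good B) : Good A := by
  intro hA hnc hY L₁ L₂ hL₁ hL₂ h1 h2
  by_cases hYA : Yj A ≤ A
  · have hsub : ∀ U : Subgroup G, A ≤ U → U < ⊤ → SN A U := by
      intro U hAU hU
      obtain ⟨S, hS, hSU, hSN⟩ := exists_sn U hAU hU.ne
      have : S = A := le_antisymm ((le_Yj hS).trans hYA) hS.1
      exact this ▸ hSN
    have := zipper (T := ⊤) (S := A) le_top (not_SN_top hA hnc) hsub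
    exact this L₁ L₂ (isMaxIn_top hL₁) (isMaxIn_top hL₂) h1 h2
  -- the nontrivial case
  obtain ⟨Y, hYdef⟩ : ∃ Y, Y = Yj A := ⟨_, rfl⟩
  rw [← hYdef] at hYA hY
  have hYC : Y ∈ Cn A := hYdef ▸ Yj_mem_Cn hA (hYdef ▸ hY)
  have hAY : A ≤ Y := hYC.1
  have hlt_card : ∀ S : Subgroup G, A ≤ S → S ≠ A → Nat.card A < Nat.card S := by
    intro S h3 h4
    refine lt_of_le_of_ne (Subgroup.card_le_of_le h3) ?_
    intro h5
    exact h4 (Subgroup.eq_of_le_of_card_ge h3 h5.ge).symm
  -- anything in `Cn A` other than `A` has a unique coatom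
  have huniq : ∀ S ∈ Cn A, S ≠ A → ∀ L₃ L₄ : Subgroup G, IsCoatom L₃ → IsCoatom L₄ → S ≤ L₃ →
      S ≤ L₄ → L₃ = L₄ := by
    intro S hS hne L₃ L₄ h3 h4 h5 h6
    refine hih S (hlt_card S hS.1 hne) hS.2.1 ?_ ?_ L₃ L₄ h3 h4 h5 h6
    · have h7 := NC_mono_left (A := A) (B := S) (T := ⊤) hS.1 le_top
      rw [hnc] at h7
      exact top_le_iff.1 h7
    · intro he
      apply hY
      have := Yj_le_of_mem hS
      rw [he, ← hYdef] at this
      exact top_le_iff.1 this
  have hYne : Y ≠ A := fun he => hYA (he ▸ le_rfl)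
  obtain ⟨M, hM, hYM⟩ := (eq_top_or_exists_le_coatom Y).resolve_left hY
  have hYu : ∀ L : Subgroup G, IsCoatom L → Y ≤ L → L = M :=
    fun L hL hYL => huniq Y hYC hYne L M hL hM hYL hYM
  -- normalizers
  have hNY : Subgroup.normalizer (A : Set G) ≤ Subgroup.normalizer (Y : Set G) := by
    intro g hg
    apply mem_normalizer_of_conj_eq
    have hcjA : cj g A = A := conj_eq_of_mem_normalizer hg
    have h3 : cj g Y ∈ Cn A := by
      refine ⟨?_, ?_, ?_⟩
      · have := conj_mono (g := g) hAY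
        exact hcjA.ge.trans this
      · intro he
        apply hY
        have h4 := conj_inv_conj g Y
        rw [← h4]
        show cj g⁻¹ (cj g Y) = ⊤
        rw [he, cj_top]
      · have := NC_cj g A Y hAY
        rw [hcjA] at this
        rw [this, hYC.2.2]
    have h4 : cj g Y ≤ Y := by
      have h5 := le_Yj h3
      rwa [← hYdef] at h5
    exact Subgroup.eq_of_le_of_card_ge h4 (by rw [card_conj])
  have hNYtop : Subgroup.normalizer (Y : Set G) ≠ ⊤ := by
    intro he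
    have h3 : NC A ⊤ ≤ Y := NC_le_of hAY le_top (by rw [he])
    rw [hnc] at h3
    exact hY (top_le_iff.1 h3)
  have hNYM : Subgroup.normalizer (Y : Set G) ≤ M := by
    obtain ⟨L', hL', h3⟩ := (eq_top_or_exists_le_coatom _).resolve_left hNYtop
    rw [← hYu L' hL' (Subgroup.le_normalizer.trans h3)]
    exact h3
  have hNMtop : Subgroup.normalizer (M : Set G) ≠ ⊤ := by
    intro he
    have h3 : NC A ⊤ ≤ M := NC_le_of (hAY.trans hYM) le_top (by rw [he])
    rw [hnc] at h3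
    exact hM.1 (top_le_iff.1 h3)
  have hNM : Subgroup.normalizer (M : Set G) ≤ M := by
    have h3 : M ≤ Subgroup.normalizer (M : Set G) := Subgroup.le_normalizer
    rcases lt_or_eq_of_le h3 with h4 | h4
    · exact absurd (hM.2 _ h4) hNMtop
    · exact h4.ge
  have hctx : Ctx A M := by
    refine ⟨hih, hA, hnc, hM, hAY.trans hYM, hNY.trans hNYM, hNM, ?_⟩
    intro L hL hAL hLM
    obtain ⟨S, hS, hSL, hSN⟩ := exists_sn L hAL hL.1
    by_cases hSA : S = A
    · exact hSA ▸ hSN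
    · exact absurd (huniq S hS hSA L M hL hM hSL (by
        have h5 := le_Yj hS
        rw [← hYdef] at h5
        exact h5.trans hYM)) hLM
  have hNCY : NC A Y = Y := hYC.2.2
  have hfin : ∀ L : Subgroup G, IsCoatom L → A ≤ L → L = M := by
    intro L hL hAL
    by_contra hLM
    exact hctx.false_of_two hYM hAY hYA hNCY hL hAL hLM
  rw [hfin L₁ hL₁ h1, hfin L₂ hL₂ h2]

/-- The theorem, in coatom form. -/
theorem good_all [Finite G] (A : Subgroup G) : Good A := by
  have key : ∀ n : ℕ, ∀ A : Subgroup G, Nat.card G - Nat.card A = n → Good A := by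
    intro n
    induction n using Nat.strong_induction_on with
    | _ n ih =>
      intro A hn
      refine good_step A fun B hB => ih (Nat.card G - Nat.card B) ?_ B rfl
      have h1 := Subgroup.card_le_card_group B
      omega
  exact key _ A rfl

/-- Translating the normal closure in a subgroup. -/
theorem normalClosure_subgroupOf_eq_top_iff {A H : Subgroup G} (hAH : A ≤ H) :
    Subgroup.normalClosure ((A.subgroupOf H : Subgroup ↥H) : Set ↥H) = ⊤ ↔ NC A H = H := by
  constructor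
  · intro h
    refine le_antisymm (NC_le hAH) ?_
    intro x hx
    -- the subgroup `NC A H` viewed in `H`
    have hnorm : ((NC A H).subgroupOf H).Normal := by
      constructor
      intro n hn g
      rw [Subgroup.mem_subgroupOf] at hn ⊢
      have h2 : (g : G) ∈ Subgroup.normalizer ((NC A H : Subgroup G) : Set G) :=
        le_normalizer_NC g.2
      rw [Subgroup.mem_normalizer_iff] at h2
      simpa using (h2 _).1 hn
    have hle : Subgroup.normalClosure ((A.subgroupOf H : Subgroup ↥H) : Set ↥H) ≤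
        (NC A H).subgroupOf H := by
      refine Subgroup.normalClosure_le_normal ?_
      intro a ha
      have ha' : (a : G) ∈ A := by simpa [Subgroup.mem_subgroupOf] using ha
      exact Subgroup.mem_subgroupOf.2 (le_NC ha')
    rw [h] at hle
    have h3 : (⟨x, hx⟩ : H) ∈ (NC A H).subgroupOf H := hle (Subgroup.mem_top _)
    exact Subgroup.mem_subgroupOf.1 h3
  · intro h
    obtain ⟨W, hW⟩ : ∃ W, W = Subgroup.normalClosure ((A.subgroupOf H : Subgroup ↥H) : Set ↥H) :=
      ⟨_, rfl⟩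
    rw [← hW]
    have h1 : NC A H ≤ W.map H.subtype := by
      refine NC_le_of ?_ ?_ ?_
      · intro a ha
        refine ⟨⟨a, hAH ha⟩, ?_, rfl⟩
        rw [hW]
        exact Subgroup.subset_normalClosure (Subgroup.mem_subgroupOf.2 ha)
      · rintro _ ⟨w, -, rfl⟩
        exact w.2
      · intro g hg
        rw [Subgroup.mem_normalizer_iff]
        intro x
        have hW' : W.Normal := hW ▸ Subgroup.normalClosure_normal
        constructor
        · rintro ⟨w, hw, rfl⟩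
          exact ⟨⟨g, hg⟩ * w * ⟨g, hg⟩⁻¹, hW'.conj_mem _ hw _, by simp⟩
        · rintro ⟨w, hw, hwx⟩
          refine ⟨⟨g, hg⟩⁻¹ * w * ⟨g, hg⟩⁻¹⁻¹, hW'.conj_mem _ hw _, ?_⟩
          have hx : x = g⁻¹ * (w : G) * g := by
            have : (w : G) = g * x * g⁻¹ := hwx
            rw [this]; group
          simp [hx]
    rw [h] at h1
    rw [eq_top_iff]
    rintro ⟨x, hx⟩ -
    obtain ⟨w, hw, hwx⟩ := h1 hx
    have : w = ⟨x, hx⟩ := Subtype.ext hwx
    exact this ▸ hw

theorem NC_top_eq_normalClosure (A : Subgroup G) :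
    NC A ⊤ = Subgroup.normalClosure (A : Set G) := by
  apply le_antisymm
  · refine NC_le_of Subgroup.subset_normalClosure le_top ?_
    have hn : (Subgroup.normalClosure (A : Set G)).Normal := Subgroup.normalClosure_normal
    rw [Subgroup.normalizer_eq_top_iff.2 hn]
  · have hn : (NC A ⊤).Normal := by
      rw [← Subgroup.normalizer_eq_top_iff]
      exact top_le_iff.1 le_normalizer_NC
    exact Subgroup.normalClosure_le_normal (le_NC (S := A) (T := ⊤))

/-- The theorem: either the join of the subgroups generated by their own conjugates of `A` is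
everything, or `A` lies in exactly one maximal subgroup. -/
theorem sSup_eq_top_or_existsUnique [Finite G] (A : Subgroup G)
    (hA : Subgroup.normalClosure (A : Set G) = ⊤) (hAG : A ≠ ⊤) :
    sSup {H : Subgroup G | A ≤ H ∧ H ≠ ⊤ ∧
      Subgroup.normalClosure ((A.subgroupOf H : Subgroup ↥H) : Set ↥H) = ⊤} = ⊤ ∨
      ∃! M : Subgroup G, IsCoatom M ∧ A ≤ M := by
  have hset : {H : Subgroup G | A ≤ H ∧ H ≠ ⊤ ∧
      Subgroup.normalClosure ((A.subgroupOf H : Subgroup ↥H) : Set ↥H) = ⊤} = Cn A := by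
    ext H
    constructor
    · rintro ⟨h1, h2, h3⟩
      exact ⟨h1, h2, (normalClosure_subgroupOf_eq_top_iff h1).1 h3⟩
    · rintro ⟨h1, h2, h3⟩
      exact ⟨h1, h2, (normalClosure_subgroupOf_eq_top_iff h1).2 h3⟩
  rw [hset]
  by_cases hY : Yj A = ⊤
  · exact Or.inl hY
  · right
    obtain ⟨M, hM, hAM⟩ := (eq_top_or_exists_le_coatom A).resolve_left hAG
    refine ⟨M, ⟨hM, hAM⟩, ?_⟩
    rintro L ⟨hL, hAL⟩
    exact good_all A hAG (by rw [NC_top_eq_normalClosure, hA]) hY L M hL hM hAL hAM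

end Cfsg.Agent.Lib.Transfer.Flavell
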