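import Cfsg.Agent.Lib.Transfer.Split

/-!
# Normal complements of Hall subgroups

* `exists_normal_complement_of_forall_prime`: a Hall subgroup `H` has a normal complement if `G`
  has a normal `p`-complement for every prime `p ∣ |H|`.
* `S0087`: A Hall subgroup central in its normalizer has a normal complement.
-/

set_option autoImplicit false

namespace Cfsg.Agent.Lib.Transfer.Hall

open Cfsg Cfsg.Agent.Lib.Transfer.Basic Cfsg.Agent.Lib.Transfer.Frobenius
  Cfsg.Agent.Lib.Transfer.Split
open Cfsg.Agent.Lib.Coprime.SchurZassenhaus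
open scoped Pointwise commutatorElement IsMulCommutative

universe u

/-- A Hall subgroup has a normal complement if `G` has a normal `p`-complement for each prime
`p ∣ |H|`. -/
theorem exists_normal_complement_of_forall_prime {G : Type u} [Group G] [Finite G] (H : Subgroup G)
    (hHall : Nat.Coprime (Nat.card H) H.index)
    (hstep : ∀ p : ℕ, p.Prime → p ∣ Nat.card H → HasNormalPComplement p G) :
    ∃ N : Subgroup G, N.Normal ∧ N.IsComplement' H := by
  classical
  let N : Subgroup G := ⨅ p ∈ (Nat.card H).primeFactors, pResidual p G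
  have hmem : ∀ x, x ∈ N ↔ Nat.Coprime (orderOf x) (Nat.card H) := by
    intro x
    simp only [N, Subgroup.mem_iInf]
    constructor
    · intro h
      apply Nat.Coprime.symm
      apply Nat.coprime_of_dvd
      intro q hq hq1 hq2
      have hq' : q ∈ (Nat.card H).primeFactors :=
        Nat.mem_primeFactors.2 ⟨hq, hq1, Nat.card_pos.ne'⟩
      have hf : Fact q.Prime := ⟨hq⟩
      have h3 := h q hq'
      rw [mem_pResidual_iff_of_hasNormalPComplement (hstep q hq hq1)] at h3
      have h4 : q ∣ Nat.gcd (orderOf x) q := Nat.dvd_gcd hq2 dvd_rfl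
      rw [h3] at h4
      exact hq.one_lt.ne' (Nat.dvd_one.1 h4)
    · intro h p hp
      have hp' := Nat.mem_primeFactors.1 hp
      have hf : Fact p.Prime := ⟨hp'.1⟩
      rw [mem_pResidual_iff_of_hasNormalPComplement (hstep p hp'.1 hp'.2.1)]
      exact Nat.Coprime.coprime_dvd_right hp'.2.1 h
  have hNn : N.Normal := by
    constructor
    intro x hx g
    rw [hmem] at hx ⊢
    have : orderOf (g * x * g⁻¹) = orderOf x := by
      simpa using (MulAut.conj g).orderOf_eq x
    rwa [this]
  have hcop1 : Nat.Coprime (Nat.card N) (Nat.card H) := by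
    by_contra hcon
    obtain ⟨q, hq, hqN, hqH⟩ := Nat.Prime.not_coprime_iff_dvd.1 hcon
    have hf : Fact q.Prime := ⟨hq⟩
    obtain ⟨x, hx⟩ := exists_prime_orderOf_dvd_card' q hqN
    have h1 := (hmem x).1 x.2
    rw [Subgroup.orderOf_coe, hx] at h1
    have h4 : q ∣ Nat.gcd q (Nat.card H) := Nat.dvd_gcd dvd_rfl hqH
    rw [h1] at h4
    exact hq.one_lt.ne' (Nat.dvd_one.1 h4)
  have hcardG : Nat.card H * H.index = Nat.card G := Subgroup.card_mul_index H
  have hpow : ∀ x : G, x ^ Nat.card H ∈ N := by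
    intro x
    rw [hmem]
    have h1 : orderOf (x ^ Nat.card H) ∣ H.index := by
      apply orderOf_dvd_of_pow_eq_one
      rw [← pow_mul, hcardG]
      exact pow_card_eq_one'
    exact Nat.Coprime.coprime_dvd_left h1 hHall.symm
  have hcop2 : Nat.Coprime H.index N.index := by
    by_contra hcon
    obtain ⟨q, hq, hqk, hqN⟩ := Nat.Prime.not_coprime_iff_dvd.1 hcon
    have hf : Fact q.Prime := ⟨hq⟩
    rw [Subgroup.index_eq_card] at hqN
    obtain ⟨x, hx⟩ := exists_prime_orderOf_dvd_card' q hqN
    obtain ⟨g, rfl⟩ := QuotientGroup.mk'_surjective N x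
    have h1 : (QuotientGroup.mk' N g) ^ Nat.card H = 1 := by
      rw [← map_pow]
      exact (QuotientGroup.eq_one_iff _).2 (hpow g)
    have h2 : q ∣ Nat.card H := by
      rw [← hx]
      exact orderOf_dvd_of_pow_eq_one h1
    have h4 : q ∣ Nat.gcd (Nat.card H) H.index := Nat.dvd_gcd h2 hqk
    rw [hHall] at h4
    exact hq.one_lt.ne' (Nat.dvd_one.1 h4)
  have hNcard : Nat.card N = H.index := by
    have hcardN : Nat.card N * N.index = Nat.card G := Subgroup.card_mul_index N
    apply Nat.dvd_antisymm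
    · apply hcop1.dvd_of_dvd_mul_left
      rw [hcardG, ← hcardN]
      exact Dvd.intro _ rfl
    · apply hcop2.dvd_of_dvd_mul_right
      rw [hcardN, ← hcardG]
      exact Dvd.intro_left _ rfl
  refine ⟨N, hNn, Subgroup.isComplement'_of_coprime ?_ hcop1⟩
  rw [hNcard, H.index_mul_card]

/-- A Sylow subgroup of `G` lying inside a Hall subgroup. -/
theorem exists_sylow_le_of_hall {G : Type u} [Group G] [Finite G] (H : Subgroup G)
    (hHall : Nat.Coprime (Nat.card H) H.index) (p : ℕ) [hp : Fact p.Prime] (hpd : p ∣ Nat.card H) :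
    ∃ P : Sylow p G, (P : Subgroup G) ≤ H := by
  obtain ⟨S⟩ : Nonempty (Sylow p H) := inferInstance
  have hP₀p : IsPGroup p ((S : Subgroup H).map H.subtype) := S.2.map _
  have hP₀i : ¬ p ∣ ((S : Subgroup H).map H.subtype).index := by
    rw [Subgroup.index_map_subtype, Nat.Prime.dvd_mul hp.out]
    rintro (h | h)
    · exact S.not_dvd_index h
    · exact hp.out.one_lt.ne' (Nat.eq_one_of_dvd_coprimes hHall hpd h)
  exact ⟨hP₀p.toSylow hP₀i, Subgroup.map_subtype_le _⟩

/-- `S0087`. -/
theorem exists_normal_complement_of_normalizer_le_centralizer (n : ℕ) :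
    ∀ {G : Type u} [Group G] [Finite G] (H : Subgroup G), Nat.card G = n →
      Nat.Coprime (Nat.card H) H.index →
      Subgroup.normalizer (H : Set G) ≤ Subgroup.centralizer (H : Set G) →
      ∃ N : Subgroup G, N.Normal ∧ N.IsComplement' H := by
  induction n using Nat.strong_induction_on with
  | _ n ih =>
  intro G _ _ H hn hHall h
  apply exists_normal_complement_of_forall_prime H hHall
  intro p hp hpd
  haveI : Fact p.Prime := ⟨hp⟩
  obtain ⟨P, hPH⟩ := exists_sylow_le_of_hall H hHall p hpd
  -- Burnside's transfer theorem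
  suffices hP : Subgroup.normalizer ((P : Subgroup G) : Set G) ≤
      Subgroup.centralizer ((P : Subgroup G) : Set G) from
    ⟨P, _, inferInstance, MonoidHom.ker_transferSylow_isComplement' P hP⟩
  set C : Subgroup G := Subgroup.centralizer ((P : Subgroup G) : Set G) with hC
  by_cases htop : C = ⊤
  · rw [htop]; exact le_top
  have hlt : Nat.card C < n := by
    rw [← hn]
    have h0 := Cfsg.Agent.Lib.Transfer.Frobenius.card_lt_card_of_lt (lt_top_iff_ne_top.mpr htop)
    rwa [Subgroup.card_top] at h0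
  have hcommH : ∀ a ∈ H, ∀ b ∈ H, a * b = b * a := by
    intro a ha b hb
    have h1 : b ∈ Subgroup.centralizer (H : Set G) := h (Subgroup.le_normalizer hb)
    exact (Subgroup.mem_centralizer_iff.mp h1 a ha)
  have hHC : H ≤ C := by
    intro x hx
    refine Subgroup.mem_centralizer_iff.mpr ?_
    intro y hy
    exact hcommH y (hPH hy) x hx
  have hCH : Subgroup.centralizer (H : Set G) ≤ C := Subgroup.centralizer_le hPH
  set H₁ : Subgroup C := H.subgroupOf C with hH₁
  have hH₁map : H₁.map C.subtype = H := Subgroup.map_subgroupOf_eq_of_le hHC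
  have hcH₁ : Nat.card H₁ = Nat.card H := card_subgroupOf_of_le hHC
  have hiH₁ : H₁.index ∣ H.index := ⟨C.index, (Subgroup.relIndex_mul_index hHC).symm⟩
  have hcopH₁ : (Nat.card H₁).Coprime H₁.index := by
    rw [hcH₁]
    exact Nat.Coprime.coprime_dvd_right hiH₁ hHall
  have hnormH₁ : Subgroup.normalizer (H₁ : Set C) ≤ Subgroup.centralizer (H₁ : Set C) := by
    intro x hx
    have h1 : (x : G) ∈ (Subgroup.normalizer (H₁ : Set C)).map C.subtype := ⟨x, hx, rfl⟩
    rw [map_normalizer_eq, hH₁map] at h1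
    have h2 := h h1.2
    refine Subgroup.mem_centralizer_iff.mpr ?_
    intro y hy
    apply Subtype.ext
    exact Subgroup.mem_centralizer_iff.mp h2 (y : G) hy
  obtain ⟨K₁, hK₁n, hK₁⟩ := ih _ hlt H₁ rfl hcopH₁ hnormH₁
  intro m hm
  -- conjugates of `H` by elements of the normalizer of `P` lie in `C`
  have hmC : MulAut.conj m • H ≤ C := by
    intro x hx
    rw [mem_conj_smul_iff] at hx
    have hxC := hHC hx
    refine Subgroup.mem_centralizer_iff.mpr ?_
    intro y hy
    have hy' : m⁻¹ * y * m ∈ (P : Subgroup G) := by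
      have := (mem_normalizer_iff'.mp (Subgroup.inv_mem _ hm) y).mp hy
      simpa using this
    have h1 := Subgroup.mem_centralizer_iff.mp hxC _ hy'
    calc y * x = m * ((m⁻¹ * y * m) * (m⁻¹ * x * m)) * m⁻¹ := by group
      _ = m * ((m⁻¹ * x * m) * (m⁻¹ * y * m)) * m⁻¹ := by rw [h1]
      _ = x * y := by group
  have hcH' : Nat.card ((MulAut.conj m • H).subgroupOf C) = Nat.card H₁ := by
    rw [card_subgroupOf_of_le hmC, card_conj_smul, hcH₁]
  have hsolv : Group.IsSolvable H₁ := by
    apply Group.isSolvable_of_comm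
    rintro ⟨a, ha⟩ ⟨b, hb⟩
    apply Subtype.ext
    apply Subtype.ext
    exact hcommH _ ha _ hb
  have hcopK : (Nat.card K₁).Coprime (Nat.card H₁) := by
    rw [← hK₁.index_eq_card]
    exact hcopH₁.symm
  obtain ⟨y, hy⟩ := conj_of_card K₁ H₁ ((MulAut.conj m • H).subgroupOf C) (Or.inr hsolv)
    hK₁.card_mul_card hcH' hcopK
  have hy2 : MulAut.conj (y : G) • H = MulAut.conj m • H := conj_of_subgroupOf hHC hmC y hy
  have h3 : MulAut.conj ((y : G)⁻¹ * m) • H = H := by
    rw [conj_mul_smul, ← hy2, ← conj_mul_smul, inv_mul_cancel]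
    simp
  have hmem : (y : G)⁻¹ * m ∈ Subgroup.normalizer (H : Set G) := by
    refine mem_normalizer_iff'.mpr ?_
    intro x
    constructor
    · intro hx
      have := conj_mem_conj_smul ((y : G)⁻¹ * m) x H hx
      rwa [h3] at this
    · intro hx
      rw [← h3, mem_conj_smul_iff] at hx
      have h5 : ((y : G)⁻¹ * m)⁻¹ * (((y : G)⁻¹ * m) * x * ((y : G)⁻¹ * m)⁻¹) * ((y : G)⁻¹ * m) = x := by
        group
      rwa [h5] at hx
  have h4 : m = (y : G) * ((y : G)⁻¹ * m) := by group
  rw [h4]
  exact C.mul_mem y.2 (hCH (h hmem))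

end Cfsg.Agent.Lib.Transfer.Hall
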