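import Cfsg.Agent.Lib.TransferCtl.EngelNorm
import Cfsg.Agent.Lib.PLocal.ThompsonComplement

/-!
# A large Jordan block from a coprime action

An abelian `p`-group `𝔸` acts on an abelian `p'`-group `K` (as subgroups of a group `Γ`), so that every
element of `𝔸` centralizes `K` or acts fixed point freely on it, and `Γ` acts on an elementary abelian
`p`-group `V`.  If `𝔸` and `K` act nontrivially, then there are a subgroup `𝔸₁` of index `p` in `𝔸`, an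
element `a ∉ 𝔸₁` and a vector `v₀ ∈ [V, K]` fixed by `𝔸₁` such that `(a - 1)^(p - 1) v₀ ≠ 0`.
-/

set_option autoImplicit false
set_option linter.unusedSectionVars false
set_option linter.style.haveILetI false

namespace Cfsg.Agent.Lib.Transfer.JNorm

open Finset
open scoped commutatorElement
open Cfsg.Agent.Lib.TransferCtl.EngelNorm

variable {p : ℕ} [Fact p.Prime]

section Poly

/-- `(τ - 1)^(p-1) = 1 + τ + ... + τ^(p-1)`, additively. -/
lemma iter_add_aux {M : Type*} [AddCommGroup M] [Module (ZMod p) M] (τ : M →+ M) (v : M) :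
    (fun b => τ b - b)^[p - 1] v = ∑ i ∈ range p, τ^[i] v := by
  let T' : Module.End (ZMod p) M := τ.toZModLinearMap p
  have hpoly : ∑ i ∈ range p, T' ^ i = (T' - 1) ^ (p - 1) := by
    have h1 := congrArg (Polynomial.aeval T') (geom_sum_eq_pow p)
    simpa [map_sum, map_pow, map_sub, Polynomial.aeval_X, map_one] using h1
  have hit : ∀ (n : ℕ) (x : M), ((T' - 1) ^ n) x = (fun b => τ b - b)^[n] x := by
    intro n x
    induction n with
    | zero => rfl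
    | succ n ih =>
      rw [pow_succ', Module.End.mul_apply, ih, Function.iterate_succ_apply']
      rfl
  have hpow : ∀ (i : ℕ) (x : M), (T' ^ i) x = τ^[i] x := by
    intro i x
    rw [Module.End.pow_apply]
    rfl
  rw [← hit, ← hpoly, LinearMap.sum_apply]
  exact sum_congr rfl fun i _ => hpow i v

variable {V : Type*} [CommGroup V]

/-- `(τ - 1)^(p-1) = 1 + τ + ... + τ^(p-1)` on a commutative group of exponent `p`. -/
lemma iter_eq_prod (hV : ∀ v : V, v ^ p = 1) (τ : V →* V) (v : V) :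
    (fun b => τ b * b⁻¹)^[p - 1] v = ∏ i ∈ range p, τ^[i] v := by
  have hmod : ∀ x : Additive V, p • x = 0 := fun x => by
    show Additive.ofMul (Additive.toMul x ^ p) = 0
    rw [hV]
    rfl
  have h := @iter_add_aux p _ (Additive V) _ (AddCommGroup.zmodModule hmod) (MonoidHom.toAdditive τ)
    (Additive.ofMul v)
  have hit : ∀ (n : ℕ) (x : V), (fun b => (MonoidHom.toAdditive τ) b - b)^[n] (Additive.ofMul x) =
      Additive.ofMul ((fun b => τ b * b⁻¹)^[n] x) := by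
    intro n x
    induction n with
    | zero => rfl
    | succ n ih =>
      rw [Function.iterate_succ_apply', ih, Function.iterate_succ_apply', sub_eq_add_neg]
      rfl
  have hpow : ∀ (i : ℕ) (x : V), (⇑(MonoidHom.toAdditive τ))^[i] (Additive.ofMul x) =
      Additive.ofMul (τ^[i] x) := by
    intro i x
    induction i with
    | zero => rfl
    | succ i ih =>
      rw [Function.iterate_succ_apply', ih, Function.iterate_succ_apply']
      rfl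
  rw [hit] at h
  have h2 : Additive.ofMul (∏ i ∈ range p, τ^[i] v) =
      Additive.ofMul ((fun b => τ b * b⁻¹)^[p - 1] v) := by
    rw [ofMul_prod, h]
    exact sum_congr rfl fun i _ => (hpow i v).symm
  exact (Additive.ofMul.injective h2).symm

lemma iter_succ_eq (hV : ∀ v : V, v ^ p = 1) (τ : V →* V) (v : V) :
    (fun b => τ b * b⁻¹)^[p] v = τ^[p] v * v⁻¹ := by
  have hp : p - 1 + 1 = p := Nat.sub_add_cancel (Fact.out : p.Prime).pos
  conv_lhs => rw [← hp]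
  rw [Function.iterate_succ_apply', iter_eq_prod hV, map_prod]
  have h1 : ∏ x ∈ range p, τ (τ^[x] v) = ∏ x ∈ range p, τ^[x + 1] v := by
    refine prod_congr rfl fun i _ => ?_
    rw [Function.iterate_succ_apply']
  have h2 := prod_range_succ (fun i => τ^[i] v) p
  have h3 := prod_range_succ' (fun i => τ^[i] v) p
  rw [h2] at h3
  have h3' : (∏ x ∈ range p, τ^[x] v) * τ^[p] v = (∏ x ∈ range p, τ^[x + 1] v) * v := h3
  rw [h1]
  set N := ∏ x ∈ range p, τ^[x] v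
  set N' := ∏ x ∈ range p, τ^[x + 1] v
  set t := τ^[p] v
  have e : N' = N * t * v⁻¹ := eq_mul_inv_of_mul_eq h3'.symm
  rw [e, mul_comm N t, mul_assoc t, mul_assoc t, mul_comm N, mul_assoc, mul_inv_cancel, mul_one]

end Poly

section Block

variable {V : Type*} [CommGroup V] {F : Type*} [CommGroup F] [Fintype F]

lemma iter_eq_pow_smul (ψ : F →* MulAut V) (a : F) (i : ℕ) (v : V) :
    ((ψ a).toMonoidHom)^[i] v = ψ (a ^ i) v := by
  induction i with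
  | zero => simp
  | succ i ih =>
    rw [Function.iterate_succ_apply', ih, pow_succ', map_mul]
    rfl

theorem exists_block (hV : ∀ v : V, v ^ p = 1) (ψ : F →* MulAut V) (F₁ : Subgroup F)
    (hF₁ : F₁.index = p) (a : F) (ha : a ∉ F₁) (v : V) (hv : ∏ τ : F, ψ τ v ≠ 1) :
    ∃ v₀ : V, (∀ d ∈ F₁, ψ d v₀ = v₀) ∧ (fun b => ψ a b * b⁻¹)^[p - 1] v₀ ≠ 1 ∧
      (fun b => ψ a b * b⁻¹)^[p] v₀ = 1 := by
  classical
  have hp : p.Prime := Fact.out
  haveI : Fintype F₁ := Fintype.ofFinite _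
  haveI : NeZero p := ⟨hp.ne_zero⟩
  set v₀ : V := ∏ σ : F₁, ψ σ v with hv₀
  let q : F →* F ⧸ F₁ := QuotientGroup.mk' F₁
  have hq : ∀ x : F, q x = 1 ↔ x ∈ F₁ := fun x => QuotientGroup.eq_one_iff x
  have hcardq : Nat.card (F ⧸ F₁) = p := hF₁
  have hoa : orderOf (q a) = p := by
    have h1 : orderOf (q a) ∣ p := hcardq ▸ orderOf_dvd_natCard (q a)
    rcases (Nat.dvd_prime hp).1 h1 with h2 | h2
    · rw [orderOf_eq_one_iff, hq] at h2
      exact absurd h2 ha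
    · exact h2
  have hfix : ∀ d ∈ F₁, ψ d v₀ = v₀ := by
    intro d hd
    rw [hv₀, map_prod]
    calc ∏ x : F₁, ψ d (ψ x v) = ∏ x : F₁, ψ ((Equiv.mulLeft (⟨d, hd⟩ : F₁)) x : F₁) v := by
          refine prod_congr rfl fun x _ => ?_
          simp [map_mul]
      _ = _ := Equiv.prod_comp (Equiv.mulLeft (⟨d, hd⟩ : F₁)) (fun σ : F₁ => ψ σ v)
  -- the bijection
  let f : Fin p × F₁ → F := fun x => a ^ (x.1 : ℕ) * (x.2 : F)
  have hfinj : Function.Injective f := by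
    rintro ⟨i, σ⟩ ⟨j, σ'⟩ h
    have h1 : a ^ (i : ℕ) * (σ : F) = a ^ (j : ℕ) * (σ' : F) := h
    have h2 := congrArg q h1
    rw [map_mul, map_mul, map_pow, map_pow, (hq _).2 σ.2, (hq _).2 σ'.2, mul_one, mul_one] at h2
    have h3 : (i : ℕ) = j := pow_injOn_Iio_orderOf (x := q a) (by rw [hoa]; exact i.2)
      (by rw [hoa]; exact j.2) h2
    have h4 : i = j := Fin.ext h3
    subst h4
    have h5 : (σ : F) = σ' := mul_left_cancel h1
    rw [Subtype.ext h5]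
  have hfcard : Nat.card (Fin p × F₁) = Nat.card F := by
    rw [Nat.card_prod, Nat.card_fin, ← Subgroup.card_mul_index F₁, hF₁, mul_comm]
  have hfbij : Function.Bijective f := (Nat.bijective_iff_injective_and_card f).2 ⟨hfinj, hfcard⟩
  have hiter : ∀ i : ℕ, ((ψ a).toMonoidHom)^[i] v₀ = ∏ σ : F₁, ψ (a ^ i * σ) v := by
    intro i
    rw [iter_eq_pow_smul, hv₀, map_prod]
    refine prod_congr rfl fun σ _ => ?_
    rw [map_mul]
    rfl
  have hnorm : ∏ i ∈ range p, ((ψ a).toMonoidHom)^[i] v₀ = ∏ τ : F, ψ τ v := by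
    rw [← hfbij.prod_comp (fun τ => ψ τ v), Fintype.prod_prod_type,
      ← Fin.prod_univ_eq_prod_range (fun i => ((ψ a).toMonoidHom)^[i] v₀) p]
    refine prod_congr rfl fun i _ => ?_
    rw [hiter]
  refine ⟨v₀, hfix, ?_, ?_⟩
  · have h1 := iter_eq_prod hV (ψ a).toMonoidHom v₀
    have h2 : (fun b => ψ a b * b⁻¹)^[p - 1] v₀ = (fun b => (ψ a).toMonoidHom b * b⁻¹)^[p - 1] v₀ := rfl
    rw [h2, h1, hnorm]
    exact hv
  · have h1 := iter_succ_eq hV (ψ a).toMonoidHom v₀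
    have h2 : (fun b => ψ a b * b⁻¹)^[p] v₀ = (fun b => (ψ a).toMonoidHom b * b⁻¹)^[p] v₀ := rfl
    rw [h2, h1, iter_eq_pow_smul]
    have h3 : a ^ p ∈ F₁ := by
      rw [← hq, map_pow, ← hoa, pow_orderOf_eq_one]
    rw [hfix _ h3, mul_inv_cancel]

end Block

section NormNe

variable {Γ V F : Type*} [Group Γ] [CommGroup V] [Fintype F] [DecidableEq F]

/-- The averaging argument: a subgroup `W` on which the norm vanishes is killed by `|K|`. -/
lemma pow_card_eq_one_of_norm (K : Subgroup Γ) [Fintype K] (W : Subgroup V) (ρ : Γ →* MulAut V)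
    (hWK : ∀ k ∈ K, ∀ w ∈ W, ρ k w ∈ W) (hπ : ∀ u ∈ W, ∏ k : K, ρ k u = 1)
    (c : F → Γ) (τ₀ : F) (h0 : ∀ w ∈ W, ρ (c τ₀) w = w) (h0K : ∀ k ∈ K, c τ₀ * k = k * c τ₀)
    (hN : ∀ τ, ∀ k ∈ K, c τ * k * (c τ)⁻¹ ∈ K) (hW : ∀ τ, ∀ w ∈ W, ρ (c τ) w ∈ W)
    (hfpf : ∀ τ, τ ≠ τ₀ → ∀ k ∈ K, c τ * k = k * c τ → k = 1)
    (hnorm : ∀ w ∈ W, ∏ τ, ρ (c τ) w = 1) (w : V) (hw : w ∈ W) : w ^ Nat.card K = 1 := by
  have hstep : ∀ k : K, ∏ τ, ρ ((k : Γ) * c τ * (k : Γ)⁻¹) w = 1 := by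
    intro k
    have h1 := hnorm _ (hWK _ (inv_mem k.2) w hw)
    have h2 := congrArg (ρ (k : Γ)) h1
    rw [map_prod, map_one] at h2
    rw [← h2]
    refine prod_congr rfl fun τ _ => ?_
    rw [map_mul, map_mul, map_inv]
    rfl
  have h1 : ∏ τ, ∏ k : K, ρ ((k : Γ) * c τ * (k : Γ)⁻¹) w = 1 := by
    rw [prod_comm]
    exact prod_eq_one fun k _ => hstep k
  rw [prod_eq_single τ₀] at h1
  · have h2 : ∀ k : K, ρ ((k : Γ) * c τ₀ * (k : Γ)⁻¹) w = w := by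
      intro k
      rw [← h0K k k.2, mul_inv_cancel_right, h0 w hw]
    simp only [h2, prod_const, card_univ] at h1
    rwa [Nat.card_eq_fintype_card]
  · intro τ _ hτ
    set b := c τ with hb
    let φ : K → K := fun k => ⟨(k : Γ) * (b * (k : Γ)⁻¹ * b⁻¹), mul_mem k.2 (hN τ _ (inv_mem k.2))⟩
    have hφinj : Function.Injective φ := by
      intro k k' hk
      have e : (k : Γ) * (b * (k : Γ)⁻¹ * b⁻¹) = (k' : Γ) * (b * (k' : Γ)⁻¹ * b⁻¹) :=
        congrArg Subtype.val hk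
      have e2 : b * ((k' : Γ)⁻¹ * k) = ((k' : Γ)⁻¹ * k) * b := by
        have e3 : (k' : Γ)⁻¹ * k = b * ((k' : Γ)⁻¹ * k) * b⁻¹ := by
          calc (k' : Γ)⁻¹ * k = (k' : Γ)⁻¹ * ((k : Γ) * (b * (k : Γ)⁻¹ * b⁻¹)) * (b * (k : Γ)⁻¹ * b⁻¹)⁻¹ := by
                group
            _ = (k' : Γ)⁻¹ * ((k' : Γ) * (b * (k' : Γ)⁻¹ * b⁻¹)) * (b * (k : Γ)⁻¹ * b⁻¹)⁻¹ := by rw [e]
            _ = _ := by group
        exact (mul_inv_eq_iff_eq_mul.1 e3.symm)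
      have e4 := hfpf τ hτ _ (mul_mem (inv_mem k'.2) k.2) e2
      have e5 : (k : Γ) = k' := by
        have := congrArg (fun x => (k' : Γ) * x) e4
        simpa using this
      exact Subtype.ext e5
    have hφbij : Function.Bijective φ := Finite.injective_iff_bijective.1 hφinj
    have hu : ρ b w ∈ W := hW τ w hw
    calc ∏ k : K, ρ ((k : Γ) * b * (k : Γ)⁻¹) w = ∏ k : K, ρ ((φ k : K) : Γ) (ρ b w) := by
          refine prod_congr rfl fun k _ => ?_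
          rw [← MulAut.mul_apply, ← map_mul]
          congr 2
          show (k : Γ) * b * (k : Γ)⁻¹ = (k : Γ) * (b * (k : Γ)⁻¹ * b⁻¹) * b
          group
      _ = ∏ k : K, ρ (k : Γ) (ρ b w) := hφbij.prod_comp (fun k : K => ρ (k : Γ) (ρ b w))
      _ = 1 := hπ _ hu
  · intro h
    exact absurd (mem_univ _) h

end NormNe

/-- A `p`-group acting on a nontrivial `p`-group fixes a nontrivial element. -/
lemma exists_fixed_ne_one {𝔹 U : Type*} [Group 𝔹] [Finite 𝔹] [One U] [Finite U]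
    (h𝔹 : IsPGroup p 𝔹) (hU : p ∣ Nat.card U) [MulAction 𝔹 U] (h1 : ∀ b : 𝔹, b • (1 : U) = 1) :
    ∃ u : U, u ≠ 1 ∧ ∀ b : 𝔹, b • u = u := by
  classical
  have hp : p.Prime := Fact.out
  have hmod := h𝔹.card_modEq_card_fixedPoints U
  have hdvd : p ∣ Nat.card (MulAction.fixedPoints 𝔹 U) :=
    (Nat.modEq_zero_iff_dvd.1 (hmod.symm.trans (Nat.modEq_zero_iff_dvd.2 hU)))
  let o : MulAction.fixedPoints 𝔹 U := ⟨1, fun b => h1 b⟩
  haveI : Nonempty (MulAction.fixedPoints 𝔹 U) := ⟨o⟩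
  have hpos : 0 < Nat.card (MulAction.fixedPoints 𝔹 U) := Nat.card_pos
  have hlt : 1 < Nat.card (MulAction.fixedPoints 𝔹 U) :=
    lt_of_lt_of_le hp.one_lt (Nat.le_of_dvd hpos hdvd)
  haveI := Finite.one_lt_card_iff_nontrivial.1 hlt
  obtain ⟨x, hx⟩ := exists_ne o
  refine ⟨x.1, fun h => hx (Subtype.ext h), fun b => x.2 b⟩

/-- The commutator subgroup `[V, K]`. -/
def commV {Γ V : Type*} [Group Γ] [Group V] (K : Subgroup Γ) (ρ : Γ →* MulAut V) : Subgroup V :=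
  Subgroup.closure {v | ∃ k ∈ K, ∃ u : V, v = ρ k u * u⁻¹}

section Main

variable {Γ V 𝔸 : Type*} [Group Γ] [CommGroup V] [Finite V] [CommGroup 𝔸] [Finite 𝔸]

lemma norm_commV (K : Subgroup Γ) [Fintype K] (ρ : Γ →* MulAut V) (u : V) (hu : u ∈ commV K ρ) :
    ∏ k : K, ρ k u = 1 := by
  induction hu using Subgroup.closure_induction with
  | mem x hx =>
    obtain ⟨k₀, hk₀, u, rfl⟩ := hx
    simp only [map_mul, map_inv]
    rw [prod_mul_distrib, prod_inv_distrib, mul_inv_eq_one]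
    calc ∏ k : K, ρ k (ρ k₀ u) = ∏ k : K, ρ ((Equiv.mulRight (⟨k₀, hk₀⟩ : K)) k : K) u := by
          refine prod_congr rfl fun k _ => ?_
          simp [map_mul]
      _ = _ := Equiv.prod_comp (Equiv.mulRight (⟨k₀, hk₀⟩ : K)) (fun k : K => ρ k u)
  | one => simp
  | mul x y _ _ hx hy =>
    simp only [map_mul]
    rw [prod_mul_distrib, hx, hy, one_mul]
  | inv x _ hx =>
    simp only [map_inv]
    rw [prod_inv_distrib, hx, inv_one]

lemma commV_conj (K : Subgroup Γ) (ρ : Γ →* MulAut V) (g : Γ)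
    (hg : ∀ k ∈ K, g * k * g⁻¹ ∈ K) (u : V) (hu : u ∈ commV K ρ) : ρ g u ∈ commV K ρ := by
  induction hu using Subgroup.closure_induction with
  | mem x hx =>
    obtain ⟨k₀, hk₀, u, rfl⟩ := hx
    refine Subgroup.subset_closure ⟨g * k₀ * g⁻¹, hg _ hk₀, ρ g u, ?_⟩
    rw [map_mul, map_inv, ← MulAut.mul_apply, ← MulAut.mul_apply, ← map_mul, ← map_mul]
    congr 3
    group
  | one => simp
  | mul x y _ _ hx hy =>
    rw [map_mul]
    exact mul_mem hx hy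
  | inv x _ hx =>
    rw [map_inv]
    exact inv_mem hx

/-- The main theorem. -/
theorem exists_block_of_action (hV : ∀ v : V, v ^ p = 1) (h𝔸 : IsPGroup p 𝔸)
    (K : Subgroup Γ) [Finite K] (hKab : ∀ k ∈ K, ∀ k' ∈ K, k * k' = k' * k)
    (hKc : (Nat.card K).Coprime p) (ι : 𝔸 →* Γ) (hN : ∀ c : 𝔸, ∀ k ∈ K, ι c * k * (ι c)⁻¹ ∈ K)
    (hdich : ∀ c : 𝔸, (∀ k ∈ K, ι c * k = k * ι c) ∨ (∀ k ∈ K, ι c * k = k * ι c → k = 1))
    (hne : ∃ c : 𝔸, ∃ k ∈ K, ι c * k ≠ k * ι c)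
    (ρ : Γ →* MulAut V) (hρ : ∃ k ∈ K, ∃ u : V, ρ k u ≠ u) :
    ∃ (𝔸₁ : Subgroup 𝔸) (a : 𝔸) (v₀ : V), 𝔸₁.index = p ∧ a ∉ 𝔸₁ ∧ v₀ ∈ commV K ρ ∧
      (∀ d ∈ 𝔸₁, ρ (ι d) v₀ = v₀) ∧
      (fun b => ρ (ι a) b * b⁻¹)^[p - 1] v₀ ≠ 1 ∧ (fun b => ρ (ι a) b * b⁻¹)^[p] v₀ = 1 := by
  classical
  have hp : p.Prime := Fact.out
  haveI : Fintype K := Fintype.ofFinite _
  set W₁ := commV K ρ with hW₁
  -- the invariance of `W₁`
  have hW₁K : ∀ k ∈ K, ∀ w ∈ W₁, ρ k w ∈ W₁ := fun k hk w hw =>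
    commV_conj K ρ k (fun k' hk' => by rw [hKab k hk k' hk', mul_inv_cancel_right]; exact hk') w hw
  have hW₁A : ∀ (c : 𝔸), ∀ w ∈ W₁, ρ (ι c) w ∈ W₁ := fun c w hw =>
    commV_conj K ρ (ι c) (hN c) w hw
  have hW₁π : ∀ u ∈ W₁, ∏ k : K, ρ k u = 1 := fun u hu => norm_commV K ρ u hu
  -- the centralizer of `K`
  let 𝔸₂ : Subgroup 𝔸 :=
    { carrier := {c | ∀ k ∈ K, ι c * k = k * ι c}
      mul_mem' := by
        intro c c' hc hc' k hk
        rw [map_mul, mul_assoc, hc' k hk, ← mul_assoc, hc k hk, mul_assoc]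
      one_mem' := by
        intro k _
        simp
      inv_mem' := by
        intro c hc k hk
        rw [map_inv]
        exact (show Commute (ι c) k from hc k hk).inv_left }
  have hι𝔸₂ : ∀ c : 𝔸, c ∈ 𝔸₂ ↔ ∀ k ∈ K, ι c * k = k * ι c := fun c => Iff.rfl
  -- the fixed points
  let W₂ : Subgroup V :=
    { carrier := {w | w ∈ W₁ ∧ ∀ c ∈ 𝔸₂, ρ (ι c) w = w}
      mul_mem' := by
        rintro w w' ⟨hw, hwf⟩ ⟨hw', hwf'⟩
        refine ⟨mul_mem hw hw', fun c hc => ?_⟩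
        rw [map_mul, hwf c hc, hwf' c hc]
      one_mem' := ⟨one_mem _, fun c _ => map_one _⟩
      inv_mem' := by
        rintro w ⟨hw, hwf⟩
        refine ⟨inv_mem hw, fun c hc => ?_⟩
        rw [map_inv, hwf c hc] }
  have hW₂K : ∀ k ∈ K, ∀ w ∈ W₂, ρ k w ∈ W₂ := by
    rintro k hk w ⟨hw, hwf⟩
    refine ⟨hW₁K k hk w hw, fun c hc => ?_⟩
    rw [← MulAut.mul_apply, ← map_mul, hc k hk, map_mul, MulAut.mul_apply, hwf c hc]
  have hW₂A : ∀ (c : 𝔸), ∀ w ∈ W₂, ρ (ι c) w ∈ W₂ := by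
    rintro c w ⟨hw, hwf⟩
    refine ⟨hW₁A c w hw, fun d hd => ?_⟩
    rw [← MulAut.mul_apply, ← map_mul, ← map_mul, mul_comm, map_mul, map_mul, MulAut.mul_apply,
      hwf d hd]
  -- `W₂` is nontrivial
  have hW₁p : IsPGroup p W₁ := by
    intro w
    refine ⟨1, Subtype.ext ?_⟩
    rw [pow_one]
    exact hV _
  have hW₂ne : ∃ w ∈ W₂, w ≠ 1 := by
    obtain ⟨k, hk, u, hu⟩ := hρ
    have hu1 : ρ k u * u⁻¹ ∈ W₁ := Subgroup.subset_closure ⟨k, hk, u, rfl⟩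
    have hu2 : ρ k u * u⁻¹ ≠ 1 := by
      rw [Ne, mul_inv_eq_one]
      exact hu
    have hdvd : p ∣ Nat.card W₁ := by
      obtain ⟨n, hn⟩ := IsPGroup.iff_card.1 hW₁p
      rw [hn]
      refine dvd_pow_self p ?_
      rintro rfl
      rw [pow_zero] at hn
      have : (⟨_, hu1⟩ : W₁) = 1 := @Subsingleton.elim _ ((Nat.card_eq_one_iff_unique.1 hn).1) _ _
      exact hu2 (congrArg Subtype.val this)
    letI : MulAction 𝔸₂ W₁ :=
      { smul := fun c w => ⟨ρ (ι c) w, hW₁A c w w.2⟩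
        one_smul := fun w => Subtype.ext (by
          show ρ (ι ((1 : 𝔸₂) : 𝔸)) w.1 = w.1
          simp)
        mul_smul := fun c c' w => Subtype.ext (by
          show ρ (ι (((c * c' : 𝔸₂)) : 𝔸)) w.1 = ρ (ι (c : 𝔸)) (ρ (ι (c' : 𝔸)) w.1)
          simp [map_mul]) }
    obtain ⟨w, hw1, hw2⟩ := exists_fixed_ne_one (p := p) (𝔹 := 𝔸₂) (U := W₁) (h𝔸.to_subgroup _) hdvd
      (fun b => Subtype.ext (map_one _))
    refine ⟨w.1, ⟨w.2, fun c hc => congrArg Subtype.val (hw2 ⟨c, hc⟩)⟩, fun h => hw1 (Subtype.ext h)⟩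
  -- the action of the quotient
  let ψ₀ : 𝔸 →* MulAut W₂ :=
    { toFun := fun c =>
        { toFun := fun w => ⟨ρ (ι c) w, hW₂A c w w.2⟩
          invFun := fun w => ⟨ρ (ι c⁻¹) w, hW₂A c⁻¹ w w.2⟩
          left_inv := fun w => Subtype.ext (by
            show ρ (ι c⁻¹) (ρ (ι c) w.1) = w.1
            simp [map_inv])
          right_inv := fun w => Subtype.ext (by
            show ρ (ι c) (ρ (ι c⁻¹) w.1) = w.1
            simp [map_inv])
          map_mul' := fun w w' => Subtype.ext (by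
            show ρ (ι c) (w.1 * w'.1) = ρ (ι c) w.1 * ρ (ι c) w'.1
            rw [map_mul]) }
      map_one' := by
        ext w
        show ρ (ι 1) w.1 = w.1
        simp
      map_mul' := by
        intro c c'
        ext w
        show ρ (ι (c * c')) w.1 = ρ (ι c) (ρ (ι c') w.1)
        simp [map_mul] }
  have hψ₀ : ∀ (c : 𝔸) (w : W₂), ((ψ₀ c w : W₂) : V) = ρ (ι c) w := fun _ _ => rfl
  have hker : 𝔸₂ ≤ ψ₀.ker := by
    intro c hc
    rw [MonoidHom.mem_ker]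
    ext w
    exact w.2.2 c hc
  let F := 𝔸 ⧸ 𝔸₂
  let ψ : F →* MulAut W₂ := QuotientGroup.lift 𝔸₂ ψ₀ hker
  have hψ : ∀ c : 𝔸, ψ (QuotientGroup.mk c) = ψ₀ c := fun c => rfl
  have hψout : ∀ (τ : F) (w : W₂), ((ψ τ w : W₂) : V) = ρ (ι (Quotient.out τ)) w := by
    intro τ w
    have h1 : ψ τ = ψ₀ (Quotient.out τ) := by
      rw [← hψ]
      congr 1
      exact (QuotientGroup.out_eq' τ).symm
    rw [h1]
    rfl
  haveI : Fintype F := Fintype.ofFinite _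
  -- `F` is a nontrivial `p`-group
  have hFp : IsPGroup p F := h𝔸.to_quotient _
  have h𝔸₂ne : 𝔸₂ ≠ ⊤ := by
    obtain ⟨c, k, hk, hck⟩ := hne
    intro h
    have : c ∈ 𝔸₂ := by
      rw [h]
      exact Subgroup.mem_top c
    exact hck (this k hk)
  obtain ⟨n, hn⟩ := IsPGroup.iff_card.1 hFp
  have hn0 : n ≠ 0 := by
    rintro rfl
    rw [pow_zero] at hn
    have h1 : 𝔸₂.index = 1 := hn
    exact h𝔸₂ne (Subgroup.index_eq_one.1 h1)
  obtain ⟨m, rfl⟩ := Nat.exists_eq_succ_of_ne_zero hn0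
  obtain ⟨F₁, hF₁⟩ := Sylow.exists_subgroup_card_pow_prime (G := F) p (n := m) (by
    rw [hn]
    exact pow_dvd_pow p (Nat.le_succ m))
  have hF₁i : F₁.index = p := by
    have h1 := Subgroup.card_mul_index F₁
    rw [hF₁, hn, Nat.succ_eq_add_one, pow_succ] at h1
    exact Nat.eq_of_mul_eq_mul_left (pow_pos hp.pos m) h1
  have hF₁ne : F₁ ≠ ⊤ := by
    intro h
    rw [h, Subgroup.index_top] at hF₁i
    exact hp.one_lt.ne hF₁i
  obtain ⟨a₀, ha₀⟩ : ∃ a₀ : F, a₀ ∉ F₁ := by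
    by_contra hall
    push Not at hall
    exact hF₁ne (eq_top_iff.2 fun x _ => hall x)
  -- a vector of nonzero norm
  have hnormne : ∃ w : W₂, ∏ τ : F, ψ τ w ≠ 1 := by
    by_contra hall
    push Not at hall
    obtain ⟨w, hw, hw1⟩ := hW₂ne
    have hout1 : Quotient.out (1 : F) ∈ 𝔸₂ := by
      rw [← QuotientGroup.eq_one_iff]
      exact QuotientGroup.out_eq' (1 : F)
    have h1 := pow_card_eq_one_of_norm K W₂ ρ hW₂K (fun u hu => hW₁π u hu.1)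
      (fun τ : F => ι (Quotient.out τ)) (1 : F)
      (fun w hw => hw.2 _ hout1) (hι𝔸₂ _ |>.1 hout1) (fun τ => hN _) (fun τ => hW₂A _)
      (by
        intro τ hτ k hk hc
        refine (hdich (Quotient.out τ)).resolve_left ?_ k hk hc
        intro hall'
        apply hτ
        have h3 : Quotient.out τ ∈ 𝔸₂ := hall'
        have h4 := (QuotientGroup.eq_one_iff (N := 𝔸₂) (Quotient.out τ)).2 h3
        rw [← h4]
        exact (QuotientGroup.out_eq' τ).symm)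
      (by
        intro w hw
        have h2 := hall ⟨w, hw⟩
        have h3 := congrArg W₂.subtype h2
        rw [map_prod] at h3
        exact Eq.trans (prod_congr rfl fun τ _ => (hψout τ ⟨w, hw⟩).symm) (h3.trans (map_one _))) w hw
    have h2 : orderOf w ∣ Nat.card K := orderOf_dvd_of_pow_eq_one h1
    have h3 : orderOf w ∣ p := orderOf_dvd_of_pow_eq_one (hV w)
    have h4 := Nat.eq_one_of_dvd_coprimes hKc h2 h3
    exact hw1 (orderOf_eq_one_iff.1 h4)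
  obtain ⟨w, hw⟩ := hnormne
  have hVW : ∀ v : W₂, v ^ p = 1 := fun v => Subtype.ext (hV _)
  obtain ⟨v₀, h1, h2, h3⟩ := exists_block hVW ψ F₁ hF₁i a₀ ha₀ w hw
  -- the conclusion
  let a : 𝔸 := Quotient.out a₀
  have ha : (QuotientGroup.mk a : F) = a₀ := QuotientGroup.out_eq' a₀
  have hit : ∀ (n : ℕ) (b : W₂), (((fun b => ψ a₀ b * b⁻¹)^[n] b : W₂) : V) =
      (fun b => ρ (ι a) b * b⁻¹)^[n] (b : V) := by
    intro n b
    induction n with
    | zero => rfl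
    | succ n ih =>
      rw [Function.iterate_succ_apply', Function.iterate_succ_apply', ← ih]
      show ((ψ a₀ _ : W₂) : V) * _ = _
      rw [hψout]
      rfl
  refine ⟨F₁.comap (QuotientGroup.mk' 𝔸₂), a, v₀, ?_, ?_, v₀.2.1, ?_, ?_, ?_⟩
  · rw [Subgroup.index_comap_of_surjective _ (QuotientGroup.mk'_surjective _)]
    exact hF₁i
  · intro h
    apply ha₀
    rw [← ha]
    exact h
  · intro d hd
    have h4 := h1 _ hd
    have h5 := congrArg Subtype.val h4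
    exact h5
  · rw [← hit]
    intro h
    exact h2 (Subtype.ext h)
  · rw [← hit, h3]
    rfl

/-- A minimal subgroup on which an abelian `p`-group acts nontrivially. -/
theorem exists_irred {Γ 𝔸 : Type*} [Group Γ] [Finite Γ] [CommGroup 𝔸] [Finite 𝔸] (h𝔸 : IsPGroup p 𝔸)
    (Q : Subgroup Γ) (hQab : ∀ k ∈ Q, ∀ k' ∈ Q, k * k' = k' * k) (hQc : (Nat.card Q).Coprime p)
    (ι : 𝔸 →* Γ) (hN : ∀ c : 𝔸, ∀ k ∈ Q, ι c * k * (ι c)⁻¹ ∈ Q)
    (hne : ∃ c : 𝔸, ∃ k ∈ Q, ι c * k ≠ k * ι c) :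
    ∃ K ≤ Q, (∀ c : 𝔸, ∀ k ∈ K, ι c * k * (ι c)⁻¹ ∈ K) ∧ (∃ c : 𝔸, ∃ k ∈ K, ι c * k ≠ k * ι c) ∧
      ∀ c : 𝔸, (∀ k ∈ K, ι c * k = k * ι c) ∨ (∀ k ∈ K, ι c * k = k * ι c → k = 1) := by
  classical
  let ℱ : Set (Subgroup Γ) := {K | K ≤ Q ∧ (∀ c : 𝔸, ∀ k ∈ K, ι c * k * (ι c)⁻¹ ∈ K) ∧
    ∃ c : 𝔸, ∃ k ∈ K, ι c * k ≠ k * ι c}
  have hℱ : ℱ.Nonempty := ⟨Q, le_rfl, hN, hne⟩
  obtain ⟨K, hK⟩ := (Set.toFinite ℱ).exists_minimal hℱ
  obtain ⟨⟨hKQ, hKN, hKne⟩, hmin⟩ := hK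
  refine ⟨K, hKQ, hKN, hKne, ?_⟩
  have hKab : ∀ a ∈ K, ∀ b ∈ K, a * b = b * a := fun a ha b hb => hQab a (hKQ ha) b (hKQ hb)
  have hBN : ι.range ≤ Subgroup.normalizer (K : Set Γ) := by
    rintro _ ⟨c, rfl⟩
    rw [Subgroup.mem_normalizer_iff]
    intro k
    refine ⟨hKN c k, fun h => ?_⟩
    have h1 := hKN c⁻¹ _ h
    rw [map_inv] at h1
    simpa [mul_assoc] using h1
  have hcop : (Nat.card ι.range).Coprime (Nat.card K) := by
    have h1 : IsPGroup p ι.range := IsPGroup.of_surjective h𝔸 ι.rangeRestrict ι.rangeRestrict_surjective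
    obtain ⟨n, hn⟩ := IsPGroup.iff_card.1 h1
    rw [hn]
    refine Nat.Coprime.pow_left n ?_
    exact (Nat.Coprime.coprime_dvd_left (Subgroup.card_dvd_of_le hKQ) hQc).symm
  have hfix : ∀ y ∈ ⁅K, ι.range⁆, (∀ c : 𝔸, ι c * y = y * ι c) → y = 1 := by
    intro y hy hc
    refine Cfsg.Agent.Lib.PLocal.ThompsonComplement.eq_one_of_fixed_of_mem_commutator hKab hBN hcop hy ?_
    rintro _ ⟨c, rfl⟩
    rw [hc c, mul_inv_cancel_right]
  -- `K = [K, A]`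
  have hK₁K : ⁅K, ι.range⁆ ≤ K := by
    rw [Subgroup.commutator_le]
    rintro k hk _ ⟨c, rfl⟩
    have e : ⁅k, ι c⁆ = k * (ι c * k⁻¹ * (ι c)⁻¹) := by
      rw [commutatorElement_def]
      group
    rw [e]
    exact mul_mem hk (hKN c _ (inv_mem hk))
  have hK₁N : ∀ c : 𝔸, ∀ y ∈ ⁅K, ι.range⁆, ι c * y * (ι c)⁻¹ ∈ ⁅K, ι.range⁆ := by
    intro c y hy
    have h1 : ⁅K, ι.range⁆ ≤ (⁅K, ι.range⁆ : Subgroup Γ).comap (MulAut.conj (ι c)).toMonoidHom := by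
      rw [Subgroup.commutator_le]
      rintro k hk _ ⟨d, rfl⟩
      rw [Subgroup.mem_comap]
      have e : ι c * ⁅k, ι d⁆ * (ι c)⁻¹ = ⁅ι c * k * (ι c)⁻¹, ι c * ι d * (ι c)⁻¹⁆ := by
        simp only [commutatorElement_def]
        group
      show ι c * ⁅k, ι d⁆ * (ι c)⁻¹ ∈ _
      rw [e]
      exact Subgroup.commutator_mem_commutator (hKN c k hk) ⟨c * d * c⁻¹, by rw [map_mul, map_mul, map_inv]⟩
    exact h1 hy
  have hK₁ℱ : ⁅K, ι.range⁆ ∈ ℱ := by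
    refine ⟨hK₁K.trans hKQ, hK₁N, ?_⟩
    by_contra hall
    push Not at hall
    obtain ⟨c, k, hk, hck⟩ := hKne
    apply hck
    have h1 : ⁅k, ι c⁆ = 1 := hfix _ (Subgroup.commutator_mem_commutator hk ⟨c, rfl⟩)
      (fun d => hall d _ (Subgroup.commutator_mem_commutator hk ⟨c, rfl⟩))
    exact (commutatorElement_eq_one_iff_mul_comm.1 h1).symm
  have hKK₁ : K ≤ ⁅K, ι.range⁆ := hmin hK₁ℱ hK₁K
  intro c
  by_cases h : ∀ k ∈ K, ι c * k = k * ι c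
  · exact Or.inl h
  right
  let T : Subgroup Γ := K ⊓ Subgroup.centralizer ({ι c} : Set Γ)
  have hTK : T ≤ K := inf_le_left
  have hTmem : ∀ t, t ∈ T ↔ t ∈ K ∧ ι c * t = t * ι c := by
    intro t
    rw [Subgroup.mem_inf, Subgroup.mem_centralizer_iff]
    constructor
    · rintro ⟨h1, h2⟩
      exact ⟨h1, h2 _ rfl⟩
    · rintro ⟨h1, h2⟩
      refine ⟨h1, ?_⟩
      rintro _ rfl
      exact h2
  have hTN : ∀ d : 𝔸, ∀ t ∈ T, ι d * t * (ι d)⁻¹ ∈ T := by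
    intro d t ht
    rw [hTmem] at ht ⊢
    refine ⟨hKN d t ht.1, ?_⟩
    have hcd : Commute (ι c) (ι d) := by
      show ι c * ι d = ι d * ι c
      rw [← map_mul, ← map_mul, mul_comm]
    have hct : Commute (ι c) t := ht.2
    exact (hcd.mul_right hct).mul_right hcd.inv_right
  have hTnot : ∀ d : 𝔸, ∀ t ∈ T, ι d * t = t * ι d := by
    by_contra hex
    push Not at hex
    have hTℱ : T ∈ ℱ := ⟨hTK.trans hKQ, hTN, hex⟩
    have h1 : K ≤ T := hmin hTℱ hTK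
    exact h fun k hk => ((hTmem k).1 (h1 hk)).2
  intro k hk hck
  exact hfix k (hKK₁ hk) (fun d => hTnot d k ((hTmem k).2 ⟨hk, hck⟩))

end Main

/-- The main theorem, for groups known to be commutative. -/
theorem exists_block_of_action' {Γ V 𝔸 : Type*} [Group Γ] [Group V] [Finite V] [Group 𝔸] [Finite 𝔸]
    (hVc : ∀ u v : V, u * v = v * u) (h𝔸c : ∀ u v : 𝔸, u * v = v * u)
    (hV : ∀ v : V, v ^ p = 1) (h𝔸 : IsPGroup p 𝔸)
    (K : Subgroup Γ) [Finite K] (hKab : ∀ k ∈ K, ∀ k' ∈ K, k * k' = k' * k)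
    (hKc : (Nat.card K).Coprime p) (ι : 𝔸 →* Γ) (hN : ∀ c : 𝔸, ∀ k ∈ K, ι c * k * (ι c)⁻¹ ∈ K)
    (hdich : ∀ c : 𝔸, (∀ k ∈ K, ι c * k = k * ι c) ∨ (∀ k ∈ K, ι c * k = k * ι c → k = 1))
    (hne : ∃ c : 𝔸, ∃ k ∈ K, ι c * k ≠ k * ι c)
    (ρ : Γ →* MulAut V) (hρ : ∃ k ∈ K, ∃ u : V, ρ k u ≠ u) :
    ∃ (𝔸₁ : Subgroup 𝔸) (a : 𝔸) (v₀ : V), 𝔸₁.index = p ∧ a ∉ 𝔸₁ ∧ v₀ ∈ commV K ρ ∧
      (∀ d ∈ 𝔸₁, ρ (ι d) v₀ = v₀) ∧
      (fun b => ρ (ι a) b * b⁻¹)^[p - 1] v₀ ≠ 1 ∧ (fun b => ρ (ι a) b * b⁻¹)^[p] v₀ = 1 := by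
  letI : CommGroup V := { (inferInstance : Group V) with mul_comm := hVc }
  letI : CommGroup 𝔸 := { (inferInstance : Group 𝔸) with mul_comm := h𝔸c }
  exact exists_block_of_action hV h𝔸 K hKab hKc ι hN hdich hne ρ hρ

/-- A minimal subgroup on which an abelian `p`-group acts nontrivially. -/
theorem exists_irred' {Γ 𝔸 : Type*} [Group Γ] [Finite Γ] [Group 𝔸] [Finite 𝔸]
    (h𝔸c : ∀ u v : 𝔸, u * v = v * u) (h𝔸 : IsPGroup p 𝔸)
    (Q : Subgroup Γ) (hQab : ∀ k ∈ Q, ∀ k' ∈ Q, k * k' = k' * k) (hQc : (Nat.card Q).Coprime p)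
    (ι : 𝔸 →* Γ) (hN : ∀ c : 𝔸, ∀ k ∈ Q, ι c * k * (ι c)⁻¹ ∈ Q)
    (hne : ∃ c : 𝔸, ∃ k ∈ Q, ι c * k ≠ k * ι c) :
    ∃ K ≤ Q, (∀ c : 𝔸, ∀ k ∈ K, ι c * k * (ι c)⁻¹ ∈ K) ∧ (∃ c : 𝔸, ∃ k ∈ K, ι c * k ≠ k * ι c) ∧
      ∀ c : 𝔸, (∀ k ∈ K, ι c * k = k * ι c) ∨ (∀ k ∈ K, ι c * k = k * ι c → k = 1) := by
  letI : CommGroup 𝔸 := { (inferInstance : Group 𝔸) with mul_comm := h𝔸c }
  exact exists_irred h𝔸 Q hQab hQc ι hN hne

end Cfsg.Agent.Lib.Transfer.JNorm
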