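import Cfsg.Agent.Lib.Transfer.JCore
import Cfsg.Agent.Lib.Transfer.JNorm

/-!
# `N_G(J(S))` controls normal `p`-complements for `p ≥ 5`

Here `J(S)` is generated by the abelian subgroups of largest order of a Sylow `p`-subgroup.
In a reduced counterexample (`Reduced`), an abelian subgroup of largest order acting nontrivially on the
`p'`-section produces, in a section `B / Y` of class two, a Jordan block of size `p` of an element of
`A`, against `JCore.CoreData.false_of_block`.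
-/

set_option autoImplicit false
set_option linter.unusedSectionVars false
set_option linter.style.haveILetI false

namespace Cfsg.Agent.Lib.Transfer.JMain

open Subgroup Cfsg
open scoped commutatorElement
open Cfsg.Agent.Lib.PLocal.Thompson Cfsg.Agent.Lib.PLocal.ZJ
  Cfsg.Agent.Lib.PLocal.ThompsonReduction Cfsg.Agent.Lib.PLocal.ThompsonInduction
  Cfsg.Agent.Lib.PLocal.ThompsonFunctor Cfsg.Agent.Lib.PLocal.ThompsonComplement
  Cfsg.Agent.Lib.Core.Basic Cfsg.Agent.Lib.PLocal.ConjFamily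
  Cfsg.Agent.Lib.Transfer.JCore Cfsg.Agent.Lib.Transfer.JNorm
open Cfsg.Agent.Lib.Transfer.JCore.CoreData (X X_succ)

universe u

variable {G : Type u} [Group G] [Finite G] {p : ℕ} [Fact p.Prime]
variable {P : Sylow p G} {Q₀ : Subgroup G}

/-- If `J(P)` is not normal, some abelian subgroup of largest order acts nontrivially on the
`p'`-section. -/
lemma exists_noncentral (hr : Reduced p G P Q₀) (hyp : ¬ (jOf 0 (P : Subgroup G)).Normal) :
    ∃ A, IsMaxIn 0 (P : Subgroup G) A ∧ ∃ c ∈ A, ∃ x ∈ Q₀, ⁅c, x⁆ ∉ pCore p G := by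
  by_contra hall
  push Not at hall
  apply hyp
  set O := pCore p G with hO
  set J := jOf 0 (P : Subgroup G) with hJ
  have hOn : O.Normal := inferInstance
  have hOP : O ≤ (P : Subgroup G) := pCore_le_sylow P
  have hJP : J ≤ (P : Subgroup G) := jOf_le 0 _
  have hPJ : (P : Subgroup G) ≤ normalizer (J : Set G) :=
    le_normalizer.trans ((pFunctor_jOf (e := 0) (p := p) (Or.inl rfl)).normalizer_le _ P.isPGroup')
  have hJc : ∀ c ∈ J, ∀ x ∈ Q₀, ⁅c, x⁆ ∈ O := by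
    intro c hc x hx
    have h1 : J ≤ sectionKernel Q₀ O := by
      refine sSup_le ?_
      intro A hA c hc
      rw [mem_sectionKernel_iff]
      exact fun x hx => hall A hA c hc x hx
    exact (mem_sectionKernel_iff.1 (h1 hc)) x hx
  have hCn : (O ⊔ J).Normal := by
    constructor
    intro y hy g
    obtain ⟨x, hx, t, ht, rfl⟩ := exists_mul_of_reduced hr g
    have h1 : t * y * t⁻¹ ∈ O ⊔ J := by
      have h2 : O ⊔ J ≤ (O ⊔ J).comap (MulAut.conj t).toMonoidHom :=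
        sup_le (fun o ho => mem_sup_left (hOn.conj_mem o ho t))
          (fun j hj => mem_sup_right ((mem_normalizer_iff.1 (hPJ ht) j).1 hj))
      exact h2 hy
    have h2 : O ⊔ J ≤ (O ⊔ J).comap (MulAut.conj x).toMonoidHom := by
      refine sup_le (fun o ho => mem_sup_left (hOn.conj_mem o ho x)) ?_
      intro j hj
      rw [mem_comap]
      have e : (MulAut.conj x).toMonoidHom j = ⁅j, x⁆⁻¹ * j := by
        show x * j * x⁻¹ = _
        rw [commutatorElement_def]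
        group
      rw [e]
      exact mul_mem (mem_sup_left (inv_mem (hJc j hj x hx))) (mem_sup_right hj)
    have e : (x * t) * y * (x * t)⁻¹ = x * (t * y * t⁻¹) * x⁻¹ := by group
    rw [e]
    exact h2 h1
  have hCO : O ⊔ J ≤ O := le_pCore hCn (P.isPGroup'.to_le (sup_le hOP hJP))
  have hJO : J ≤ O := le_sup_right.trans hCO
  have h1 : jOf 0 O = J := jOf_eq_of_le hOP hJO
  have h2 := (pFunctor_jOf (e := 0) (p := p) (Or.inl rfl)).normalizer_le O pCore_isPGroup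
  rw [normalizer_eq_top O] at h2
  have h3 : normalizer ((jOf 0 O : Subgroup G) : Set G) = ⊤ := eq_top_iff.2 h2
  rw [h1] at h3
  exact normalizer_eq_top_iff.1 h3

/-- A minimal normal section inside a normal `p`-subgroup. -/
structure Sec (O Y B : Subgroup G) : Prop where
  hYn : Y.Normal
  hBn : B.Normal
  hlt : Y < B
  hBO : B ≤ O
  hmin : ∀ B' : Subgroup G, B'.Normal → Y < B' → B' ≤ B → B ≤ B'

lemma exists_sec {O Y : Subgroup G} (hOn : O.Normal) (hYn : Y.Normal) (hlt : Y < O) :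
    ∃ B, Sec O Y B := by
  classical
  let ℱ : Set (Subgroup G) := {B | B.Normal ∧ Y < B ∧ B ≤ O}
  have hℱ : ℱ.Nonempty := ⟨O, hOn, hlt, le_rfl⟩
  obtain ⟨B, hB⟩ := (Set.toFinite ℱ).exists_minimal hℱ
  obtain ⟨⟨h1, h2, h3⟩, hmin⟩ := hB
  exact ⟨B, hYn, h1, h2, h3, fun B' h4 h5 h6 => hmin ⟨h4, h5, h6.trans h3⟩ h6⟩

namespace Sec

variable {O Y B : Subgroup G}

lemma comm_le (hs : Sec O Y B) (hOn : O.Normal) (hOp : IsPGroup p O) {x q : G} (hx : x ∈ B)
    (hq : q ∈ O) : ⁅x, q⁆ ∈ Y := by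
  haveI := hs.hYn
  haveI := hs.hBn
  haveI := hOn
  obtain ⟨y, hyB, hyY, hyK⟩ := exists_central_mod (p := p) O hOp Y B
    (fun s _ => by rw [normalizer_eq_top B]; exact mem_top s) hs.hBO hs.hlt
  let B' : Subgroup G := B ⊓ sectionKernel O Y
  have hB'n : B'.Normal := by
    haveI := sectionKernel_normal O Y
    exact Subgroup.normal_inf_normal _ _
  have hYB' : Y < B' := by
    refine lt_of_le_of_ne (le_inf hs.hlt.le ?_) ?_
    · intro u hu
      rw [mem_sectionKernel_iff]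
      intro v _
      have e : ⁅u, v⁆ = u * (v * u⁻¹ * v⁻¹) := by
        rw [commutatorElement_def]
        group
      rw [e]
      exact mul_mem hu (hs.hYn.conj_mem _ (inv_mem hu) v)
    · intro h
      apply hyY
      rw [h]
      exact ⟨hyB, hyK⟩
  have h1 := hs.hmin B' hB'n hYB' inf_le_left
  exact (mem_sectionKernel_iff.1 (h1 hx).2) q hq

lemma pow_mem' (hs : Sec O Y B) (hOn : O.Normal) (hOp : IsPGroup p O) {x : G} (hx : x ∈ B) :
    x ^ p ∈ Y := by
  haveI := hs.hYn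
  have hc : ∀ u ∈ B, ∀ v ∈ B, Commute (QuotientGroup.mk u : G ⧸ Y) (QuotientGroup.mk v : G ⧸ Y) := by
    intro u hu v hv
    have h1 := hs.comm_le hOn hOp hu (hs.hBO hv)
    rw [← QuotientGroup.eq_one_iff, commutatorElement_def] at h1
    simp only [QuotientGroup.mk_mul, QuotientGroup.mk_inv] at h1
    have h2 := mul_inv_eq_one.1 h1
    exact mul_inv_eq_iff_eq_mul.1 h2
  let B' : Subgroup G :=
    { carrier := {u | u ∈ B ∧ u ^ p ∈ Y}
      mul_mem' := by
        rintro u v ⟨hu, hu'⟩ ⟨hv, hv'⟩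
        refine ⟨mul_mem hu hv, ?_⟩
        rw [← QuotientGroup.eq_one_iff] at hu' hv' ⊢
        rw [QuotientGroup.mk_pow, QuotientGroup.mk_mul, (hc u hu v hv).mul_pow,
          ← QuotientGroup.mk_pow, ← QuotientGroup.mk_pow, hu', hv', one_mul]
      one_mem' := ⟨one_mem _, by rw [one_pow]; exact one_mem _⟩
      inv_mem' := by
        rintro u ⟨hu, hu'⟩
        exact ⟨inv_mem hu, by rw [inv_pow]; exact inv_mem hu'⟩ }
  have hB'n : B'.Normal := by
    constructor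
    rintro u ⟨hu, hu'⟩ g
    refine ⟨hs.hBn.conj_mem u hu g, ?_⟩
    rw [conj_pow]
    exact hs.hYn.conj_mem _ hu' g
  have hYB' : Y < B' := by
    obtain ⟨y₀, hy₀, hy₀Y⟩ := SetLike.exists_of_lt hs.hlt
    refine lt_of_le_of_ne (fun u hu => ⟨hs.hlt.le hu, pow_mem hu p⟩) ?_
    intro h
    obtain ⟨k, hk⟩ := hOp ⟨y₀, hs.hBO hy₀⟩
    have hk1 : ∃ k, y₀ ^ p ^ k ∈ Y := ⟨k, by
      have : y₀ ^ p ^ k = 1 := congrArg Subtype.val hk
      rw [this]
      exact one_mem _⟩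
    classical
    have hf := Nat.find_spec hk1
    have hf0 : Nat.find hk1 ≠ 0 := by
      intro h0
      rw [h0, pow_zero, pow_one] at hf
      exact hy₀Y hf
    obtain ⟨l, hl⟩ := Nat.exists_eq_succ_of_ne_zero hf0
    have hnot : ¬ y₀ ^ p ^ l ∈ Y := Nat.find_min hk1 (by omega)
    apply hnot
    rw [h]
    refine ⟨pow_mem hy₀ _, ?_⟩
    rw [hl, Nat.succ_eq_add_one, pow_succ, pow_mul] at hf
    exact hf
  exact (hs.hmin B' hB'n hYB' (fun u hu => hu.1) hx).2

end Sec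

/-- The elements of a `p'`-subgroup acting trivially on a section centralized by them act trivially. -/
lemma comm_eq_one_of_section {O Y : Subgroup G} (hYn : Y.Normal) (hOp : IsPGroup p O) (hYO : Y ≤ O)
    {g x : G} (hg : (orderOf g).Coprime p) (hY : ∀ y ∈ Y, g * y = y * g) (hgx : ⁅g, x⁆ ∈ Y) :
    g * x = x * g := by
  set r : G := x⁻¹ * ⁅g, x⁆ * x with hr
  have hrY : r ∈ Y := by
    have := hYn.conj_mem _ hgx x⁻¹
    simpa [hr] using this
  have h1 : g * x * g⁻¹ = x * r := by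
    rw [hr, commutatorElement_def]
    group
  have h2 : g * r * g⁻¹ = r := by
    rw [hY r hrY, mul_inv_cancel_right]
  have h3 := conj_pow_eq h1 h2 (orderOf g)
  rw [pow_orderOf_eq_one, one_mul, inv_one, mul_one] at h3
  have h4 : r ^ orderOf g = 1 := by
    have h5 : x * r ^ orderOf g = x * 1 := by rw [← h3, mul_one]
    exact mul_left_cancel h5
  obtain ⟨k, hk⟩ := hOp ⟨r, hYO hrY⟩
  have h5 : r ^ p ^ k = 1 := congrArg Subtype.val hk
  have h6 : orderOf r = 1 := Nat.eq_one_of_dvd_coprimes (hg.pow_right k)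
    (orderOf_dvd_of_pow_eq_one h4) (orderOf_dvd_of_pow_eq_one h5)
  rw [orderOf_eq_one_iff] at h6
  rw [h6, mul_one] at h1
  exact mul_inv_eq_iff_eq_mul.1 h1

/-- The subgroup `B_c` in the application of the bound. -/
def Bc (B₁ A₁ Y : Subgroup G) [hY : Y.Normal] : Subgroup G where
  carrier := {y | y ∈ B₁ ∧ ∀ d ∈ A₁, ⁅d, y⁆ ∈ Y}
  mul_mem' := by
    rintro u v ⟨hu, hu'⟩ ⟨hv, hv'⟩
    refine ⟨mul_mem hu hv, fun d hd => ?_⟩
    have e : ⁅d, u * v⁆ = ⁅d, u⁆ * (u * ⁅d, v⁆ * u⁻¹) := by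
      simp only [commutatorElement_def]
      group
    rw [e]
    exact mul_mem (hu' d hd) (hY.conj_mem _ (hv' d hd) u)
  one_mem' := ⟨one_mem _, fun d _ => by simp⟩
  inv_mem' := by
    rintro u ⟨hu, hu'⟩
    refine ⟨inv_mem hu, fun d hd => ?_⟩
    have e : ⁅d, u⁻¹⁆ = u⁻¹ * ⁅d, u⁆⁻¹ * u := by
      simp only [commutatorElement_def]
      group
    rw [e]
    have := hY.conj_mem _ (inv_mem (hu' d hd)) u⁻¹
    simpa using this

/-- The final application of the bound. -/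
lemma false_of_section (hodd : p ≠ 2) (hp5 : 5 ≤ p) {S A A₁ B₁ B Y : Subgroup G} {a x₀ : G}
    (hS : IsPGroup p S) (hA : IsMaxIn 0 S A) (hA₁ : A₁ ≤ A) (ha : a ∈ A)
    (hcard : Nat.card A = p * Nat.card A₁) (hYn : Y.Normal) (hB₁n : B₁.Normal) (hB₁B : B₁ ≤ B)
    (hBS : B ≤ S) (hBB : ∀ x ∈ B, ∀ x' ∈ B, ⁅x, x'⁆ ∈ Y) (hYB₁ : ∀ y ∈ Y, ∀ x ∈ B₁, y * x = x * y)
    (hx₀ : x₀ ∈ B₁) (hfix : ∀ d ∈ A₁, ⁅d, x₀⁆ ∈ Y) (h1 : X a x₀ (p - 1) ∉ Y) (h2 : X a x₀ p ∈ Y) :
    False := by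
  haveI := hYn
  set Bc' : Subgroup G := Bc B₁ A₁ Y with hBc'
  set Yc : Subgroup G := Y ⊓ B₁ with hYc
  have hYcBc : Yc ≤ Bc' := by
    rintro y ⟨hy, hy'⟩
    refine ⟨hy', fun d _ => ?_⟩
    have e : ⁅d, y⁆ = (d * y * d⁻¹) * y⁻¹ := commutatorElement_def _ _
    rw [e]
    exact mul_mem (hYn.conj_mem _ hy d) (inv_mem hy)
  have hBcB₁ : Bc' ≤ B₁ := fun y hy => hy.1
  have hdata : CoreData p S A A₁ Bc' Yc a := by
    refine ⟨hS, hA, hA₁, ha, hcard, hBcB₁.trans (hB₁B.trans hBS), hYcBc, ?_, ?_, ?_, ?_, ?_⟩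
    · rintro y ⟨hy, hy'⟩
      refine ⟨hB₁n.conj_mem y hy a, fun d hd => ?_⟩
      have hcd : d * a = a * d := hA.2.1.comm (hA₁ hd) ha
      have e : ⁅d, a * y * a⁻¹⁆ = a * ⁅d, y⁆ * a⁻¹ := by
        simp only [commutatorElement_def]
        have e1 : d * (a * y * a⁻¹) * d⁻¹ * (a * y * a⁻¹)⁻¹ =
            (d * a) * y * (a⁻¹ * d⁻¹) * (a * y⁻¹ * a⁻¹) := by group
        have e2 : a⁻¹ * d⁻¹ = (d * a)⁻¹ := by group
        rw [e1, hcd, e2, hcd]
        group
      rw [e]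
      exact hYn.conj_mem _ (hy' d hd) a
    · rintro y ⟨hy, hy'⟩
      exact ⟨hYn.conj_mem y hy a, hB₁n.conj_mem y hy' a⟩
    · rintro y ⟨hy, _⟩ x hx
      exact hYB₁ y hy x hx.1
    · rintro u hu v hv
      have hu' : u ∈ B₁ := hBcB₁ hu
      have hv' : v ∈ B₁ := hBcB₁ hv
      refine ⟨hBB u (hB₁B hu') v (hB₁B hv'), ?_⟩
      have e : ⁅u, v⁆ = u * (v * u⁻¹ * v⁻¹) := by
        rw [commutatorElement_def]
        group
      rw [e]
      exact mul_mem hu' (hB₁n.conj_mem _ (inv_mem hu') v)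
    · rintro d hd y hy
      have hy' : y ∈ B₁ := hBcB₁ hy
      refine Subgroup.mem_inf.2 ⟨hy.2 d hd, ?_⟩
      have e : ⁅d, y⁆ = (d * y * d⁻¹) * y⁻¹ := commutatorElement_def _ _
      rw [e]
      exact mul_mem (hB₁n.conj_mem _ hy' d) (inv_mem hy')
  have hx₀c : x₀ ∈ Bc' := ⟨hx₀, hfix⟩
  have hXmem : ∀ n, X a x₀ n ∈ Bc' := fun n => hdata.X_mem hx₀c n
  have hadd : ∀ m n : ℕ, X a (X a x₀ n) m = X a x₀ (m + n) := fun m n =>
    (Function.iterate_add_apply _ m n x₀).symm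
  refine hdata.false_of_block hodd (x := X a x₀ (p - 5)) (hXmem _) ?_ ?_
  · rw [hadd]
    have e : 4 + (p - 5) = p - 1 := by omega
    rw [e]
    exact fun h => h1 h.1
  · rw [hadd]
    have e : 5 + (p - 5) = p := by omega
    rw [e]
    exact ⟨h2, hBcB₁ (hXmem p)⟩

/-- A reduced group has `J(P)` normal for `p ≥ 5`. -/
theorem normal_of_reduced (hp5 : 5 ≤ p) (hr : Reduced p G P Q₀) : (jOf 0 (P : Subgroup G)).Normal := by
  classical
  by_contra hJ
  have hodd : p ≠ 2 := by omega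
  have hpp : p.Prime := Fact.out
  obtain ⟨A, hA, c₀, hc₀, x₀, hx₀, hcx⟩ := exists_noncentral hr hJ
  set O := pCore p G with hOdef
  have hOn : O.Normal := inferInstance
  have hOp : IsPGroup p O := pCore_isPGroup
  have hOP : O ≤ (P : Subgroup G) := pCore_le_sylow P
  let f : G →* G ⧸ O := QuotientGroup.mk' O
  have hf1 : ∀ g : G, f g = 1 ↔ g ∈ O := fun g => QuotientGroup.eq_one_iff g
  have hfc : ∀ g h : G, f g * f h = f h * f g ↔ ⁅g, h⁆ ∈ O := by
    intro g h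
    rw [← hf1, commutatorElement_def, map_mul, map_mul, map_mul, map_inv, map_inv]
    constructor
    · intro e
      rw [e]
      group
    · intro e
      have h2 := mul_inv_eq_one.1 e
      exact mul_inv_eq_iff_eq_mul.1 h2
  have hAcomm : ∀ u v : A, u * v = v * u := fun u v => Subtype.ext (hA.2.1.comm u.2 v.2)
  have hAp : IsPGroup p A := P.isPGroup'.to_le hA.1
  let ι : A →* G ⧸ O := f.comp A.subtype
  have hι : ∀ c : A, ι c = f (c : G) := fun _ => rfl
  -- the image of `Q₀`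
  have hQc : (Nat.card (Q₀.map f)).Coprime p :=
    Nat.Coprime.coprime_dvd_left (Subgroup.card_map_dvd Q₀ f) hr.coprime
  have hQN : ∀ c : A, ∀ k ∈ Q₀.map f, ι c * k * (ι c)⁻¹ ∈ Q₀.map f := by
    rintro c _ ⟨x, hx, rfl⟩
    have h1 : (c : G) * x * (c : G)⁻¹ ∈ O ⊔ Q₀ := hr.normal.conj_mem x (mem_sup_right hx) _
    obtain ⟨o, ho, y, hy, e⟩ := mem_sup_of_normal_left.1 h1
    refine ⟨y, hy, ?_⟩
    rw [hι, ← map_inv, ← map_mul, ← map_mul, ← e, map_mul, (hf1 o).2 ho, one_mul]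
  obtain ⟨Kb, hKbQ, hKbN, hKbne, hdich⟩ := exists_irred' (p := p) hAcomm hAp (Q₀.map f)
    (by
      rintro _ ⟨x, hx, rfl⟩ _ ⟨y, hy, rfl⟩
      rw [← map_mul, ← map_mul, hr.comm x hx y hy])
    hQc ι hQN ⟨⟨c₀, hc₀⟩, f x₀, ⟨x₀, hx₀, rfl⟩, fun h => hcx ((hfc _ _).1 h)⟩
  -- the lifts
  let K : Subgroup G := Q₀ ⊓ Kb.comap f
  have hKQ : K ≤ Q₀ := inf_le_left
  have hKlift : ∀ k ∈ Kb, ∃ g ∈ K, f g = k := by
    intro k hk
    obtain ⟨x, hx, rfl⟩ := hKbQ hk
    exact ⟨x, ⟨hx, hk⟩, rfl⟩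
  have hKord : ∀ g ∈ K, (orderOf g).Coprime p := fun g hg =>
    Nat.Coprime.coprime_dvd_left (Subgroup.orderOf_dvd_natCard Q₀ (hKQ hg)) hr.coprime
  -- the subgroups
  let L : Subgroup G := normalClosure (K : Set G)
  have hLn : L.Normal := normalClosure_normal
  have hKL : K ≤ L := subset_normalClosure
  let Y : Subgroup G := O ⊓ centralizer (L : Set G)
  have hYn : Y.Normal := by
    haveI : (centralizer (L : Set G)).Normal := normal_centralizer
    exact Subgroup.normal_inf_normal _ _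
  have hYO : Y ≤ O := inf_le_left
  have hYL : ∀ y ∈ Y, ∀ l ∈ L, l * y = y * l := fun y hy l hl =>
    mem_centralizer_iff.1 (Subgroup.mem_inf.1 hy).2 l hl
  have hYlt : Y < O := by
    refine lt_of_le_of_ne hYO ?_
    intro e
    obtain ⟨c, k, hk, hck⟩ := hKbne
    obtain ⟨g, hg, rfl⟩ := hKlift k hk
    have h1 : g ∈ O := by
      apply hr.constr
      rw [mem_centralizer_iff]
      intro o ho
      have ho' : o ∈ Y := by rw [e]; exact ho
      exact (hYL o ho' g (hKL hg)).symm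
    apply hck
    rw [(hf1 g).2 h1, mul_one, one_mul]
  obtain ⟨B, hs⟩ := exists_sec hOn hYn hYlt
  haveI := hYn
  haveI hBn := hs.hBn
  -- the action on `B / Y` is nontrivial
  have hnt : ∃ g ∈ K, ∃ x ∈ B, ⁅g, x⁆ ∉ Y := by
    by_contra hall
    push Not at hall
    have h1 : ∀ g ∈ K, ∀ x ∈ B, g * x = x * g := fun g hg x hx =>
      comm_eq_one_of_section hYn hOp hYO (hKord g hg)
        (fun y hy => (hYL y hy g (hKL hg))) (hall g hg x hx)
    have h2 : L ≤ centralizer (B : Set G) := by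
      haveI : (centralizer (B : Set G)).Normal := normal_centralizer
      refine normalClosure_le_normal ?_
      intro g hg
      rw [SetLike.mem_coe, mem_centralizer_iff]
      intro x hx
      exact (h1 g hg x hx).symm
    have h3 : B ≤ Y := by
      intro x hx
      refine Subgroup.mem_inf.2 ⟨hs.hBO hx, ?_⟩
      rw [mem_centralizer_iff]
      intro l hl
      exact (mem_centralizer_iff.1 (h2 hl) x hx).symm
    exact absurd hs.hlt (not_lt_of_ge h3)
  -- the group `V = B / Y`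
  let πY : G →* G ⧸ Y := QuotientGroup.mk' Y
  have hπ1 : ∀ g : G, πY g = 1 ↔ g ∈ Y := fun g => QuotientGroup.eq_one_iff g
  have hπc : ∀ g h : G, πY g * πY h = πY h * πY g ↔ ⁅g, h⁆ ∈ Y := by
    intro g h
    rw [← hπ1, commutatorElement_def, map_mul, map_mul, map_mul, map_inv, map_inv]
    constructor
    · intro e
      rw [e]
      group
    · intro e
      have h2 := mul_inv_eq_one.1 e
      exact mul_inv_eq_iff_eq_mul.1 h2
  have hBcomm : ∀ x ∈ B, ∀ q ∈ O, πY x * πY q = πY q * πY x := fun x hx q hq =>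
    (hπc x q).2 (hs.comm_le hOn hOp hx hq)
  let V : Subgroup (G ⧸ Y) := B.map πY
  haveI hVn : V.Normal := Subgroup.Normal.map hBn _ (QuotientGroup.mk'_surjective Y)
  have hVc : ∀ u v : V, u * v = v * u := by
    rintro ⟨_, x, hx, rfl⟩ ⟨_, y, hy, rfl⟩
    apply Subtype.ext
    exact hBcomm x hx y (hs.hBO hy)
  have hVp : ∀ v : V, v ^ p = 1 := by
    rintro ⟨_, x, hx, rfl⟩
    apply Subtype.ext
    show (πY x) ^ p = 1
    rw [← map_pow, hπ1]
    exact hs.pow_mem' hOn hOp hx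
  let ρ₀ : G →* MulAut V := (MulAut.conjNormal (H := V)).comp πY
  have hρ₀ : ∀ (g : G) (v : V), ((ρ₀ g v : V) : G ⧸ Y) = πY g * v * (πY g)⁻¹ := fun g v =>
    MulAut.conjNormal_apply _ _
  have hρO : O ≤ ρ₀.ker := by
    intro q hq
    rw [MonoidHom.mem_ker]
    ext v
    obtain ⟨_, x, hx, rfl⟩ := v
    rw [hρ₀, ← hBcomm x hx q hq, mul_inv_cancel_right]
    rfl
  let ρ : G ⧸ O →* MulAut V := QuotientGroup.lift O ρ₀ hρO
  have hρ : ∀ g : G, ρ (f g) = ρ₀ g := fun _ => rfl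
  have hρne : ∃ k ∈ Kb, ∃ u : V, ρ k u ≠ u := by
    obtain ⟨g, hg, x, hx, hgx⟩ := hnt
    refine ⟨f g, hg.2, ⟨πY x, x, hx, rfl⟩, fun e => hgx ?_⟩
    have e1 := congrArg Subtype.val e
    rw [hρ, hρ₀] at e1
    exact (hπc g x).1 (mul_inv_eq_iff_eq_mul.1 e1)
  have hKbc : (Nat.card Kb).Coprime p :=
    Nat.Coprime.coprime_dvd_left (Subgroup.card_dvd_of_le hKbQ) hQc
  have hKbab : ∀ k ∈ Kb, ∀ k' ∈ Kb, k * k' = k' * k := by
    intro k hk k' hk'
    obtain ⟨x, hx, rfl⟩ := hKbQ hk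
    obtain ⟨y, hy, rfl⟩ := hKbQ hk'
    rw [← map_mul, ← map_mul, hr.comm x hx y hy]
  obtain ⟨𝔸₁, a, v₀, hi, ha, hv₀, hfix, h1, h2⟩ := exists_block_of_action' (p := p) hVc hAcomm hVp hAp
    Kb hKbab hKbc ι hKbN hdich hKbne ρ hρne
  -- the subgroup `B₁`
  let B₁ : Subgroup G := ⁅L, B⁆
  have hB₁n : B₁.Normal := Subgroup.commutator_normal L B
  have hB₁B : B₁ ≤ B := Subgroup.commutator_le_right L B
  have hYL' : ⁅Y, L⁆ = ⊥ := by
    rw [eq_bot_iff, Subgroup.commutator_le]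
    intro y hy l hl
    rw [mem_bot, commutatorElement_eq_one_iff_mul_comm]
    exact (hYL y hy l hl).symm
  have h3 : ⁅⁅L, B⁆, Y⁆ = ⊥ := by
    refine Subgroup.commutator_commutator_eq_bot_of_rotate ?_ ?_
    · rw [eq_bot_iff, ← hYL']
      exact Subgroup.commutator_mono (Subgroup.commutator_le_right B Y) le_rfl
    · rw [hYL', Subgroup.commutator_bot_left]
  have hYB₁ : ∀ y ∈ Y, ∀ x ∈ B₁, y * x = x * y := by
    intro y hy x hx
    have h4 : ⁅x, y⁆ ∈ ⁅⁅L, B⁆, Y⁆ := Subgroup.commutator_mem_commutator hx hy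
    rw [h3, mem_bot, commutatorElement_eq_one_iff_mul_comm] at h4
    exact h4.symm
  -- lifting
  have hlift : ∀ v ∈ commV Kb ρ, ∃ x ∈ B₁, πY x = (v : G ⧸ Y) := by
    intro v hv
    induction hv using Subgroup.closure_induction with
    | mem v hv =>
      obtain ⟨k, hk, u, rfl⟩ := hv
      obtain ⟨g, hg, rfl⟩ := hKlift k hk
      obtain ⟨_, x, hx, rfl⟩ := u
      refine ⟨⁅g, x⁆, Subgroup.commutator_mem_commutator (hKL hg) hx, ?_⟩
      show _ = ((ρ₀ g _ : V) : G ⧸ Y) * _⁻¹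
      rw [hρ₀, commutatorElement_def, map_mul, map_mul, map_mul, map_inv, map_inv]
    | one => exact ⟨1, one_mem _, map_one _⟩
    | mul u v _ _ hu hv =>
      obtain ⟨x, hx, ex⟩ := hu
      obtain ⟨y, hy, ey⟩ := hv
      exact ⟨x * y, mul_mem hx hy, by rw [map_mul, ex, ey]; rfl⟩
    | inv u _ hu =>
      obtain ⟨x, hx, ex⟩ := hu
      exact ⟨x⁻¹, inv_mem hx, by rw [map_inv, ex]; rfl⟩
  obtain ⟨x₁, hx₁, hx₁v⟩ := hlift v₀ hv₀
  set a' : G := (a : G) with ha'
  have hXv : ∀ n : ℕ, (((fun b => ρ (ι a) b * b⁻¹)^[n] v₀ : V) : G ⧸ Y) = πY (X a' x₁ n) := by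
    intro n
    induction n with
    | zero => exact hx₁v.symm
    | succ n ih =>
      rw [Function.iterate_succ_apply', X_succ]
      show ((ρ₀ a' _ : V) : G ⧸ Y) * ((_ : V) : G ⧸ Y)⁻¹ = _
      rw [hρ₀, ih, commutatorElement_def, map_mul, map_mul, map_mul, map_inv, map_inv]
  have h1' : X a' x₁ (p - 1) ∉ Y := by
    intro h
    apply h1
    apply Subtype.ext
    rw [hXv, (hπ1 _).2 h]
    rfl
  have h2' : X a' x₁ p ∈ Y := by
    rw [← hπ1, ← hXv, h2]
    rfl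
  let A₁ : Subgroup G := 𝔸₁.map A.subtype
  have hA₁ : A₁ ≤ A := Subgroup.map_subtype_le _
  have hcard : Nat.card A = p * Nat.card A₁ := by
    have h4 : Nat.card A₁ = Nat.card 𝔸₁ := Subgroup.card_map_of_injective A.subtype_injective
    rw [h4, ← Subgroup.card_mul_index 𝔸₁, hi, mul_comm]
  have hfix' : ∀ d ∈ A₁, ⁅d, x₁⁆ ∈ Y := by
    rintro _ ⟨d, hd, rfl⟩
    have e1 := congrArg Subtype.val (hfix d hd)
    have e2 : ((ρ₀ (d : G) v₀ : V) : G ⧸ Y) = v₀ := e1
    rw [hρ₀, ← hx₁v] at e2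
    exact (hπc _ _).1 (mul_inv_eq_iff_eq_mul.1 e2)
  exact false_of_section hodd hp5 P.isPGroup' hA hA₁ a.2 hcard hYn hB₁n hB₁B
    ((hs.hBO).trans hOP) (fun x hx x' hx' => hs.comm_le hOn hOp hx (hs.hBO hx')) hYB₁ hx₁ hfix' h1' h2'

/-- The Glauberman--Thompson theorem for `N_G(J(P))`, `J(P)` generated by the abelian subgroups of
largest order, `p ≥ 5`. -/
theorem pc_of_normalizer_j (hp5 : 5 ≤ p) (P : Sylow p G)
    (h : HasNormalPComplement p (normalizer (jOf 0 (P : Subgroup G) : Set G))) :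
    HasNormalPComplement p G := by
  refine reduction (thompsonHyp (pFunctor_jOf (e := 0) (Or.inl rfl)) lFunctor_normalizer) ?_ _ G P rfl h
  intro G _ _ P Q₀ hyp hr
  change HasNormalPComplement p (normalizer (jOf 0 (P : Subgroup G) : Set G)) at hyp
  haveI := normal_of_reduced hp5 hr
  rw [normalizer_eq_top (jOf 0 (P : Subgroup G))] at hyp
  exact hr.not_pc_top hyp

end Cfsg.Agent.Lib.Transfer.JMain
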