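import Cfsg.Agent.Lib.Transfer.Cor4
import Cfsg.Agent.Lib.PGroups.Critical
import Cfsg.Prelude.Def_PLocal
import Cfsg.Prelude.Def_CaseTheorems

/-!
# Automorphisms fixing elements of small order; Itô type theorems

* `eq_one_of_fixes_four`: a `2'`-automorphism of a `2`-group fixing all elements with `x ^ 4 = 1` is
  trivial.
* `fixes_of_fixes_small`: the corresponding statement for elements acting on `p`-subgroups.
* `S1947`, `S1946`, `S4126`: applications.
-/

set_option autoImplicit false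

namespace Cfsg.Agent.Lib.Transfer.Omega

open Cfsg Cfsg.Agent.Lib.Transfer.Basic Cfsg.Agent.Lib.Transfer.Frobenius
  Cfsg.Agent.Lib.Transfer.Cor3 Cfsg.Agent.Lib.Transfer.Cor4
  Cfsg.Agent.Lib.PGroups.Critical Cfsg.Agent.Lib.PGroups.ClassTwo
open Subgroup
open scoped Pointwise commutatorElement IsMulCommutative

universe u v

/-- For `p = 2`: a `2'`-automorphism of a `2`-group fixing all elements with `x ^ 4 = 1` is trivial. -/
theorem eq_one_of_fixes_four {G : Type u} [Group G] [Finite G] [hp : Fact (Nat.Prime 2)]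
    (hG : IsPGroup 2 G) (a : MulAut G) (ha : Nat.Coprime (orderOf a) 2)
    (h : ∀ x : G, x ^ 4 = 1 → a x = x) : a = 1 := by
  obtain ⟨H, hchar, hfrat, hcomm, hC⟩ := exists_critical hG
  refine eq_one_of_fixes_critical hG H hcomm hC a ha ?_
  have haH : ∀ x ∈ H, a x ∈ H := fun x hx =>
    (characteristic_iff_le_comap.mp hchar a) hx
  have ha4 : Nat.Coprime (orderOf a) 4 := by
    have : (4 : ℕ) = 2 ^ 2 := by norm_num
    rw [this]
    exact Nat.Coprime.pow_right 2 ha
  have key : ∀ k : ℕ, ∀ x ∈ H, x ^ 2 ^ k = 1 → a x = x := by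
    intro k
    induction k with
    | zero =>
      intro x _ hx
      simp only [pow_zero, pow_one] at hx
      rw [hx, map_one]
    | succ k ih =>
      intro x hx hxk
      have h1 : a (x ^ 2) = x ^ 2 := by
        apply ih _ (H.pow_mem hx 2)
        rw [← pow_mul, ← pow_succ']
        exact hxk
      set b := a x with hb
      have hbH : b ∈ H := haH x hx
      have hsq : b ^ 2 = x ^ 2 := by rw [hb, ← map_pow, h1]
      set t := x⁻¹ * b with ht
      -- the commutator `c`
      set c := ⁅x⁻¹, b⁆ with hc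
      have hcC := comm_mem_of_frat hG hfrat (H.inv_mem hx) hbH
      have hcb : Commute c b := ((mem_centralizer_iff.mp hcC.2) b hbH).symm
      have hc2 : c ^ 2 = 1 := by
        rw [hc, ← comm_pow_right_of_comm hcb, commutatorElement_eq_one_iff_mul_comm]
        exact ((mem_centralizer_iff.mp (pow_mem_of_frat hG hfrat hbH).2) _ (H.inv_mem hx))
      have hts : t ^ 2 = c := by
        have h3 : x⁻¹ * x⁻¹ = b⁻¹ * b⁻¹ := by
          have h4 : b * b = x * x := by simpa [pow_two] using hsq
          rw [← mul_inv_rev, ← mul_inv_rev, h4]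
        have h5 : c = x⁻¹ * b * x * b⁻¹ := by
          rw [hc, commutatorElement_def, inv_inv]
        rw [pow_two, ht, h5]
        calc x⁻¹ * b * (x⁻¹ * b) = x⁻¹ * b * x * (x⁻¹ * x⁻¹) * b := by group
          _ = x⁻¹ * b * x * (b⁻¹ * b⁻¹) * b := by rw [h3]
          _ = x⁻¹ * b * x * b⁻¹ := by group
      have ht4 : t ^ 4 = 1 := by
        have : t ^ 4 = (t ^ 2) ^ 2 := by rw [← pow_mul]
        rw [this, hts, hc2]
      have hat : a t = t := h t ht4
      have hax : a x = x * t := by rw [ht, ← hb]; group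
      have h2 := pow_apply_of_fixed a hat hax 4
      rw [ht4, mul_one] at h2
      exact fixed_of_pow_fixed a ha4 h2
  intro x hx
  obtain ⟨k, hk⟩ := hG x
  exact key k x hx hk

variable {G : Type u} [Group G] [Finite G] {p : ℕ} [hp : Fact p.Prime]

omit [Finite G] hp in
/-- An iteration identity: if `y` fixes `t` and `y x y⁻¹ = x t` then `y^m x y^{-m} = x t^m`. -/
theorem conj_pow_of_fixed (y x t : G) (hyt : y * t * y⁻¹ = t) (hyx : y * x * y⁻¹ = x * t) (m : ℕ) :
    y ^ m * x * (y ^ m)⁻¹ = x * t ^ m := by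
  induction m with
  | zero => simp
  | succ m ih =>
    have hyt' : y * t = t * y := by
      calc y * t = y * t * y⁻¹ * y := by group
        _ = t * y := by rw [hyt]
    have h1 : y ^ m * t = t * y ^ m := ((show Commute y t from hyt').pow_left m).eq
    calc y ^ (m + 1) * x * (y ^ (m + 1))⁻¹ = y ^ m * (y * x * y⁻¹) * (y ^ m)⁻¹ := by
          rw [pow_succ]; group
      _ = y ^ m * (x * t) * (y ^ m)⁻¹ := by rw [hyx]
      _ = (y ^ m * x * (y ^ m)⁻¹) * (y ^ m * t * (y ^ m)⁻¹) := by group
      _ = x * t ^ m * t := by rw [ih, h1]; group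
      _ = x * t ^ (m + 1) := by rw [pow_succ]; group

omit [Finite G] hp in
/-- If `y` has order prime to `p`, `t` has `p`-power order, `y` fixes `t` and `y x y⁻¹ = x t` then
`t = 1`. -/
theorem eq_one_of_fixed_commutator {y x t : G} (hy : Nat.Coprime (orderOf y) p)
    (ht : ∃ k : ℕ, t ^ p ^ k = 1) (hyt : y * t * y⁻¹ = t) (hyx : y * x * y⁻¹ = x * t) : t = 1 := by
  have h1 := conj_pow_of_fixed y x t hyt hyx (orderOf y)
  rw [pow_orderOf_eq_one] at h1
  simp only [one_mul, inv_one, mul_one] at h1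
  have h2 : t ^ orderOf y = 1 := by
    have : x * t ^ orderOf y = x * 1 := by rw [mul_one]; exact h1.symm
    exact mul_left_cancel this
  obtain ⟨k, hk⟩ := ht
  have h3 : t ^ Nat.gcd (orderOf y) (p ^ k) = 1 := pow_gcd_eq_one.mpr ⟨h2, hk⟩
  rw [Nat.Coprime.pow_right k hy] at h3
  simpa using h3

/-- Elements acting on a `p`-subgroup and fixing its elements of small order act trivially. -/
theorem fixes_of_fixes_small (D : Subgroup G) (hD : IsPGroup p D) (y : G)
    (hy : ∀ x ∈ D, y * x * y⁻¹ ∈ D) (hyo : Nat.Coprime (orderOf y) p)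
    (h : ∀ x ∈ D, (x ^ p = 1 ∨ (p = 2 ∧ x ^ 4 = 1)) → y * x * y⁻¹ = x) :
    ∀ x ∈ D, y * x * y⁻¹ = x := by
  have hyN : y ∈ normalizer (D : Set G) := mem_normalizer_of_conj_mem hy
  set a : MulAut D := D.normalizerMonoidHom ⟨y, hyN⟩ with ha
  have happly : ∀ x : D, ((a x : D) : G) = y * x * y⁻¹ := fun x => rfl
  have hao : Nat.Coprime (orderOf a) p := by
    have h1 : orderOf a ∣ orderOf (⟨y, hyN⟩ : normalizer (D : Set G)) := orderOf_map_dvd _ _
    rw [Subgroup.orderOf_mk] at h1
    exact Nat.Coprime.coprime_dvd_left h1 hyo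
  have h1 : a = 1 := by
    by_cases hp2 : p = 2
    · subst hp2
      apply eq_one_of_fixes_four hD a hao
      intro x hx
      apply Subtype.ext
      rw [happly]
      exact h x x.2 (Or.inr ⟨rfl, by simpa using congrArg Subtype.val hx⟩)
    · apply eq_one_of_fixes_omega hp2 hD a hao
      intro x hx
      apply Subtype.ext
      rw [happly]
      exact h x x.2 (Or.inl (by simpa using congrArg Subtype.val hx))
  intro x hx
  have h2 := happly ⟨x, hx⟩
  rw [h1] at h2
  exact h2.symm

/-- `S1947`: the elements of small order lie in the hypercentre. -/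
theorem hasNormalPComplement_of_small_mem_upperCentralSeries (n : ℕ)
    (h : ∀ a : G, (a ^ p = 1 ∨ (p = 2 ∧ a ^ 4 = 1)) → a ∈ Subgroup.upperCentralSeries G n) :
    HasNormalPComplement p G := by
  apply hasNormalPComplement_of_frobeniusCond
  intro D hD g hg hco
  have hgD : ∀ x ∈ D, g * x * g⁻¹ ∈ D := fun x hx => (Frobenius.mem_normalizer_iff'.mp hg x).mp hx
  -- elements of the hypercentre in `D` are fixed
  have key : ∀ m : ℕ, ∀ x ∈ D, x ∈ Subgroup.upperCentralSeries G m → g * x * g⁻¹ = x := by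
    intro m
    induction m with
    | zero =>
      intro x _ hx
      have : x = 1 := hx
      subst this
      simp
    | succ m ih =>
      intro x hxD hxZ
      set t := x⁻¹ * (g * x * g⁻¹) with ht
      have htD : t ∈ D := D.mul_mem (D.inv_mem hxD) (hgD x hxD)
      have htZ : t ∈ Subgroup.upperCentralSeries G m := by
        have h1 := Subgroup.mem_upperCentralSeries_succ_iff.mp (Subgroup.inv_mem _ hxZ) g
        have h2 : ⁅x⁻¹, g⁆ = t := by rw [ht, commutatorElement_def]; group
        rwa [h2] at h1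
      have hfix := ih t htD htZ
      have hk : ∃ k : ℕ, t ^ p ^ k = 1 := by
        obtain ⟨k, hk⟩ := hD ⟨t, htD⟩
        exact ⟨k, congrArg Subtype.val hk⟩
      have h4 : g * x * g⁻¹ = x * t := by rw [ht]; group
      have h3 : t = 1 := eq_one_of_fixed_commutator hco hk hfix h4
      rw [h4, h3, mul_one]
  refine Frobenius.mem_centralizer_iff'.mpr ?_
  intro x hx
  exact fixes_of_fixes_small D hD g hgD hco
    (fun z hz hs => key n z hz (h z hs)) x hx

/-- A `p`-nilpotent group: its Sylow subgroups control fusion. -/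
theorem controls_of_hasNormalPComplement (P : Sylow p G) (h : HasNormalPComplement p G)
    {a : G} (ha : a ∈ (P : Subgroup G)) (g : G) (hg : g * a * g⁻¹ ∈ (P : Subgroup G)) :
    ∃ x ∈ (P : Subgroup G), g * a * g⁻¹ = x * a * x⁻¹ := by
  have hc := isComplement'_pResidual h P
  have hg' : g ∈ pResidual p G ⊔ (P : Subgroup G) := by
    rw [hc.sup_eq_top]; exact Subgroup.mem_top g
  obtain ⟨l, hl, x, hx, rfl⟩ := Subgroup.mem_sup_of_normal_left.mp hg'
  refine ⟨x, hx, ?_⟩
  set b := x * a * x⁻¹ with hb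
  have hbP : b ∈ (P : Subgroup G) :=
    (P : Subgroup G).mul_mem ((P : Subgroup G).mul_mem hx ha) ((P : Subgroup G).inv_mem hx)
  have h1 : l * x * a * (l * x)⁻¹ = l * b * l⁻¹ := by rw [hb]; group
  rw [h1] at hg ⊢
  have h2 : l * b * l⁻¹ * b⁻¹ ∈ pResidual p G := by
    have h3 : b * l⁻¹ * b⁻¹ ∈ pResidual p G :=
      (inferInstance : (pResidual p G).Normal).conj_mem _ (Subgroup.inv_mem _ hl) _
    have h4 := Subgroup.mul_mem _ hl h3
    simpa [mul_assoc] using h4
  have h5 : l * b * l⁻¹ * b⁻¹ ∈ (P : Subgroup G) := (P : Subgroup G).mul_mem hg ((P : Subgroup G).inv_mem hbP)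
  have h6 := Subgroup.disjoint_def.mp hc.disjoint h2 h5
  exact mul_inv_eq_one.mp h6

/-- Key step for `S1946`: control of fusion of small elements gives trivial action. -/
theorem fixes_of_controls_small (P : Sylow p G)
    (hc : ∀ a ∈ (P : Subgroup G), (a ^ p = 1 ∨ (p = 2 ∧ a ^ 4 = 1)) → ∀ g : G,
      g * a * g⁻¹ ∈ (P : Subgroup G) → ∃ x ∈ (P : Subgroup G), g * a * g⁻¹ = x * a * x⁻¹)
    (y : G) (hy : Nat.Coprime (orderOf y) p) (n : ℕ) :
    ∀ Q : Subgroup G, Nat.card Q = n → Q ≤ (P : Subgroup G) → (∀ x ∈ Q, y * x * y⁻¹ ∈ Q) →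
      ∀ x ∈ Q, y * x * y⁻¹ = x := by
  induction n using Nat.strong_induction_on with
  | _ n ih =>
  intro Q hn hQP hyQ
  have hQp : IsPGroup p Q := P.2.to_le hQP
  have hlt : ∀ A : Subgroup G, A ≤ Q → A ≠ Q → Nat.card A < n := by
    intro A hA hne
    rw [← hn]
    exact card_lt_card_of_lt (lt_of_le_of_ne hA hne)
  -- step A: the small elements generate `Q`
  let Q₀ : Subgroup G := closure {a | a ∈ Q ∧ (a ^ p = 1 ∨ (p = 2 ∧ a ^ 4 = 1))}
  have hQ₀le : Q₀ ≤ Q := by
    rw [closure_le]
    exact fun a ha => ha.1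
  have hQ₀y : ∀ x ∈ Q₀, y * x * y⁻¹ ∈ Q₀ := by
    intro x hx
    have hle : Q₀ ≤ Q₀.comap (MulAut.conj y).toMonoidHom := by
      rw [closure_le]
      rintro a ⟨ha, hs⟩
      refine subset_closure ⟨hyQ a ha, ?_⟩
      rcases hs with hs | ⟨h2, hs⟩
      · left; rw [← map_pow, hs, map_one]
      · right; exact ⟨h2, by rw [← map_pow, hs, map_one]⟩
    exact hle hx
  by_cases hQ₀ : Q₀ = Q
  swap
  · have hfix := ih _ (hlt Q₀ hQ₀le hQ₀) Q₀ rfl (hQ₀le.trans hQP) hQ₀y
    exact fixes_of_fixes_small Q hQp y hyQ hy (fun x hx hs => hfix x (subset_closure ⟨hx, hs⟩))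
  -- step B: `Q = [Q, y]`
  let Q₁ : Subgroup G := closure {w | ∃ a ∈ Q, w = a⁻¹ * (y * a * y⁻¹)}
  have hQ₁le : Q₁ ≤ Q := by
    rw [closure_le]
    rintro _ ⟨a, ha, rfl⟩
    exact Q.mul_mem (Q.inv_mem ha) (hyQ a ha)
  have hQ₁y : ∀ x ∈ Q₁, y * x * y⁻¹ ∈ Q₁ := by
    intro x hx
    have hle : Q₁ ≤ Q₁.comap (MulAut.conj y).toMonoidHom := by
      rw [closure_le]
      rintro _ ⟨a, ha, rfl⟩
      refine subset_closure ⟨y * a * y⁻¹, hyQ a ha, ?_⟩
      simp only [MulAut.conj_apply, MulEquiv.coe_toMonoidHom]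
      group
    exact hle hx
  by_cases hQ₁ : Q₁ = Q
  swap
  · have hfix := ih _ (hlt Q₁ hQ₁le hQ₁) Q₁ rfl (hQ₁le.trans hQP) hQ₁y
    intro a ha
    set t := a⁻¹ * (y * a * y⁻¹) with ht
    have htQ₁ : t ∈ Q₁ := subset_closure ⟨a, ha, rfl⟩
    have hk : ∃ k : ℕ, t ^ p ^ k = 1 := by
      obtain ⟨k, hk⟩ := hQp ⟨t, hQ₁le htQ₁⟩
      exact ⟨k, congrArg Subtype.val hk⟩
    have h4 : y * a * y⁻¹ = a * t := by rw [ht]; group
    have h3 : t = 1 := eq_one_of_fixed_commutator hy hk (hfix t htQ₁) h4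
    rw [h4, h3, mul_one]
  -- step C: `Q` lies in the lower central series of `P`
  have hstep : ∀ i : ℕ, Q ≤ (P : Subgroup G).lowerCentralSeries i := by
    intro i
    induction i with
    | zero => exact hQP
    | succ i ihi =>
      rw [Subgroup.lowerCentralSeries_succ]
      set R := (P : Subgroup G).lowerCentralSeries i with hR
      have hNn : ∀ b ∈ (P : Subgroup G), ∀ s ∈ ⁅R, (P : Subgroup G)⁆, b * s * b⁻¹ ∈ ⁅R, (P : Subgroup G)⁆ := by
        intro b hb s hs
        have h1 := (P : Subgroup G).self_le_normalizer_lowerCentralSeries (i + 1) hb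
        rw [Subgroup.lowerCentralSeries_succ] at h1
        exact (Frobenius.mem_normalizer_iff'.mp h1 s).mp hs
      have key : ∀ a ∈ Q₀, a⁻¹ * (y * a * y⁻¹) ∈ ⁅R, (P : Subgroup G)⁆ := by
        intro a ha
        induction ha using closure_induction with
        | mem a hs =>
          obtain ⟨x, hx, hxe⟩ := hc a (hQP hs.1) hs.2 y (hQP (hyQ a hs.1))
          have h1 : a⁻¹ * (y * a * y⁻¹) = ⁅a⁻¹, x⁆ := by
            rw [hxe, commutatorElement_def]; group
          rw [h1]
          exact Subgroup.commutator_mem_commutator (R.inv_mem (ihi hs.1)) hx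
        | one => simp
        | mul a b ha hb iha ihb =>
          have hbP : b ∈ (P : Subgroup G) := hQP (hQ₀le hb)
          have h1 : (a * b)⁻¹ * (y * (a * b) * y⁻¹) =
              (b⁻¹ * (a⁻¹ * (y * a * y⁻¹)) * b⁻¹⁻¹) * (b⁻¹ * (y * b * y⁻¹)) := by group
          rw [h1]
          exact Subgroup.mul_mem _ (hNn _ (Subgroup.inv_mem _ hbP) _ iha) ihb
        | inv a ha iha =>
          have haP : a ∈ (P : Subgroup G) := hQP (hQ₀le ha)
          have h1 : a⁻¹⁻¹ * (y * a⁻¹ * y⁻¹) = a * (a⁻¹ * (y * a * y⁻¹))⁻¹ * a⁻¹ := by group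
          rw [h1]
          exact hNn a haP _ (Subgroup.inv_mem _ iha)
      rw [← hQ₁]
      refine (Subgroup.closure_le _).mpr ?_
      rintro _ ⟨a, ha, rfl⟩
      exact key a (by rw [hQ₀]; exact ha)
  haveI : Group.IsNilpotent (P : Subgroup G) := P.isPGroup'.isNilpotent
  obtain ⟨m, hm⟩ := (Subgroup.isNilpotent_iff_lowerCentralSeries (P : Subgroup G)).mp inferInstance
  intro x hx
  have h1 := hstep m hx
  rw [hm, Subgroup.mem_bot] at h1
  subst h1
  simp

/-- `S1946`. -/
theorem hasNormalPComplement_iff_controls_small (P : Sylow p G) :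
    HasNormalPComplement p G ↔
      ∀ a ∈ (P : Subgroup G), (a ^ p = 1 ∨ (p = 2 ∧ a ^ 4 = 1)) → ∀ g : G,
        g * a * g⁻¹ ∈ (P : Subgroup G) → ∃ x ∈ (P : Subgroup G), g * a * g⁻¹ = x * a * x⁻¹ := by
  constructor
  · intro h a ha _ g hg
    exact controls_of_hasNormalPComplement P h ha g hg
  · intro hc
    apply hasNormalPComplement_of_frobeniusCond
    apply frobeniusCond_of_sylow P
    intro Q hQ g hg hco
    refine Frobenius.mem_centralizer_iff'.mpr ?_
    intro x hx
    exact fixes_of_controls_small P hc g hco _ Q rfl hQ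
      (fun z hz => (Frobenius.mem_normalizer_iff'.mp hg z).mp hz) x hx

/-- A subgroup of `p`-power index is supplemented by every Sylow `p`-subgroup. -/
theorem exists_mul_of_index_pow (P : Sylow p G) (C : Subgroup G) (k : ℕ) (hC : C.index = p ^ k) :
    ∀ g : G, ∃ x ∈ (P : Subgroup G), ∃ c ∈ C, g = x * c := by
  classical
  intro g
  let q₀ : G ⧸ C := QuotientGroup.mk 1
  set S := MulAction.stabilizer (P : Subgroup G) q₀ with hS
  have h : S.index * Nat.card S = Nat.card (P : Subgroup G) := S.index_mul_card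
  have hidxS : S.index = (MulAction.orbit (P : Subgroup G) q₀).ncard := MulAction.index_stabilizer _ _
  have hSmem : ∀ x : (P : Subgroup G), x ∈ S → (x : G) ∈ C := by
    intro x hx
    have h1 : (x : G) • q₀ = q₀ := hx
    have h2 : ((x : G) * 1 : G) = (x : G) := mul_one _
    have h3 : (QuotientGroup.mk ((x : G) * 1) : G ⧸ C) = QuotientGroup.mk 1 := h1
    rw [h2] at h3
    have h4 := QuotientGroup.eq.mp h3
    have h5 : (x : G)⁻¹ ∈ C := by simpa using h4
    simpa using C.inv_mem h5
  have hSle : S.map (P : Subgroup G).subtype ≤ C := by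
    rintro _ ⟨x, hx, rfl⟩
    exact hSmem x hx
  have hScard : Nat.card (S.map (P : Subgroup G).subtype) = Nat.card S :=
    Subgroup.card_map_of_injective (P : Subgroup G).subtype_injective
  have hSdvd : Nat.card S ∣ Nat.card C := by
    rw [← hScard]
    exact Subgroup.card_dvd_of_le hSle
  obtain ⟨j, hj⟩ := IsPGroup.iff_card.mp (P.isPGroup'.to_subgroup S)
  obtain ⟨n, hn⟩ := IsPGroup.iff_card.mp P.isPGroup'
  have hG1 : Nat.card C * p ^ k = Nat.card G := by rw [← hC]; exact C.card_mul_index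
  have hG2 : p ^ n * (P : Subgroup G).index = Nat.card G := by
    rw [← hn]; exact (P : Subgroup G).card_mul_index
  have hjk : j + k ≤ n := by
    have h1 : p ^ j * p ^ k ∣ p ^ n * (P : Subgroup G).index := by
      rw [hG2, ← hG1, ← hj]
      exact Nat.mul_dvd_mul_right hSdvd _
    rw [← pow_add] at h1
    have hcop : Nat.Coprime (p ^ (j + k)) (P : Subgroup G).index :=
      Nat.Coprime.pow_left _ ((Nat.Prime.coprime_iff_not_dvd hp.out).mpr P.not_dvd_index)
    have h2 := hcop.dvd_of_dvd_mul_right h1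
    exact (Nat.pow_dvd_pow_iff_le_right hp.out.one_lt).mp h2
  have horbit : (MulAction.orbit (P : Subgroup G) q₀).ncard = p ^ (n - j) := by
    rw [hj, hn, hidxS] at h
    have h1 : p ^ n = p ^ (n - j) * p ^ j := by
      rw [← pow_add]
      congr 1
      omega
    rw [h1] at h
    exact Nat.eq_of_mul_eq_mul_right (pow_pos hp.out.pos j) h
  have huniv : MulAction.orbit (P : Subgroup G) q₀ = Set.univ := by
    apply Set.eq_of_subset_of_ncard_le (Set.subset_univ _)
    rw [Set.ncard_univ, horbit, ← Subgroup.index_eq_card, hC]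
    exact Nat.pow_le_pow_right hp.out.pos (by omega)
  have hg : (QuotientGroup.mk g : G ⧸ C) ∈ MulAction.orbit (P : Subgroup G) q₀ := by
    rw [huniv]; trivial
  obtain ⟨x, hx⟩ := hg
  have h3 : (QuotientGroup.mk ((x : G) * 1) : G ⧸ C) = QuotientGroup.mk g := hx
  rw [mul_one] at h3
  have h4 := QuotientGroup.eq.mp h3
  exact ⟨x, x.2, (x : G)⁻¹ * g, h4, by group⟩

/-- `S4126`. -/
theorem hasNormalPComplement_of_small_classes
    (h : ∀ x : G, (orderOf x = p ∨ (p = 2 ∧ orderOf x = 4)) →
      ∃ a : ℕ, (Subgroup.centralizer ({x} : Set G)).index = p ^ a) :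
    HasNormalPComplement p G := by
  obtain ⟨P⟩ : Nonempty (Sylow p G) := inferInstance
  rw [hasNormalPComplement_iff_controls_small P]
  intro a ha hs g _
  by_cases ha1 : a = 1
  · subst ha1
    exact ⟨1, Subgroup.one_mem _, by simp⟩
  have hord : orderOf a = p ∨ (p = 2 ∧ orderOf a = 4) := by
    rcases hs with hs | ⟨h2, hs⟩
    · left
      exact orderOf_eq_prime hs ha1
    · subst h2
      have hd : orderOf a ∣ 2 ^ 2 := orderOf_dvd_of_pow_eq_one (by simpa using hs)
      obtain ⟨i, hi, hie⟩ := (Nat.dvd_prime_pow Nat.prime_two).mp hd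
      interval_cases i
      · exfalso
        apply ha1
        apply orderOf_eq_one_iff.mp
        simpa using hie
      · left; simpa using hie
      · right; exact ⟨rfl, by simpa using hie⟩
  obtain ⟨k, hk⟩ := h a hord
  obtain ⟨x, hx, c, hc, rfl⟩ := exists_mul_of_index_pow P _ k hk g
  refine ⟨x, hx, ?_⟩
  have h1 : c * a = a * c := (Subgroup.mem_centralizer_iff.mp hc a rfl).symm
  calc x * c * a * (x * c)⁻¹ = x * (c * a) * c⁻¹ * x⁻¹ := by group
    _ = x * (a * c) * c⁻¹ * x⁻¹ := by rw [h1]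
    _ = x * a * x⁻¹ := by group

/-- `S2910`. -/
theorem omegaOne_central (hp2 : p ≠ 2) (hdiv : p ∣ Nat.card G) (P : Sylow p G)
    (hZ : Cfsg.omegaOne p (P : Subgroup G) ≤ Subgroup.center G) :
    HasNormalPComplement p G ∧ ¬ Cfsg.IsQuasisimple G := by
  have h1 : HasNormalPComplement p G := by
    apply hasNormalPComplement_of_frobeniusCond
    apply frobeniusCond_of_sylow P
    intro Q hQ g hg hco
    refine Frobenius.mem_centralizer_iff'.mpr ?_
    apply fixes_of_fixes_small Q (P.2.to_le hQ) g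
      (fun z hz => (Frobenius.mem_normalizer_iff'.mp hg z).mp hz) hco
    rintro x hx (hs | ⟨h2, -⟩)
    · have hxc : x ∈ Subgroup.center G := hZ (Subgroup.subset_closure ⟨hQ hx, hs⟩)
      rw [Subgroup.mem_center_iff.mp hxc g]
      group
    · exact absurd h2 hp2
  refine ⟨h1, ?_⟩
  rintro ⟨hperf, -⟩
  have hperf' : commutator G = ⊤ := hperf.commutator_eq_top
  -- the quotient `G / O^p(G)` is a nontrivial `p`-group
  have hq : IsPGroup p (G ⧸ pResidual p G) := isPGroup_quotient_pResidual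
  haveI : Group.IsNilpotent (G ⧸ pResidual p G) := hq.isNilpotent
  have hLtop : pResidual p G ≠ ⊤ := by
    intro htop
    have hcop := hasNormalPComplement_iff_pResidual.mp h1
    rw [htop, Subgroup.card_top] at hcop
    have := Nat.dvd_gcd hdiv (dvd_refl p)
    rw [hcop] at this
    exact hp.out.one_lt.ne' (Nat.dvd_one.mp this)
  haveI : Nontrivial (G ⧸ pResidual p G) := by
    by_contra hn
    rw [not_nontrivial_iff_subsingleton] at hn
    apply hLtop
    rw [eq_top_iff]
    intro g _
    exact (QuotientGroup.eq_one_iff g).mp (Subsingleton.elim _ _)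
  apply Frobenius.commutator_ne_top_of_isNilpotent (K := G ⧸ pResidual p G)
  rw [eq_top_iff]
  intro q _
  obtain ⟨g, rfl⟩ := QuotientGroup.mk'_surjective (pResidual p G) q
  have hg : g ∈ commutator G := by rw [hperf']; exact Subgroup.mem_top g
  have hle : (commutator G).map (QuotientGroup.mk' (pResidual p G)) ≤ commutator (G ⧸ pResidual p G) := by
    rw [commutator_def, commutator_def, Subgroup.map_commutator]
    exact Subgroup.commutator_mono le_top le_top
  exact hle ⟨g, hg, rfl⟩

end Cfsg.Agent.Lib.Transfer.Omega
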