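import Cfsg.Agent.Lib.Transfer.ClassCount

/-!
# Classes of `π`-elements

`SClasses σ G` is the type of conjugacy classes of `σ`-elements of `G`, for a finite set `σ` of primes.

* `card_sClasses_insert_le`: `k_{σ ∪ {s}}(G) ≤ k_s(G) · N` if `k_σ(C_G(x)) ≤ N` for all `x`.
* `card_sClasses_le`: `k_σ(H) ≤ |H|_σ`.
* `card_sClasses_le_mul`: `k_π(G) ≤ k_r(G) |G|_{π \ {r}}`.
* `exists_normal_complement`, `exists_abelian_hall`: assembling normal `r`-complements for `r ∈ π`.
* `S3899` is `normal_complement_of_many_classes`.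
-/

set_option autoImplicit false

namespace Cfsg.Agent.Lib.Transfer.PiClasses

open Cfsg Cfsg.Agent.Lib.Transfer.Basic Cfsg.Agent.Lib.Transfer.ClassCount

universe u

/-- Classes of `σ`-elements. -/
abbrev SClasses (σ : Finset ℕ) (G : Type u) [Group G] : Type u :=
  {c : ConjClasses G // ∀ x ∈ c.carrier, ∀ r : ℕ, r.Prime → r ∣ orderOf x → r ∈ σ}

/-- A representative of a conjugacy class. -/
noncomputable def rep {G : Type u} [Group G] (c : ConjClasses G) : G :=
  Classical.choose (ConjClasses.exists_rep c)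

theorem mk_rep {G : Type u} [Group G] (c : ConjClasses G) : ConjClasses.mk (rep c) = c :=
  Classical.choose_spec (ConjClasses.exists_rep c)

/-- Centralizer of the representative. -/
abbrev repC {G : Type u} [Group G] (c : ConjClasses G) : Subgroup G :=
  Subgroup.centralizer ({rep c} : Set G)

variable {G : Type u} [Group G] [Finite G]

theorem exists_decomp (s : ℕ) [hs : Fact s.Prime] (σ : Finset ℕ) (d : SClasses (insert s σ) G) :
    ∃ (c : PClasses s G) (e : SClasses σ (repC c.1)) (w : repC c.1),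
      ConjClasses.mk w = e.1 ∧ ConjClasses.mk (rep c.1 * (w : G)) = d.1 := by
  obtain ⟨x, hx⟩ := ConjClasses.exists_rep d.1
  obtain ⟨u, v, hxuv, hc, -, hvx, ⟨k, hk⟩, hv⟩ := exists_pPart_decomp (p := s) x
  have huo : ∃ j : ℕ, orderOf u = s ^ j := by
    obtain ⟨j, -, hj⟩ := (Nat.dvd_prime_pow hs.out).mp (orderOf_dvd_of_pow_eq_one hk)
    exact ⟨j, hj⟩
  let c : PClasses s G := ⟨ConjClasses.mk u, by
    intro y hy
    rw [ConjClasses.mem_carrier_iff_mk_eq, ConjClasses.mk_eq_mk_iff_isConj] at hy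
    obtain ⟨j, hj⟩ := huo
    exact ⟨j, by rw [orderOf_of_isConj hy, hj]⟩⟩
  have hrep : IsConj u (rep c.1) := by
    rw [← ConjClasses.mk_eq_mk_iff_isConj, mk_rep]
  obtain ⟨a, ha⟩ := isConj_iff.mp hrep
  have hw : a * v * a⁻¹ ∈ repC c.1 := by
    rw [Subgroup.mem_centralizer_iff]
    intro z hz
    rw [Set.mem_singleton_iff.mp hz, ← ha]
    have : u * v = v * u := hc
    calc a * u * a⁻¹ * (a * v * a⁻¹) = a * (u * v) * a⁻¹ := by group
      _ = a * (v * u) * a⁻¹ := by rw [this]
      _ = a * v * a⁻¹ * (a * u * a⁻¹) := by group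
  let w : repC c.1 := ⟨a * v * a⁻¹, hw⟩
  have hwo : orderOf w = orderOf v := by
    rw [← Subgroup.orderOf_coe]
    exact (orderOf_of_isConj (isConj_iff.mpr ⟨a, rfl⟩)).symm
  have hmem : x ∈ d.1.carrier := by
    rw [ConjClasses.mem_carrier_iff_mk_eq, hx]
  let e : SClasses σ (repC c.1) := ⟨ConjClasses.mk w, by
    intro y hy r hr hry
    rw [ConjClasses.mem_carrier_iff_mk_eq, ConjClasses.mk_eq_mk_iff_isConj] at hy
    rw [orderOf_of_isConj hy, hwo] at hry
    have h1 : r ∣ orderOf x := hry.trans (orderOf_dvd_of_mem_zpowers hvx)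
    have h2 := d.2 x hmem r hr h1
    rcases Finset.mem_insert.mp h2 with h3 | h3
    · exfalso
      subst h3
      have := Nat.dvd_gcd hry (dvd_refl r)
      rw [hv] at this
      exact hr.one_lt.ne' (Nat.dvd_one.mp this)
    · exact h3⟩
  refine ⟨c, e, w, rfl, ?_⟩
  rw [← hx, ConjClasses.mk_eq_mk_iff_isConj, isConj_comm, isConj_iff]
  refine ⟨a, ?_⟩
  rw [hxuv, ← ha]
  change a * (u * v) * a⁻¹ = a * u * a⁻¹ * (a * v * a⁻¹)
  group

theorem card_sClasses_insert_le (s : ℕ) [hs : Fact s.Prime] (σ : Finset ℕ) (N : ℕ)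
    (hN : ∀ x : G, Nat.card (SClasses σ (Subgroup.centralizer ({x} : Set G))) ≤ N) :
    Nat.card (SClasses (insert s σ) G) ≤ Nat.card (PClasses s G) * N := by
  classical
  haveI := Fintype.ofFinite (PClasses s G)
  choose c e w h1 h2 using exists_decomp (G := G) s σ
  let f : SClasses (insert s σ) G → Σ c : PClasses s G, SClasses σ (repC c.1) :=
    fun d => ⟨c d, e d⟩
  have hf : Function.Injective f := by
    intro d d' hdd
    have hc : c d = c d' := congrArg Sigma.fst hdd
    have he : HEq (e d) (e d') := (Sigma.mk.inj_iff.mp hdd).2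
    apply Subtype.ext
    rw [← h2 d, ← h2 d']
    have key : ∀ (c₀ c₁ : PClasses s G) (e₀ : SClasses σ (repC c₀.1)) (e₀' : SClasses σ (repC c₁.1))
        (w₀ : repC c₀.1) (w₀' : repC c₁.1), c₀ = c₁ →
        HEq e₀ e₀' → ConjClasses.mk w₀ = e₀.1 → ConjClasses.mk w₀' = e₀'.1 →
          ConjClasses.mk (rep c₀.1 * (w₀ : G)) = ConjClasses.mk (rep c₁.1 * (w₀' : G)) := by
      intro c₀ c₁ e₀ e₀' w₀ w₀' hcc hee h3 h4
      subst hcc
      have hee' : e₀ = e₀' := eq_of_heq hee
      rw [hee'] at h3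
      have h5 : IsConj w₀ w₀' := ConjClasses.mk_eq_mk_iff_isConj.mp (h3.trans h4.symm)
      obtain ⟨t, ht⟩ := isConj_iff.mp h5
      rw [ConjClasses.mk_eq_mk_iff_isConj, isConj_iff]
      refine ⟨t, ?_⟩
      have ht1 : (t : G) * (w₀ : G) * (t : G)⁻¹ = (w₀' : G) := by
        have := congrArg (Subtype.val) ht
        simpa using this
      have ht2 : (t : G) * rep c₀.1 = rep c₀.1 * (t : G) :=
        (Subgroup.mem_centralizer_iff.mp t.2 (rep c₀.1) (Set.mem_singleton _)).symm
      rw [← ht1]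
      calc (t : G) * (rep c₀.1 * (w₀ : G)) * (t : G)⁻¹ = ((t : G) * rep c₀.1) * (w₀ : G) * (t : G)⁻¹ := by group
        _ = (rep c₀.1 * (t : G)) * (w₀ : G) * (t : G)⁻¹ := by rw [ht2]
        _ = rep c₀.1 * ((t : G) * (w₀ : G) * (t : G)⁻¹) := by group
    exact key _ _ _ _ _ _ hc he (h1 d) (h1 d')
  calc Nat.card (SClasses (insert s σ) G) ≤ Nat.card (Σ c : PClasses s G, SClasses σ (repC c.1)) :=
        Nat.card_le_card_of_injective f hf
    _ = ∑ c : PClasses s G, Nat.card (SClasses σ (repC c.1)) := by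
        rw [Nat.card_sigma]
    _ ≤ ∑ _c : PClasses s G, N := Finset.sum_le_sum (fun c _ => hN _)
    _ = Nat.card (PClasses s G) * N := by
        rw [Finset.sum_const, Finset.card_univ, Nat.card_eq_fintype_card, smul_eq_mul]

/-- `k_σ(H) ≤ |H|_σ`. -/
theorem card_sClasses_le (σ : Finset ℕ) (hσ : ∀ r ∈ σ, r.Prime) :
    ∀ (H : Type u) [Group H] [Finite H],
      Nat.card (SClasses σ H) ≤ ∏ r ∈ σ, r ^ (Nat.card H).factorization r := by
  classical
  induction σ using Finset.induction_on with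
  | empty =>
    intro H _ _
    simp only [Finset.prod_empty]
    have : Subsingleton (SClasses ∅ H) := by
      constructor
      rintro ⟨a, ha⟩ ⟨b, hb⟩
      apply Subtype.ext
      have key : ∀ c : SClasses ∅ H, c.1 = ConjClasses.mk 1 := by
        rintro ⟨c, hc⟩
        obtain ⟨x, rfl⟩ := ConjClasses.exists_rep c
        have hx : x = 1 := by
          by_contra hx
          have h1 : orderOf x ≠ 1 := by rwa [Ne, orderOf_eq_one_iff]
          have := hc x ConjClasses.mem_carrier_mk _ (Nat.minFac_prime h1) (Nat.minFac_dvd _)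
          simp at this
        exact congrArg ConjClasses.mk hx
      exact (key ⟨a, ha⟩).trans (key ⟨b, hb⟩).symm
    exact Finite.card_le_one_iff_subsingleton.mpr this
  | insert s σ hs ih =>
    intro H _ _
    have hs' : s.Prime := hσ s (Finset.mem_insert_self _ _)
    haveI : Fact s.Prime := ⟨hs'⟩
    have hσ' : ∀ r ∈ σ, r.Prime := fun r hr => hσ r (Finset.mem_insert_of_mem hr)
    rw [Finset.prod_insert hs]
    refine (card_sClasses_insert_le (G := H) s σ (∏ r ∈ σ, r ^ (Nat.card H).factorization r) ?_).trans ?_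
    · intro x
      refine (ih hσ' _).trans ?_
      refine Finset.prod_le_prod' (fun r hr => ?_)
      refine Nat.pow_le_pow_right (hσ' r hr).pos ?_
      have hd : Nat.card (Subgroup.centralizer ({x} : Set H)) ∣ Nat.card H :=
        Subgroup.card_subgroup_dvd_card _
      exact (Nat.factorization_le_iff_dvd Nat.card_pos.ne' Nat.card_pos.ne').mpr hd r
    · refine Nat.mul_le_mul_right _ ?_
      obtain ⟨P⟩ : Nonempty (Sylow s H) := inferInstance
      have h1 := card_pClasses_le_card_conjClasses P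
      have h2 : Nat.card (ConjClasses (P : Subgroup H)) ≤ Nat.card (P : Subgroup H) :=
        Nat.card_le_card_of_surjective ConjClasses.mk ConjClasses.mk_surjective
      have h3 : Nat.card (P : Subgroup H) = s ^ (Nat.card H).factorization s :=
        Sylow.card_eq_multiplicity P
      omega

/-- `k_π(G) ≤ k_r(G) |G|_{π \ {r}}`. -/
theorem card_sClasses_le_mul (π : Finset ℕ) (hπ : ∀ r ∈ π, r.Prime) (r : ℕ) [Fact r.Prime]
    (hr : r ∈ π) :
    Nat.card (SClasses π G) ≤ Nat.card (PClasses r G) *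
      ∏ t ∈ π.erase r, t ^ (Nat.card G).factorization t := by
  classical
  have hπ' : ∀ t ∈ π.erase r, t.Prime := fun t ht => hπ t (Finset.mem_of_mem_erase ht)
  have h := card_sClasses_insert_le (G := G) r (π.erase r)
    (∏ t ∈ π.erase r, t ^ (Nat.card G).factorization t) (by
      intro x
      refine (card_sClasses_le _ hπ' _).trans ?_
      refine Finset.prod_le_prod' (fun t ht => ?_)
      refine Nat.pow_le_pow_right (hπ' t ht).pos ?_
      have hd : Nat.card (Subgroup.centralizer ({x} : Set G)) ∣ Nat.card G :=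
        Subgroup.card_subgroup_dvd_card _
      exact (Nat.factorization_le_iff_dvd Nat.card_pos.ne' Nat.card_pos.ne').mpr hd t)
  rwa [Finset.insert_erase hr] at h

/-- Intersection of the normal `r`-complements, for `r ∈ π`. -/
def piResidual (π : Finset ℕ) (G : Type u) [Group G] : Subgroup G :=
  ⨅ r ∈ π, pResidual r G

instance (π : Finset ℕ) : (piResidual π G).Normal := by
  unfold piResidual
  exact Subgroup.normal_iInf_normal (fun r => Subgroup.normal_iInf_normal (fun _ => inferInstance))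

theorem not_dvd_card_piResidual (π : Finset ℕ) (r : ℕ) [Fact r.Prime] (hr : r ∈ π)
    (h : HasNormalPComplement r G) : ¬ r ∣ Nat.card (piResidual π G) := by
  have h1 : piResidual π G ≤ pResidual r G := iInf₂_le r hr
  have h2 : Nat.Coprime (Nat.card (pResidual r G)) r := hasNormalPComplement_iff_pResidual.mp h
  intro h3
  have h4 : r ∣ Nat.card (pResidual r G) := h3.trans (Subgroup.card_dvd_of_le h1)
  have hp : r.Prime := Fact.out
  exact hp.one_lt.ne' (Nat.dvd_one.mp (by simpa [h2.gcd_eq_one] using Nat.dvd_gcd h4 (dvd_refl r)))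

theorem mem_of_dvd_index_piResidual (π : Finset ℕ) (hπ : ∀ r ∈ π, r.Prime) (t : ℕ) (ht : t.Prime)
    (hd : t ∣ (piResidual π G).index) : t ∈ π := by
  by_contra htπ
  haveI : Fact t.Prime := ⟨ht⟩
  have hd' : t ∣ Nat.card (G ⧸ piResidual π G) := hd
  obtain ⟨x, hx⟩ := exists_prime_orderOf_dvd_card' (G := G ⧸ piResidual π G) t hd'
  obtain ⟨g, rfl⟩ := QuotientGroup.mk_surjective x
  have hgt : g ^ t ∈ piResidual π G := by
    rw [← QuotientGroup.eq_one_iff, QuotientGroup.mk_pow, ← hx, pow_orderOf_eq_one]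
  have hg : g ∈ piResidual π G := by
    unfold piResidual
    refine Subgroup.mem_iInf.mpr (fun r => Subgroup.mem_iInf.mpr (fun hr => ?_))
    have hrp : r.Prime := hπ r hr
    haveI : Fact r.Prime := ⟨hrp⟩
    have h1 : g ^ t ∈ pResidual r G := (iInf₂_le r hr : piResidual π G ≤ pResidual r G) hgt
    have hrt : r ≠ t := fun h => htπ (h ▸ hr)
    have hpg : IsPGroup r (G ⧸ pResidual r G) := isPGroup_quotient_pResidual
    obtain ⟨k, hk⟩ := hpg (g : G ⧸ pResidual r G)
    have h2 : ((g : G ⧸ pResidual r G)) ^ t = 1 := by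
      rw [← QuotientGroup.mk_pow, QuotientGroup.eq_one_iff]
      exact h1
    have h3 : orderOf (g : G ⧸ pResidual r G) ∣ t := orderOf_dvd_of_pow_eq_one h2
    have h4 : orderOf (g : G ⧸ pResidual r G) ∣ r ^ k := orderOf_dvd_of_pow_eq_one hk
    have h5 : Nat.Coprime t (r ^ k) := Nat.Coprime.pow_right k ((Nat.coprime_primes ht hrp).mpr hrt.symm)
    have h6 : orderOf (g : G ⧸ pResidual r G) = 1 := Nat.eq_one_of_dvd_coprimes h5 h3 h4
    rw [orderOf_eq_one_iff, QuotientGroup.eq_one_iff] at h6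
    exact h6
  have h1 : (g : G ⧸ piResidual π G) = 1 := (QuotientGroup.eq_one_iff g).mpr hg
  rw [h1, orderOf_one] at hx
  exact ht.one_lt.ne hx

/-- Commutators lie in the normal complement of an abelian Sylow subgroup. -/
theorem commutator_mem_pResidual (r : ℕ) [Fact r.Prime] (h : HasNormalPComplement r G)
    (hab : ∀ P : Sylow r G, IsMulCommutative (P : Subgroup G)) (a b : G) :
    a * b * a⁻¹ * b⁻¹ ∈ pResidual r G := by
  obtain ⟨P⟩ : Nonempty (Sylow r G) := inferInstance
  have hc := isComplement'_pResidual h P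
  have hP := hab P
  have key : ∀ g : G, ∃ x ∈ (P : Subgroup G), (g : G ⧸ pResidual r G) = (x : G ⧸ pResidual r G) := by
    intro g
    obtain ⟨⟨n, x⟩, hnx⟩ := hc.2 g
    refine ⟨x, x.2, ?_⟩
    have hnx' : (n : G) * (x : G) = g := hnx
    rw [← hnx', QuotientGroup.mk_mul, (QuotientGroup.eq_one_iff (n : G)).mpr n.2, one_mul]
  obtain ⟨x, hx, hax⟩ := key a
  obtain ⟨y, hy, hby⟩ := key b
  rw [← QuotientGroup.eq_one_iff, QuotientGroup.mk_mul, QuotientGroup.mk_inv, QuotientGroup.mk_mul,
    QuotientGroup.mk_mul, QuotientGroup.mk_inv, hax, hby]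
  have hxy : x * y = y * x := by
    have := hP.is_comm.comm ⟨x, hx⟩ ⟨y, hy⟩
    exact congrArg Subtype.val this
  have : (x : G ⧸ pResidual r G) * (y : G ⧸ pResidual r G) =
      (y : G ⧸ pResidual r G) * (x : G ⧸ pResidual r G) := by
    rw [← QuotientGroup.mk_mul, ← QuotientGroup.mk_mul, hxy]
  rw [this]
  group

/-- Given normal `r`-complements for all `r ∈ π` and abelian Sylow `r`-subgroups, there is an abelian
Hall `π`-subgroup. -/
theorem exists_abelian_hall (π : Finset ℕ) (hπ : ∀ r ∈ π, r.Prime)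
    (h : ∀ (r : ℕ) [Fact r.Prime], r ∈ π → HasNormalPComplement r G ∧
      ∀ P : Sylow r G, IsMulCommutative (P : Subgroup G)) :
    ∃ H : Subgroup G, Cfsg.IsPiHall (↑π : Set ℕ) H ∧ IsMulCommutative ↥H := by
  have hcop : Nat.Coprime (Nat.card (piResidual π G)) (piResidual π G).index := by
    apply Nat.coprime_of_dvd
    intro k hk h1 h2
    have h3 := mem_of_dvd_index_piResidual π hπ k hk h2
    haveI : Fact k.Prime := ⟨hk⟩
    exact not_dvd_card_piResidual π k h3 (h k h3).1 h1
  obtain ⟨H, hH⟩ := Subgroup.exists_right_complement'_of_coprime hcop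
  have hcard := hH.card_mul_card
  have hidx : H.index = Nat.card (piResidual π G) := by
    have := H.card_mul_index
    have h0 : 0 < Nat.card H := Nat.card_pos
    apply Nat.eq_of_mul_eq_mul_left h0
    rw [this, mul_comm, hcard]
  have hHc : Nat.card H = (piResidual π G).index := by
    have := (piResidual π G).card_mul_index
    have h0 : 0 < Nat.card (piResidual π G) := Nat.card_pos
    apply Nat.eq_of_mul_eq_mul_left h0
    rw [this, hcard]
  refine ⟨H, ⟨?_, ?_⟩, ?_⟩
  · intro t ht hd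
    rw [hHc] at hd
    exact mem_of_dvd_index_piResidual π hπ t ht hd
  · intro t ht hmem
    rw [hidx]
    have hmem' : t ∈ π := hmem
    haveI : Fact t.Prime := ⟨ht⟩
    exact not_dvd_card_piResidual π t hmem' (h t hmem').1
  · refine ⟨⟨?_⟩⟩
    rintro ⟨a, ha⟩ ⟨b, hb⟩
    apply Subtype.ext
    have h1 : a * b * a⁻¹ * b⁻¹ ∈ piResidual π G := by
      unfold piResidual
      refine Subgroup.mem_iInf.mpr (fun r => Subgroup.mem_iInf.mpr (fun hr => ?_))
      haveI : Fact r.Prime := ⟨hπ r hr⟩
      exact commutator_mem_pResidual r (h r hr).1 (h r hr).2 a b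
    have h2 : a * b * a⁻¹ * b⁻¹ ∈ H := H.mul_mem (H.mul_mem (H.mul_mem ha hb) (H.inv_mem ha)) (H.inv_mem hb)
    have h3 : a * b * a⁻¹ * b⁻¹ = 1 := by
      have h4 := hH.disjoint
      exact Subgroup.disjoint_def.mp h4 h1 h2
    change a * b = b * a
    calc a * b = (a * b * a⁻¹ * b⁻¹) * (b * a) := by group
      _ = b * a := by rw [h3, one_mul]

/-- The normal `π`-complement from normal `r`-complements. -/
theorem exists_normal_complement (π : Finset ℕ) (hπ : ∀ r ∈ π, r.Prime)
    (h : ∀ (r : ℕ) [Fact r.Prime], r ∈ π → HasNormalPComplement r G) :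
    ∃ N : Subgroup G, N.Normal ∧ (∀ r : ℕ, r.Prime → r ∣ Nat.card ↥N → r ∉ π) ∧
      ∀ r : ℕ, r.Prime → r ∣ N.index → r ∈ π := by
  refine ⟨piResidual π G, inferInstance, ?_, ?_⟩
  · intro r hr hd hmem
    haveI : Fact r.Prime := ⟨hr⟩
    exact not_dvd_card_piResidual π r hmem (h r hmem) hd
  · intro r hr hd
    exact mem_of_dvd_index_piResidual π hπ r hr hd

theorem arith_aux {p r R E k K : ℕ} (hpr : p ≤ r) (hp : 0 < p)
    (h : (p + 1) * (R * E) < 2 * p * K) (hK : K ≤ k * E) :
    (r + 1) * R < 2 * r * k := by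
  have h1 : (p + 1) * (R * E) < 2 * p * (k * E) := h.trans_le (Nat.mul_le_mul_left _ hK)
  have h2 : (p + 1) * R < 2 * p * k := by
    have h3 : ((p + 1) * R) * E < (2 * p * k) * E := by
      calc ((p + 1) * R) * E = (p + 1) * (R * E) := by ring
        _ < 2 * p * (k * E) := h1
        _ = (2 * p * k) * E := by ring
    exact Nat.lt_of_mul_lt_mul_right h3
  have h4 : (r + 1) * p ≤ (p + 1) * r := by nlinarith
  have h5 : ((r + 1) * R) * p < (2 * r * k) * p := by
    calc ((r + 1) * R) * p = ((r + 1) * p) * R := by ring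
      _ ≤ ((p + 1) * r) * R := Nat.mul_le_mul_right _ h4
      _ = ((p + 1) * R) * r := by ring
      _ < (2 * p * k) * r := by
        apply Nat.mul_lt_mul_of_pos_right h2
        omega
      _ = (2 * r * k) * p := by ring
  exact Nat.lt_of_mul_lt_mul_right h5

/-- `S3899`. -/
theorem normal_complement_of_many_classes (π : Finset ℕ) (hπ : ∀ r ∈ π, r.Prime) (h2 : 2 ∉ π) (p : ℕ)
    (hp : p ∈ π) (hmin : ∀ r ∈ π, p ≤ r)
    (hk : (p + 1) * π.prod (fun r => r ^ (Nat.card G).factorization r) <
      2 * p * Nat.card (SClasses π G)) :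
    (∃ N : Subgroup G, N.Normal ∧ (∀ r : ℕ, r.Prime → r ∣ Nat.card ↥N → r ∉ π) ∧
        ∀ r : ℕ, r.Prime → r ∣ N.index → r ∈ π) ∧
      ∃ H : Subgroup G, Cfsg.IsPiHall (↑π : Set ℕ) H ∧ IsMulCommutative ↥H := by
  classical
  have key : ∀ (r : ℕ) [Fact r.Prime], r ∈ π → HasNormalPComplement r G ∧
      ∀ P : Sylow r G, IsMulCommutative (P : Subgroup G) := by
    intro r _ hr
    have hr2 : r ≠ 2 := fun h => h2 (h ▸ hr)
    have hrp : r.Prime := Fact.out
    have hsplit : π.prod (fun r => r ^ (Nat.card G).factorization r) =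
        r ^ (Nat.card G).factorization r *
          ∏ t ∈ π.erase r, t ^ (Nat.card G).factorization t :=
      (Finset.mul_prod_erase π _ hr).symm
    have hE : 0 < ∏ t ∈ π.erase r, t ^ (Nat.card G).factorization t :=
      Finset.prod_pos (fun t ht => pow_pos (hπ t (Finset.mem_of_mem_erase ht)).pos _)
    have hcard := card_sClasses_le_mul (G := G) π hπ r hr
    rw [hsplit] at hk
    have hpos : 0 < p := (hπ p hp).pos
    have harith := arith_aux (hmin r hr) hpos hk hcard
    have hmany : ∀ P : Sylow r G, HasNormalPComplement r G ∧ IsMulCommutative (P : Subgroup G) := by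
      intro P
      have hPc : Nat.card (P : Subgroup G) = r ^ (Nat.card G).factorization r :=
        Sylow.card_eq_multiplicity P
      refine (many_pClasses_iff hr2 P).mp ?_
      rw [hPc]
      exact harith
    obtain ⟨P⟩ : Nonempty (Sylow r G) := inferInstance
    exact ⟨(hmany P).1, fun P' => (hmany P').2⟩
  exact ⟨exists_normal_complement π hπ (fun r _ hr => (key r hr).1), exists_abelian_hall π hπ key⟩

end Cfsg.Agent.Lib.Transfer.PiClasses
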