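import Cfsg.Agent.Lib.Transfer.PiClasses
import Cfsg.Agent.Lib.Transfer.ClassCount2
import Cfsg.Agent.Lib.FG7.ClassNumber

/-!
# Classes of `π`-elements with `2 ∈ π`

`S3898`: if `2 ∈ π` and `k_π(G) > |G|_π / 2` then `G` has a normal `π`-complement, and an abelian Hall
subgroup for the odd primes of `π`.
-/

set_option autoImplicit false

namespace Cfsg.Agent.Lib.Transfer.PiClasses2

open Cfsg Cfsg.Agent.Lib.Transfer.Basic Cfsg.Agent.Lib.Transfer.ClassCount
  Cfsg.Agent.Lib.Transfer.ClassCount2 Cfsg.Agent.Lib.Transfer.PiClasses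

universe u

variable {G : Type u} [Group G] [Finite G]

/-- A `p`-subgroup acting on the cosets of a subgroup of index prime to `p` has a fixed point. -/
theorem exists_conj_le {A : Type u} [Group A] [Finite A] {p : ℕ} [Fact p.Prime] (T H : Subgroup A)
    (hT : IsPGroup p T) (hH : ¬ p ∣ H.index) : ∃ a : A, ∀ t ∈ T, a⁻¹ * t * a ∈ H := by
  obtain ⟨x, hx⟩ := hT.nonempty_fixed_point_of_prime_not_dvd_card (A ⧸ H) hH
  obtain ⟨a, rfl⟩ := QuotientGroup.mk_surjective x
  refine ⟨a, fun t ht => ?_⟩
  have h1 : ((t * a : A) : A ⧸ H) = (a : A ⧸ H) := hx ⟨t, ht⟩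
  rw [QuotientGroup.eq] at h1
  have h2 : a⁻¹ * t * a = ((t * a)⁻¹ * a)⁻¹ := by group
  rw [h2]
  exact H.inv_mem h1

/-- If `H N = A` with `N` normal then `|A : H|` divides `|N|`. -/
theorem index_dvd_card_of_sup_eq_top {A : Type u} [Group A] [Finite A] (H N : Subgroup A) [N.Normal]
    (h : H ⊔ N = ⊤) : H.index ∣ Nat.card N := by
  have h1 : N.relIndex (H ⊔ N) = N.relIndex H := Subgroup.relIndex_sup_right H N
  rw [h, Subgroup.relIndex_top_right] at h1
  have h2 := N.card_mul_index
  have h3 := H.card_mul_index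
  have h4 : Nat.card (N.subgroupOf H) * N.relIndex H = Nat.card H :=
    (N.subgroupOf H).card_mul_index
  have hR : 0 < N.relIndex H := by
    rw [← h1]
    exact Nat.pos_of_ne_zero Subgroup.index_ne_zero_of_finite
  refine ⟨Nat.card (N.subgroupOf H), ?_⟩
  apply Nat.eq_of_mul_eq_mul_right hR
  calc Nat.card N * N.relIndex H = Nat.card N * N.index := by rw [h1]
    _ = Nat.card A := h2
    _ = Nat.card H * H.index := h3.symm
    _ = (Nat.card (N.subgroupOf H) * N.relIndex H) * H.index := by rw [h4]
    _ = H.index * Nat.card (N.subgroupOf H) * N.relIndex H := by ring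

theorem index_centralizer_conj (a y : G) :
    (Subgroup.centralizer ({a * y * a⁻¹} : Set G)).index =
      (Subgroup.centralizer ({y} : Set G)).index := by
  have hc : Nat.card (Subgroup.centralizer ({a * y * a⁻¹} : Set G)) =
      Nat.card (Subgroup.centralizer ({y} : Set G)) := by
    symm
    refine Nat.card_congr (Equiv.subtypeEquiv (MulAut.conj a).toEquiv ?_)
    intro z
    simp only [MulEquiv.toEquiv_eq_coe, EquivLike.coe_coe, MulAut.conj_apply]
    rw [Subgroup.mem_centralizer_iff, Subgroup.mem_centralizer_iff]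
    simp only [Set.mem_singleton_iff, forall_eq]
    constructor
    · intro h
      calc a * y * a⁻¹ * (a * z * a⁻¹) = a * (y * z) * a⁻¹ := by group
        _ = a * (z * y) * a⁻¹ := by rw [h]
        _ = a * z * a⁻¹ * (a * y * a⁻¹) := by group
    · intro h
      have h3 : a * (y * z) * a⁻¹ = a * (z * y) * a⁻¹ := by
        calc a * (y * z) * a⁻¹ = a * y * a⁻¹ * (a * z * a⁻¹) := by group
          _ = a * z * a⁻¹ * (a * y * a⁻¹) := h
          _ = a * (z * y) * a⁻¹ := by group
      exact mul_left_cancel (mul_right_cancel h3)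
  have h1 := (Subgroup.centralizer ({a * y * a⁻¹} : Set G)).card_mul_index
  have h2 := (Subgroup.centralizer ({y} : Set G)).card_mul_index
  rw [hc] at h1
  exact Nat.eq_of_mul_eq_mul_left Nat.card_pos (h1.trans h2.symm)

section gustafson

theorem gustafson_arith (m k H Z : ℕ) (hm : 2 ≤ m) (hZ : 0 < Z) (h1 : (m + 1) * k ≤ H + m * Z)
    (h2 : (m + 1) * (m + 1) * Z ≤ H) : 2 * k < H := by
  by_contra hcon
  push Not at hcon
  obtain ⟨n, rfl⟩ : ∃ n, m = n + 2 := ⟨m - 2, by omega⟩
  have h3 : (n + 2 + 1) * H ≤ 2 * H + 2 * ((n + 2) * Z) := by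
    calc (n + 2 + 1) * H ≤ (n + 2 + 1) * (2 * k) := Nat.mul_le_mul_left _ hcon
      _ = 2 * ((n + 2 + 1) * k) := by ring
      _ ≤ 2 * (H + (n + 2) * Z) := Nat.mul_le_mul_left _ h1
      _ = 2 * H + 2 * ((n + 2) * Z) := by ring
  have h4 : (n + 1) * H ≤ 2 * ((n + 2) * Z) := by nlinarith
  have h5 : (n + 1) * ((n + 3) * (n + 3) * Z) ≤ 2 * ((n + 2) * Z) :=
    (Nat.mul_le_mul_left _ h2).trans h4
  have h6 : 2 * (n + 2) < (n + 1) * ((n + 3) * (n + 3)) := by nlinarith
  have h7 : 2 * (n + 2) * Z < (n + 1) * ((n + 3) * (n + 3)) * Z :=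
    Nat.mul_lt_mul_of_pos_right h6 hZ
  nlinarith

/-- Gustafson type bound: `2 k(H) < |H|` for a non-abelian `r`-group with `r` odd. -/
theorem two_mul_card_conjClasses_lt {H : Type u} [Group H] [Finite H] {r : ℕ} [hr : Fact r.Prime]
    (hr2 : r ≠ 2) (hH : IsPGroup r H) (hna : ¬ IsMulCommutative H) :
    2 * Nat.card (ConjClasses H) < Nat.card H := by
  classical
  haveI := Fintype.ofFinite H
  have hr3 : 3 ≤ r := by
    have := hr.out.two_le
    omega
  obtain ⟨m, rfl⟩ : ∃ m, r = m + 1 := ⟨r - 1, by omega⟩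
  have hZtop : Subgroup.center H ≠ ⊤ := by
    intro h
    apply hna
    refine ⟨⟨fun a b => ?_⟩⟩
    have : a ∈ Subgroup.center H := h ▸ Subgroup.mem_top a
    exact Subgroup.mem_center_iff.mp this b |>.symm
  obtain ⟨j, hj⟩ := hH.index (Subgroup.center H)
  have hj2 : 2 ≤ j := by
    rcases j with _ | _ | j
    · rw [pow_zero, Subgroup.index_eq_one] at hj
      exact absurd hj hZtop
    · exfalso
      rw [zero_add, pow_one] at hj
      have hcard : Nat.card (H ⧸ Subgroup.center H) = m + 1 := hj
      haveI : Fact (Nat.card (H ⧸ Subgroup.center H)).Prime := ⟨hcard ▸ hr.out⟩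
      haveI : IsCyclic (H ⧸ Subgroup.center H) := isCyclic_of_prime_card rfl
      exact hna (MonoidHom.isMulCommutative_of_isCyclic_of_ker_le_center
        (QuotientGroup.mk' (Subgroup.center H)) (by rw [QuotientGroup.ker_mk']))
    · omega
  have hZ2 : (m + 1) * (m + 1) * Nat.card (Subgroup.center H) ≤ Nat.card H := by
    rw [← (Subgroup.center H).card_mul_index, hj, mul_comm]
    apply Nat.mul_le_mul_left
    calc (m + 1) * (m + 1) = (m + 1) ^ 2 := (sq _).symm
      _ ≤ (m + 1) ^ j := Nat.pow_le_pow_right (by omega) hj2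
  have hfix : ∀ x : H, (m + 1) * Nat.card (Subgroup.centralizer ({x} : Set H)) ≤
      Nat.card H * (1 + if x ∈ Subgroup.center H then m else 0) := by
    intro x
    by_cases hx : x ∈ Subgroup.center H
    · simp only [hx, if_true]
      rw [mul_comm]
      refine Nat.mul_le_mul (Subgroup.card_le_card_group _) (by omega)
    · simp only [hx, if_false, add_zero, mul_one]
      obtain ⟨i, hi⟩ := hH.index (Subgroup.centralizer ({x} : Set H))
      have hi0 : i ≠ 0 := by
        rintro rfl
        rw [pow_zero, Subgroup.index_eq_one] at hi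
        apply hx
        rw [Subgroup.mem_center_iff]
        intro g
        have hg : g ∈ Subgroup.centralizer ({x} : Set H) := hi ▸ Subgroup.mem_top g
        exact (Subgroup.mem_centralizer_iff.mp hg x rfl).symm
      rw [← (Subgroup.centralizer ({x} : Set H)).card_mul_index, hi, mul_comm]
      apply Nat.mul_le_mul_left
      calc m + 1 = (m + 1) ^ 1 := (pow_one _).symm
        _ ≤ (m + 1) ^ i := Nat.pow_le_pow_right (by omega) (Nat.pos_of_ne_zero hi0)
  have hsum := Finset.sum_le_sum (s := Finset.univ) (fun x _ => hfix x)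
  rw [← Finset.mul_sum, ← Finset.mul_sum, Cfsg.Agent.Lib.FG7.ClassNumber.sum_card_centralizer,
    Finset.sum_add_distrib, Finset.sum_ite, Finset.sum_const_zero, add_zero, Finset.sum_const,
    Finset.sum_const, smul_eq_mul, smul_eq_mul, mul_one, Finset.card_univ] at hsum
  have hcZ : (Finset.univ.filter (fun x => x ∈ Subgroup.center H)).card =
      Nat.card (Subgroup.center H) := by
    rw [Nat.card_eq_fintype_card, Fintype.card_subtype]
  rw [hcZ, ← Nat.card_eq_fintype_card (α := H)] at hsum
  have hpos : 0 < Nat.card H := Nat.card_pos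
  have h1 : (m + 1) * Nat.card (ConjClasses H) ≤ Nat.card H + m * Nat.card (Subgroup.center H) := by
    apply Nat.le_of_mul_le_mul_right _ hpos
    calc (m + 1) * Nat.card (ConjClasses H) * Nat.card H
        = (m + 1) * (Nat.card (ConjClasses H) * Nat.card H) := by ring
      _ ≤ Nat.card H * (Nat.card H + Nat.card (Subgroup.center H) * m) := hsum
      _ = (Nat.card H + m * Nat.card (Subgroup.center H)) * Nat.card H := by ring
  exact gustafson_arith m _ _ _ (by omega) Nat.card_pos h1 hZ2

end gustafson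

section core

variable {p : ℕ} [hp : Fact p.Prime]

/-- The counting core: `p k_p(G) |N| ≤ |P| (|N| + (p - 1) |C_N(P)|)`. -/
theorem count_core (P : Sylow p G) :
    p * (Nat.card (PClasses p G) * Nat.card (Subgroup.normalizer ((P : Subgroup G) : Set G))) ≤
      Nat.card (P : Subgroup G) * (Nat.card (Subgroup.normalizer ((P : Subgroup G) : Set G)) +
        Nat.card ((Subgroup.centralizer ((P : Subgroup G) : Set G)).subgroupOf
          (Subgroup.normalizer ((P : Subgroup G) : Set G))) * (p - 1)) := by
  classical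
  let N : Subgroup G := Subgroup.normalizer ((P : Subgroup G) : Set G)
  haveI := Fintype.ofFinite N
  haveI := Fintype.ofFinite (P : Subgroup G)
  haveI : ∀ n : N, Fintype (MulAction.fixedBy (P : Subgroup G) n) := fun n => Fintype.ofFinite _
  haveI := Fintype.ofFinite (MulAction.orbitRel.Quotient N (P : Subgroup G))
  have hB := MulAction.sum_card_fixedBy_eq_card_orbits_mul_card_group N (P : Subgroup G)
  have hle : Nat.card (PClasses p G) ≤
      Fintype.card (MulAction.orbitRel.Quotient N (P : Subgroup G)) := by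
    rw [← Nat.card_eq_fintype_card]
    let f : MulAction.orbitRel.Quotient N (P : Subgroup G) → PClasses p G :=
      Quotient.lift (toPClass P) (by
        rintro a b ⟨n, hn⟩
        refine (toPClass_eq_iff P a b).mpr (isConj_iff.mpr ⟨(n : G)⁻¹, ?_⟩)
        rw [← hn]
        change (n : G)⁻¹ * ((n : G) * (b : G) * (n : G)⁻¹) * (n : G)⁻¹⁻¹ = b
        group)
    apply Nat.card_le_card_of_surjective f
    intro c
    obtain ⟨x, rfl⟩ := toPClass_surjective P c
    exact ⟨Quotient.mk'' x, rfl⟩
  let C' : Subgroup N := (Subgroup.centralizer ((P : Subgroup G) : Set G)).subgroupOf N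
  have hfix1 : ∀ n : N, Fintype.card (MulAction.fixedBy (P : Subgroup G) n) ≤
      Fintype.card (P : Subgroup G) := fun n => Fintype.card_subtype_le _
  have hfix2 : ∀ n : N, n ∉ C' → p * Fintype.card (MulAction.fixedBy (P : Subgroup G) n) ≤
      Fintype.card (P : Subgroup G) := by
    intro n hn
    let F : Subgroup (P : Subgroup G) :=
      (Subgroup.centralizer ({(n : G)} : Set G)).subgroupOf (P : Subgroup G)
    have hF : ∀ x : (P : Subgroup G), x ∈ F ↔ x ∈ MulAction.fixedBy (P : Subgroup G) n := by
      intro x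
      rw [Subgroup.mem_subgroupOf, Subgroup.mem_centralizer_iff, MulAction.mem_fixedBy]
      simp only [Set.mem_singleton_iff, forall_eq]
      constructor
      · intro h
        apply Subtype.ext
        change (n : G) * x * (n : G)⁻¹ = x
        rw [h, mul_inv_cancel_right]
      · intro h
        have h1 : (n : G) * x * (n : G)⁻¹ = x := congrArg Subtype.val h
        rw [mul_inv_eq_iff_eq_mul] at h1
        exact h1
    have hcard : Fintype.card (MulAction.fixedBy (P : Subgroup G) n) = Nat.card F := by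
      rw [← Nat.card_eq_fintype_card]
      exact Nat.card_congr (Equiv.subtypeEquivRight (fun x => (hF x).symm))
    have hFtop : F ≠ ⊤ := by
      intro h
      apply hn
      change (n : G) ∈ Subgroup.centralizer ((P : Subgroup G) : Set G)
      rw [Subgroup.mem_centralizer_iff]
      intro x hx
      have h1 : (⟨x, hx⟩ : (P : Subgroup G)) ∈ F := h ▸ Subgroup.mem_top _
      have h2 : (n : G) * x = x * n := Subgroup.mem_centralizer_iff.mp h1 (n : G) rfl
      exact h2.symm
    obtain ⟨k, hk⟩ := P.isPGroup'.index F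
    have hk0 : k ≠ 0 := by
      rintro rfl
      rw [pow_zero, Subgroup.index_eq_one] at hk
      exact hFtop hk
    have hdvd : p ∣ F.index := by
      rw [hk]; exact dvd_pow_self _ hk0
    have h3 := Subgroup.card_mul_index F
    rw [hcard, ← Nat.card_eq_fintype_card]
    rw [← h3, mul_comm]
    exact Nat.mul_le_mul_left _ (Nat.le_of_dvd F.index_ne_zero_of_finite.bot_lt hdvd)
  obtain ⟨m, hm⟩ : ∃ m, p = m + 1 := ⟨p - 1, (Nat.sub_add_cancel hp.out.one_le).symm⟩
  have hsum : ∑ n : N, p * Fintype.card (MulAction.fixedBy (P : Subgroup G) n) ≤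
      ∑ n : N, Fintype.card (P : Subgroup G) * (1 + if n ∈ C' then m else 0) := by
    apply Finset.sum_le_sum
    intro n _
    by_cases hn : n ∈ C'
    · simp only [hn, if_true]
      have h1m : 1 + m = p := by omega
      rw [h1m, mul_comm]
      exact Nat.mul_le_mul_right _ (hfix1 n)
    · simp only [hn, if_false]
      simpa using hfix2 n hn
  have hsum2 : ∑ n : N, (1 + if n ∈ C' then m else 0) = Nat.card N + Nat.card C' * m := by
    rw [Finset.sum_add_distrib, Finset.sum_ite, Finset.sum_const_zero, add_zero, Finset.sum_const,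
      Finset.sum_const, smul_eq_mul, smul_eq_mul, mul_one, Finset.card_univ,
      ← Nat.card_eq_fintype_card, Nat.card_eq_fintype_card (α := C'),
      Fintype.card_subtype]
  rw [← Finset.mul_sum, ← Finset.mul_sum, hsum2, hB] at hsum
  rw [← Nat.card_eq_fintype_card (α := N), ← Nat.card_eq_fintype_card (α := (P : Subgroup G))] at hsum
  have hm' : p - 1 = m := by omega
  rw [hm']
  calc p * (Nat.card (PClasses p G) * Nat.card N)
      ≤ p * (Fintype.card (MulAction.orbitRel.Quotient N (P : Subgroup G)) * Nat.card N) :=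
        Nat.mul_le_mul_left _ (Nat.mul_le_mul_right _ hle)
    _ ≤ _ := hsum

end core

section odd

variable {r : ℕ} [hr : Fact r.Prime]

/-- If `x` lies in an abelian Sylow `r`-subgroup `R` (`r` odd) of a group with a normal `2`-complement, and
`x` has a class of odd size, then `N(R) ∩ C(x)` has odd index. -/
theorem not_two_dvd_index_inf (hr2 : r ≠ 2) (R : Sylow r G) (hab : IsMulCommutative (R : Subgroup G))
    (hK : HasNormalPComplement 2 G) {x : G} (hxR : x ∈ (R : Subgroup G))
    (hx : ¬ 2 ∣ (Subgroup.centralizer ({x} : Set G)).index) :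
    ¬ 2 ∣ (Subgroup.normalizer ((R : Subgroup G) : Set G) ⊓
      Subgroup.centralizer ({x} : Set G)).index := by
  set L : Subgroup G := Subgroup.centralizer ({x} : Set G) with hL
  set K : Subgroup G := pResidual 2 G with hKdef
  have hRL : (R : Subgroup G) ≤ L := by
    intro y hy
    rw [hL, Subgroup.mem_centralizer_iff]
    intro z hz
    rw [Set.mem_singleton_iff.mp hz]
    have := hab.is_comm.comm ⟨x, hxR⟩ ⟨y, hy⟩
    exact congrArg Subtype.val this
  have hKc : Nat.Coprime (Nat.card K) 2 := hasNormalPComplement_iff_pResidual.mp hK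
  haveI hKn : (K.subgroupOf L).Normal := inferInstance
  let R' : Sylow r L := R.subtype hRL
  have hR'K : (R' : Subgroup L) ≤ K.subgroupOf L := by
    intro w hw
    have hw' : (w : G) ∈ (R : Subgroup G) := by
      have : w ∈ (R : Subgroup G).subgroupOf L := by
        rw [← Sylow.coe_subtype R hRL]
        exact hw
      exact Subgroup.mem_subgroupOf.mp this
    rw [Subgroup.mem_subgroupOf]
    apply mem_pResidual_of_coprime
    obtain ⟨k, hk⟩ := (IsPGroup.iff_orderOf.mp R.isPGroup') ⟨_, hw'⟩
    have h1 : orderOf (w : G) = r ^ k := by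
      rw [← hk, Subgroup.orderOf_mk]
    rw [h1]
    exact Nat.Coprime.pow_left k ((Nat.coprime_primes hr.out Nat.prime_two).mpr hr2)
  have hF := Sylow.normalizer_sup_eq_top' R' hR'K
  have h1 := index_dvd_card_of_sup_eq_top _ _ hF
  have h2 : Nat.card (K.subgroupOf L) ∣ Nat.card K := by
    have h3 : Nat.card ((K.subgroupOf L).map L.subtype) = Nat.card (K.subgroupOf L) :=
      Subgroup.card_map_of_injective L.subtype_injective
    rw [← h3]
    refine Subgroup.card_dvd_of_le ?_
    rintro _ ⟨w, hw, rfl⟩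
    exact Subgroup.mem_subgroupOf.mp hw
  have h4 : (Subgroup.normalizer ((R : Subgroup G) : Set G) ⊓ L).relIndex L ∣
      (Subgroup.normalizer ((R' : Subgroup L) : Set L)).index := by
    refine Subgroup.index_dvd_of_le ?_
    intro z hz
    rw [Subgroup.mem_subgroupOf]
    refine ⟨?_, z.2⟩
    refine Cfsg.Agent.Lib.Transfer.Cor4.mem_normalizer_of_conj_mem ?_
    intro y hy
    have hy1 : (⟨y, hRL hy⟩ : L) ∈ (R' : Subgroup L) := by
      rw [Sylow.coe_subtype R hRL]
      exact Subgroup.mem_subgroupOf.mpr hy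
    have hy2 := (Subgroup.mem_normalizer_iff.mp hz _).mp hy1
    rw [Sylow.coe_subtype R hRL] at hy2
    exact Subgroup.mem_subgroupOf.mp hy2
  have h5 : (Subgroup.normalizer ((R : Subgroup G) : Set G) ⊓ L).relIndex L *  L.index =
      (Subgroup.normalizer ((R : Subgroup G) : Set G) ⊓ L).index :=
    Subgroup.relIndex_mul_index inf_le_right
  rw [← h5]
  intro h6
  rcases (Nat.Prime.dvd_mul Nat.prime_two).mp h6 with h7 | h7
  · have h8 : 2 ∣ Nat.card K := h7.trans (h4.trans (h1.trans h2))
    have h9 := Nat.dvd_gcd h8 (dvd_refl 2)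
    rw [hKc.gcd_eq_one] at h9
    omega
  · exact hx h7

/-- Classes of `r`-elements of odd size. -/
abbrev OddClasses (r : ℕ) (G : Type u) [Group G] : Type u :=
  {c : PClasses r G // ¬ 2 ∣ (Subgroup.centralizer ({rep c.1} : Set G)).index}

/-- If a `2`-subgroup of `N(R)` acts nontrivially on the abelian Sylow subgroup `R` then few classes of
`r`-elements have odd size. -/
theorem mul_card_oddClasses_le (hr2 : r ≠ 2) (R : Sylow r G) (hab : IsMulCommutative (R : Subgroup G))
    (hK : HasNormalPComplement 2 G)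
    (T : Subgroup (Subgroup.normalizer ((R : Subgroup G) : Set G))) (hT : IsPGroup 2 T)
    (hne : ¬ ∀ t ∈ T, ∀ z ∈ (R : Subgroup G), ((t : G)) * z = z * (t : G)) :
    r * Nat.card (OddClasses r G) ≤ Nat.card (R : Subgroup G) := by
  classical
  let N : Subgroup G := Subgroup.normalizer ((R : Subgroup G) : Set G)
  let A : Subgroup (R : Subgroup G) :=
    (Subgroup.centralizer (((T.map N.subtype : Subgroup G)) : Set G)).subgroupOf (R : Subgroup G)
  have hAmem : ∀ z : (R : Subgroup G), z ∈ A ↔ ∀ t ∈ T, (t : G) * (z : G) = (z : G) * (t : G) := by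
    intro z
    rw [Subgroup.mem_subgroupOf, Subgroup.mem_centralizer_iff]
    constructor
    · intro h t ht
      exact h t (Subgroup.mem_map_of_mem _ ht)
    · rintro h _ ⟨t, ht, rfl⟩
      exact h t ht
  have hAtop : A ≠ ⊤ := by
    intro h
    apply hne
    intro t ht z hz
    have : (⟨z, hz⟩ : (R : Subgroup G)) ∈ A := h ▸ Subgroup.mem_top _
    exact (hAmem _).mp this t ht
  have hAcard : r * Nat.card A ≤ Nat.card (R : Subgroup G) := by
    obtain ⟨k, hk⟩ := R.isPGroup'.index A
    have hk0 : k ≠ 0 := by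
      rintro rfl
      rw [pow_zero, Subgroup.index_eq_one] at hk
      exact hAtop hk
    rw [← A.card_mul_index, hk, mul_comm]
    apply Nat.mul_le_mul_left
    calc r = r ^ 1 := (pow_one r).symm
      _ ≤ r ^ k := Nat.pow_le_pow_right hr.out.pos (Nat.pos_of_ne_zero hk0)
  have key : ∀ c : OddClasses r G, ∃ z : A, toPClass R (z : (R : Subgroup G)) = c.1 := by
    rintro ⟨c, hc⟩
    obtain ⟨x, hx⟩ := toPClass_surjective R c
    have hconj : IsConj (rep c.1) (x : G) := by
      rw [← ConjClasses.mk_eq_mk_iff_isConj, mk_rep, ← hx]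
      rfl
    have hxodd : ¬ 2 ∣ (Subgroup.centralizer ({(x : G)} : Set G)).index := by
      obtain ⟨a, ha⟩ := isConj_iff.mp hconj
      rw [← ha, index_centralizer_conj]
      exact hc
    have h1 := not_two_dvd_index_inf hr2 R hab hK x.2 hxodd
    set D : Subgroup G := N ⊓ Subgroup.centralizer ({(x : G)} : Set G) with hD
    have h2 : D.relIndex N * N.index = D.index := Subgroup.relIndex_mul_index inf_le_left
    have h3 : ¬ 2 ∣ (D.subgroupOf N).index := by
      intro h4
      apply h1
      rw [← h2]
      exact Dvd.dvd.mul_right h4 _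
    obtain ⟨a, ha⟩ := exists_conj_le T (D.subgroupOf N) hT h3
    have hz : (a : G) * (x : G) * (a : G)⁻¹ ∈ (R : Subgroup G) :=
      (Subgroup.mem_normalizer_iff.mp a.2 x).mp x.2
    have hzA : (⟨_, hz⟩ : (R : Subgroup G)) ∈ A := by
      rw [hAmem]
      intro t ht
      have h4 := ha t ht
      have h5 : ((a⁻¹ * t * a : N) : G) ∈ Subgroup.centralizer ({(x : G)} : Set G) :=
        (Subgroup.mem_subgroupOf.mp h4).2
      have h6 := Subgroup.mem_centralizer_iff.mp h5 (x : G) rfl
      simp only [Subgroup.coe_mul, Subgroup.coe_inv] at h6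
      change (t : G) * ((a : G) * (x : G) * (a : G)⁻¹) = ((a : G) * (x : G) * (a : G)⁻¹) * (t : G)
      have h7 : (a : G) * ((x : G) * ((a : G)⁻¹ * (t : G) * (a : G))) * (a : G)⁻¹ =
          (a : G) * (((a : G)⁻¹ * (t : G) * (a : G)) * (x : G)) * (a : G)⁻¹ := by rw [h6]
      calc (t : G) * ((a : G) * (x : G) * (a : G)⁻¹)
          = (a : G) * (((a : G)⁻¹ * (t : G) * (a : G)) * (x : G)) * (a : G)⁻¹ := by group
        _ = (a : G) * ((x : G) * ((a : G)⁻¹ * (t : G) * (a : G))) * (a : G)⁻¹ := h7.symm
        _ = ((a : G) * (x : G) * (a : G)⁻¹) * (t : G) := by group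
    refine ⟨⟨⟨_, hz⟩, hzA⟩, ?_⟩
    exact ((toPClass_eq_iff R _ x).mpr (isConj_comm.mp (isConj_iff.mpr ⟨a, rfl⟩))).trans hx
  choose f hf using key
  have hinj : Function.Injective f := by
    intro c c' hcc
    apply Subtype.ext
    rw [← hf c, ← hf c', hcc]
  calc r * Nat.card (OddClasses r G) ≤ r * Nat.card A :=
        Nat.mul_le_mul_left _ (Nat.card_le_card_of_injective f hinj)
    _ ≤ _ := hAcard

omit hr in
theorem card_oddClasses_le : Nat.card (OddClasses r G) ≤ Nat.card (PClasses r G) :=
  Nat.card_le_card_of_injective Subtype.val Subtype.val_injective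

theorem arith_core {m k q a c : ℕ} (hc : 0 < c) (hm : 2 ≤ m)
    (h : (m + 1) * (k * (c * a)) ≤ q * (c * a + c * m))
    (ha : (5 ≤ a) ∨ (3 ≤ a ∧ 4 ≤ m)) : 2 * k ≤ q := by
  have h1 : (m + 1) * (k * a) ≤ q * (a + m) := by
    apply Nat.le_of_mul_le_mul_left _ hc
    calc c * ((m + 1) * (k * a)) = (m + 1) * (k * (c * a)) := by ring
      _ ≤ q * (c * a + c * m) := h
      _ = c * (q * (a + m)) := by ring
  have h2 : 2 * (a + m) ≤ (m + 1) * a := by
    rcases ha with ha | ⟨ha, hm4⟩
    · nlinarith
    · nlinarith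
  have ha0 : 0 < a := by
    rcases ha with ha | ⟨ha, _⟩ <;> omega
  have h3 : 0 < (m + 1) * a := by positivity
  apply Nat.le_of_mul_le_mul_right _ h3
  calc 2 * k * ((m + 1) * a) = 2 * ((m + 1) * (k * a)) := by ring
    _ ≤ 2 * (q * (a + m)) := Nat.mul_le_mul_left _ h1
    _ = q * (2 * (a + m)) := by ring
    _ ≤ q * ((m + 1) * a) := Nat.mul_le_mul_left _ h2

/-- The key bound. -/
theorem card_add_odd_le (hr2 : r ≠ 2) (R : Sylow r G) (hK : HasNormalPComplement 2 G)
    (hN : ¬ Subgroup.normalizer ((R : Subgroup G) : Set G) ≤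
      Subgroup.centralizer ((R : Subgroup G) : Set G)) :
    Nat.card (PClasses r G) + Nat.card (OddClasses r G) ≤ Nat.card (R : Subgroup G) := by
  classical
  have hodd := card_oddClasses_le (r := r) (G := G)
  by_cases hab : IsMulCommutative (R : Subgroup G)
  · set N : Subgroup G := Subgroup.normalizer ((R : Subgroup G) : Set G) with hNdef
    let C' : Subgroup N := (Subgroup.centralizer ((R : Subgroup G) : Set G)).subgroupOf N
    obtain ⟨T⟩ : Nonempty (Sylow 2 N) := inferInstance
    by_cases hT : ∀ t ∈ (T : Subgroup N), ∀ z ∈ (R : Subgroup G), ((t : G)) * z = z * (t : G)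
    · -- the index is odd
      have hTC : (T : Subgroup N) ≤ C' := by
        intro t ht
        rw [Subgroup.mem_subgroupOf, Subgroup.mem_centralizer_iff]
        exact fun z hz => (hT t ht z hz).symm
      have hRN : (R : Subgroup G) ≤ N := Subgroup.le_normalizer
      let R₁ : Sylow r N := R.subtype hRN
      have hRC : (R₁ : Subgroup N) ≤ C' := by
        intro t ht
        have ht' : (t : G) ∈ (R : Subgroup G) := by
          have : t ∈ (R : Subgroup G).subgroupOf N := by
            rw [← Sylow.coe_subtype R hRN]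
            exact ht
          exact Subgroup.mem_subgroupOf.mp this
        rw [Subgroup.mem_subgroupOf, Subgroup.mem_centralizer_iff]
        intro z hz
        have := hab.is_comm.comm ⟨z, hz⟩ ⟨t, ht'⟩
        exact congrArg Subtype.val this
      have h2a : ¬ 2 ∣ C'.index := fun h =>
        T.not_dvd_index (h.trans (Subgroup.index_dvd_of_le hTC))
      have hra : ¬ r ∣ C'.index := fun h =>
        R₁.not_dvd_index (h.trans (Subgroup.index_dvd_of_le hRC))
      have ha1 : C'.index ≠ 1 := by
        intro h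
        rw [Subgroup.index_eq_one] at h
        apply hN
        intro x hx
        have h1 : (⟨x, hx⟩ : N) ∈ C' := h ▸ Subgroup.mem_top _
        exact h1
      have hr3 : 3 ≤ r := by
        have := hr.out.two_le
        omega
      obtain ⟨m, rfl⟩ : ∃ m, r = m + 1 := ⟨r - 1, by omega⟩
      have hcore := count_core R
      have hcard : Nat.card N = Nat.card C' * C'.index := C'.card_mul_index.symm
      simp only [Nat.add_sub_cancel] at hcore
      change (m + 1) * (Nat.card (PClasses (m + 1) G) * Nat.card N) ≤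
        Nat.card (R : Subgroup G) * (Nat.card N + Nat.card C' * m) at hcore
      rw [hcard] at hcore
      have ha0 : C'.index ≠ 0 := Subgroup.index_ne_zero_of_finite
      have hcond : 5 ≤ C'.index ∨ (3 ≤ C'.index ∧ 4 ≤ m) := by
        have h5 : C'.index ≠ 2 := by
          intro h
          rw [h] at h2a
          exact h2a (by norm_num)
        have h6 : C'.index ≠ 4 := by
          intro h
          rw [h] at h2a
          exact h2a (by norm_num)
        by_cases hm4 : 4 ≤ m
        · right
          omega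
        · left
          have hm23 : m + 1 = 3 ∨ m + 1 = 4 := by omega
          rcases hm23 with h7 | h7
          · have h8 : C'.index ≠ 3 := fun h => hra (by rw [h7, h])
            omega
          · exfalso
            have := hr.out
            rw [h7] at this
            norm_num at this
      have h2k := arith_core Nat.card_pos (by omega) hcore hcond
      omega
    · -- a `2`-element acts nontrivially
      have h1 := mul_card_oddClasses_le hr2 R hab hK T T.isPGroup' hT
      have h2 := two_mul_card_pClasses_le R hN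
      have hr3 : 3 ≤ r := by
        have := hr.out.two_le
        omega
      have hrpos : 0 < 2 * r := by omega
      apply Nat.le_of_mul_le_mul_left _ hrpos
      calc 2 * r * (Nat.card (PClasses r G) + Nat.card (OddClasses r G))
          = 2 * r * Nat.card (PClasses r G) + 2 * (r * Nat.card (OddClasses r G)) := by ring
        _ ≤ (r + 1) * Nat.card (R : Subgroup G) + 2 * Nat.card (R : Subgroup G) :=
            Nat.add_le_add h2 (Nat.mul_le_mul_left _ h1)
        _ = (r + 3) * Nat.card (R : Subgroup G) := by ring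
        _ ≤ 2 * r * Nat.card (R : Subgroup G) := Nat.mul_le_mul_right _ (by omega)
  · -- non-abelian Sylow subgroup
    have h1 := card_pClasses_le_card_conjClasses R
    have h2 := two_mul_card_conjClasses_lt hr2 R.isPGroup' hab
    omega

end odd

section final

theorem card_sClasses_insert_le_sum (s : ℕ) [hs : Fact s.Prime] (σ : Finset ℕ)
    [Fintype (PClasses s G)] :
    Nat.card (SClasses (insert s σ) G) ≤ ∑ c : PClasses s G, Nat.card (SClasses σ (repC c.1)) := by
  classical
  choose c e w h1 h2 using exists_decomp (G := G) s σ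
  let f : SClasses (insert s σ) G → Σ c : PClasses s G, SClasses σ (repC c.1) :=
    fun d => ⟨c d, e d⟩
  have hf : Function.Injective f := by
    intro d d' hdd
    have hc : c d = c d' := congrArg Sigma.fst hdd
    have he : HEq (e d) (e d') := (Sigma.mk.inj_iff.mp hdd).2
    apply Subtype.ext
    rw [← h2 d, ← h2 d']
    have key : ∀ (c₀ c₁ : PClasses s G) (e₀ : SClasses σ (repC c₀.1)) (e₀' : SClasses σ (repC c₁.1))
        (w₀ : repC c₀.1) (w₀' : repC c₁.1), c₀ = c₁ →
        HEq e₀ e₀' → ConjClasses.mk w₀ = e₀.1 → ConjClasses.mk w₀' = e₀'.1 →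
          ConjClasses.mk (rep c₀.1 * (w₀ : G)) = ConjClasses.mk (rep c₁.1 * (w₀' : G)) := by
      intro c₀ c₁ e₀ e₀' w₀ w₀' hcc hee h3 h4
      subst hcc
      have hee' : e₀ = e₀' := eq_of_heq hee
      rw [hee'] at h3
      have h5 : IsConj w₀ w₀' := ConjClasses.mk_eq_mk_iff_isConj.mp (h3.trans h4.symm)
      obtain ⟨t, ht⟩ := isConj_iff.mp h5
      rw [ConjClasses.mk_eq_mk_iff_isConj, isConj_iff]
      refine ⟨t, ?_⟩
      have ht1 : (t : G) * (w₀ : G) * (t : G)⁻¹ = (w₀' : G) := by
        have := congrArg (Subtype.val) ht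
        simpa using this
      have ht2 : (t : G) * rep c₀.1 = rep c₀.1 * (t : G) :=
        (Subgroup.mem_centralizer_iff.mp t.2 (rep c₀.1) (Set.mem_singleton _)).symm
      rw [← ht1]
      calc (t : G) * (rep c₀.1 * (w₀ : G)) * (t : G)⁻¹ = ((t : G) * rep c₀.1) * (w₀ : G) * (t : G)⁻¹ := by group
        _ = (rep c₀.1 * (t : G)) * (w₀ : G) * (t : G)⁻¹ := by rw [ht2]
        _ = rep c₀.1 * ((t : G) * (w₀ : G) * (t : G)⁻¹) := by group
    exact key _ _ _ _ _ _ hc he (h1 d) (h1 d')
  calc Nat.card (SClasses (insert s σ) G) ≤ Nat.card (Σ c : PClasses s G, SClasses σ (repC c.1)) :=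
        Nat.card_le_card_of_injective f hf
    _ = ∑ c : PClasses s G, Nat.card (SClasses σ (repC c.1)) := by
        rw [Nat.card_sigma]

/-- The weight of a class. -/
theorem two_mul_pow_le (Y : Subgroup G) :
    2 * 2 ^ (Nat.card Y).factorization 2 ≤
      (1 + if ¬ 2 ∣ Y.index then 1 else 0) * 2 ^ (Nat.card G).factorization 2 := by
  have hdvd : Nat.card Y ∣ Nat.card G := Subgroup.card_subgroup_dvd_card Y
  have hle : (Nat.card Y).factorization 2 ≤ (Nat.card G).factorization 2 :=
    (Nat.factorization_le_iff_dvd Nat.card_pos.ne' Nat.card_pos.ne').mpr hdvd 2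
  by_cases h : 2 ∣ Y.index
  · simp only [h, not_true_eq_false, if_false, add_zero, one_mul]
    obtain ⟨j, hj⟩ := h
    have h1 : Nat.card G = Nat.card Y * 2 * j := by
      rw [← Y.card_mul_index, hj]; ring
    have hj0 : j ≠ 0 := by
      rintro rfl
      have : 0 < Nat.card G := Nat.card_pos
      omega
    have h2 : Nat.card Y * 2 ∣ Nat.card G := ⟨j, h1⟩
    have h3 := (Nat.factorization_le_iff_dvd (Nat.mul_ne_zero Nat.card_pos.ne' (by norm_num)) Nat.card_pos.ne').mpr h2 2
    rw [Nat.factorization_mul Nat.card_pos.ne' (by norm_num), Nat.Prime.factorization Nat.prime_two] at h3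
    simp only [Finsupp.coe_add, Pi.add_apply, Finsupp.single_eq_same] at h3
    calc 2 * 2 ^ (Nat.card Y).factorization 2 = 2 ^ ((Nat.card Y).factorization 2 + 1) := by
          rw [pow_succ]; ring
      _ ≤ _ := Nat.pow_le_pow_right (by norm_num) h3
  · simp only [h, not_false_eq_true, if_true]
    exact Nat.mul_le_mul_left _ (Nat.pow_le_pow_right (by norm_num) hle)

theorem two_mul_card_le (π : Finset ℕ) (hπ : ∀ r ∈ π, r.Prime)
    (r : ℕ) [hr : Fact r.Prime] (hr2 : r ≠ 2) (hrπ : r ∈ π) (h2 : 2 ∈ π) :
    2 * Nat.card (SClasses π G) ≤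
      (Nat.card (PClasses r G) + Nat.card (OddClasses r G)) *
        (2 ^ (Nat.card G).factorization 2 *
          ∏ t ∈ (π.erase r).erase 2, t ^ (Nat.card G).factorization t) := by
  classical
  haveI := Fintype.ofFinite (PClasses r G)
  have h2' : 2 ∈ π.erase r := Finset.mem_erase.mpr ⟨hr2.symm, h2⟩
  have hπ' : ∀ t ∈ π.erase r, t.Prime := fun t ht => hπ t (Finset.mem_of_mem_erase ht)
  have hπ'' : ∀ t ∈ (π.erase r).erase 2, t.Prime := fun t ht => hπ' t (Finset.mem_of_mem_erase ht)
  set E := ∏ t ∈ (π.erase r).erase 2, t ^ (Nat.card G).factorization t with hE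
  have hbound : ∀ c : PClasses r G, 2 * Nat.card (SClasses (π.erase r) (repC c.1)) ≤
      (1 + if ¬ 2 ∣ (repC c.1).index then 1 else 0) * (2 ^ (Nat.card G).factorization 2 * E) := by
    intro c
    have h1 := card_sClasses_le (π.erase r) hπ' (repC c.1)
    rw [← Finset.mul_prod_erase _ _ h2'] at h1
    have h3 : ∏ t ∈ (π.erase r).erase 2, t ^ (Nat.card (repC c.1)).factorization t ≤ E := by
      refine Finset.prod_le_prod' (fun t ht => ?_)
      refine Nat.pow_le_pow_right (hπ'' t ht).pos ?_
      exact (Nat.factorization_le_iff_dvd Nat.card_pos.ne' Nat.card_pos.ne').mpr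
        (Subgroup.card_subgroup_dvd_card _) t
    have h4 := two_mul_pow_le (repC c.1)
    calc 2 * Nat.card (SClasses (π.erase r) (repC c.1))
        ≤ 2 * (2 ^ (Nat.card (repC c.1)).factorization 2 *
            ∏ t ∈ (π.erase r).erase 2, t ^ (Nat.card (repC c.1)).factorization t) :=
          Nat.mul_le_mul_left _ h1
      _ ≤ 2 * (2 ^ (Nat.card (repC c.1)).factorization 2 * E) :=
          Nat.mul_le_mul_left _ (Nat.mul_le_mul_left _ h3)
      _ = (2 * 2 ^ (Nat.card (repC c.1)).factorization 2) * E := by ring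
      _ ≤ ((1 + if ¬ 2 ∣ (repC c.1).index then 1 else 0) * 2 ^ (Nat.card G).factorization 2) * E :=
          Nat.mul_le_mul_right _ h4
      _ = _ := by ring
  have hsum := card_sClasses_insert_le_sum (G := G) r (π.erase r)
  rw [Finset.insert_erase hrπ] at hsum
  have hw : ∑ c : PClasses r G, (1 + if ¬ 2 ∣ (repC c.1).index then 1 else 0) =
      Nat.card (PClasses r G) + Nat.card (OddClasses r G) := by
    rw [Finset.sum_add_distrib, Finset.sum_ite, Finset.sum_const_zero, add_zero, Finset.sum_const,
      Finset.sum_const, smul_eq_mul, smul_eq_mul, mul_one, mul_one, Finset.card_univ,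
      ← Nat.card_eq_fintype_card, Nat.card_eq_fintype_card (α := OddClasses r G),
      Fintype.card_subtype]
  calc 2 * Nat.card (SClasses π G)
      ≤ 2 * ∑ c : PClasses r G, Nat.card (SClasses (π.erase r) (repC c.1)) :=
        Nat.mul_le_mul_left _ hsum
    _ = ∑ c : PClasses r G, 2 * Nat.card (SClasses (π.erase r) (repC c.1)) := Finset.mul_sum _ _ _
    _ ≤ ∑ c : PClasses r G, (1 + if ¬ 2 ∣ (repC c.1).index then 1 else 0) *
          (2 ^ (Nat.card G).factorization 2 * E) := Finset.sum_le_sum (fun c _ => hbound c)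
    _ = _ := by rw [← Finset.sum_mul, hw]

/-- `S3898`. -/
theorem normal_complement_of_many_classes_two (π : Finset ℕ) (hπ : ∀ r ∈ π, r.Prime) (h2 : 2 ∈ π)
    (hk : π.prod (fun r => r ^ (Nat.card G).factorization r) < 2 * Nat.card (SClasses π G)) :
    (∃ N : Subgroup G, N.Normal ∧ (∀ r : ℕ, r.Prime → r ∣ Nat.card ↥N → r ∉ π) ∧
        ∀ r : ℕ, r.Prime → r ∣ N.index → r ∈ π) ∧
      ∃ H : Subgroup G, Cfsg.IsPiHall ((↑π : Set ℕ) \ {2}) H ∧ IsMulCommutative ↥H := by
  classical
  haveI : Fact (Nat.Prime 2) := ⟨Nat.prime_two⟩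
  -- the normal `2`-complement
  have h2n : HasNormalPComplement 2 G := by
    obtain ⟨T⟩ : Nonempty (Sylow 2 G) := inferInstance
    have hsplit := Finset.mul_prod_erase π (fun r => r ^ (Nat.card G).factorization r) h2
    have hcard := card_sClasses_le_mul (G := G) π hπ 2 h2
    have hE : 0 < ∏ t ∈ π.erase 2, t ^ (Nat.card G).factorization t :=
      Finset.prod_pos (fun t ht => pow_pos (hπ t (Finset.mem_of_mem_erase ht)).pos _)
    have hTc : Nat.card (T : Subgroup G) = 2 ^ (Nat.card G).factorization 2 :=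
      Sylow.card_eq_multiplicity T
    refine ((many_two_classes_iff T).mp ?_).1
    rw [hTc]
    apply Nat.lt_of_mul_lt_mul_right (a := ∏ t ∈ π.erase 2, t ^ (Nat.card G).factorization t)
    calc 2 ^ (Nat.card G).factorization 2 * ∏ t ∈ π.erase 2, t ^ (Nat.card G).factorization t
        = π.prod (fun r => r ^ (Nat.card G).factorization r) := hsplit
      _ < 2 * Nat.card (SClasses π G) := hk
      _ ≤ 2 * (Nat.card (PClasses 2 G) * ∏ t ∈ π.erase 2, t ^ (Nat.card G).factorization t) :=
          Nat.mul_le_mul_left _ hcard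
      _ = _ := by ring
  -- odd primes
  have hodd : ∀ (r : ℕ) [Fact r.Prime], r ∈ π → r ≠ 2 → HasNormalPComplement r G ∧
      ∀ P : Sylow r G, IsMulCommutative (P : Subgroup G) := by
    intro r _ hr hr2
    have h2' : 2 ∈ π.erase r := Finset.mem_erase.mpr ⟨hr2.symm, h2⟩
    have hsplit : π.prod (fun r => r ^ (Nat.card G).factorization r) =
        r ^ (Nat.card G).factorization r * (2 ^ (Nat.card G).factorization 2 *
          ∏ t ∈ (π.erase r).erase 2, t ^ (Nat.card G).factorization t) := by
      rw [Finset.mul_prod_erase (π.erase r) (fun r => r ^ (Nat.card G).factorization r) h2',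
        Finset.mul_prod_erase π (fun r => r ^ (Nat.card G).factorization r) hr]
    have hb := two_mul_card_le (G := G) π hπ r hr2 hr h2
    have hlt : r ^ (Nat.card G).factorization r <
        Nat.card (PClasses r G) + Nat.card (OddClasses r G) := by
      refine Nat.lt_of_mul_lt_mul_right (a := 2 ^ (Nat.card G).factorization 2 *
          ∏ t ∈ (π.erase r).erase 2, t ^ (Nat.card G).factorization t) ?_
      rw [← hsplit]
      exact hk.trans_le hb
    have hN : ∀ P : Sylow r G, Subgroup.normalizer ((P : Subgroup G) : Set G) ≤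
        Subgroup.centralizer ((P : Subgroup G) : Set G) := by
      intro P
      by_contra hcon
      have h3 := card_add_odd_le hr2 P h2n hcon
      have hPc : Nat.card (P : Subgroup G) = r ^ (Nat.card G).factorization r :=
        Sylow.card_eq_multiplicity P
      omega
    obtain ⟨P⟩ : Nonempty (Sylow r G) := inferInstance
    refine ⟨⟨P, _, inferInstance, MonoidHom.ker_transferSylow_isComplement' P (hN P)⟩, fun P' => ?_⟩
    refine ⟨⟨?_⟩⟩
    rintro ⟨a, ha⟩ ⟨b, hb⟩
    apply Subtype.ext
    exact (Subgroup.mem_centralizer_iff.mp (hN P' (Subgroup.le_normalizer ha)) b hb).symm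
  constructor
  · refine exists_normal_complement π hπ (fun r _ hr => ?_)
    by_cases hr2 : r = 2
    · subst hr2
      exact h2n
    · exact (hodd r hr hr2).1
  · obtain ⟨H, hH, hc⟩ := exists_abelian_hall (G := G) (π.erase 2)
      (fun r hr => hπ r (Finset.mem_of_mem_erase hr))
      (fun r _ hr => hodd r (Finset.mem_of_mem_erase hr) (Finset.ne_of_mem_erase hr))
    refine ⟨H, ?_, hc⟩
    rwa [Finset.coe_erase] at hH

end final

end Cfsg.Agent.Lib.Transfer.PiClasses2
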