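import Cfsg.Agent.Lib.Transfer.Cor2
import Cfsg.Agent.Lib.Core.Residual
import Cfsg.Agent.Lib.Coprime.SchurZassenhaus

/-!
# Splitting over `O^p(G)`

`S0092`: if the Sylow `p`-subgroups of `O^p(G)` are abelian, then `G` splits over `O^p(G)`.
-/

set_option autoImplicit false

namespace Cfsg.Agent.Lib.Transfer.Split

open Cfsg Cfsg.Agent.Lib.Transfer.Basic Cfsg.Agent.Lib.Transfer.Frobenius
  Cfsg.Agent.Lib.Transfer.Focal Cfsg.Agent.Lib.Transfer.Tate Cfsg.Agent.Lib.Transfer.Cor
  Cfsg.Agent.Lib.Transfer.Cor2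
open Cfsg.Agent.Lib.Coprime.SchurZassenhaus
open scoped Pointwise commutatorElement IsMulCommutative

universe u v

variable {G : Type u} [Group G] [Finite G] {p : ℕ} [hp : Fact p.Prime]

/-- A subgroup supplementing a normal subgroup `L` with `p`-group quotient, and meeting `L`
in a `p'`-group, contains a complement of `L`. -/
theorem exists_complement_of_sup (L : Subgroup G) [L.Normal] (hL : IsPGroup p (G ⧸ L))
    (H : Subgroup G) (hsup : H ⊔ L = ⊤) (hcop : Nat.Coprime p (Nat.card (H ⊓ L : Subgroup G))) :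
    ∃ R : Subgroup G, R ≤ H ∧ R.IsComplement' L := by
  obtain ⟨R₀⟩ : Nonempty (Sylow p H) := inferInstance
  set R : Subgroup G := (R₀ : Subgroup H).map H.subtype with hR
  refine ⟨R, Subgroup.map_subtype_le _, ?_⟩
  have hRcard : Nat.card R = Nat.card (R₀ : Subgroup H) :=
    Subgroup.card_map_of_injective H.subtype_injective
  have hidx : L.index = L.relIndex H := by
    rw [← Subgroup.relIndex_sup_right, hsup, Subgroup.relIndex_top_right]
  have hH : Nat.card H = L.index * Nat.card (H ⊓ L : Subgroup G) := by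
    rw [hidx, Subgroup.relIndex]
    have h1 := (L.subgroupOf H).index_mul_card
    have h2 : Nat.card (L.subgroupOf H) = Nat.card (H ⊓ L : Subgroup G) := by
      have h3 : L.subgroupOf H = (H ⊓ L).subgroupOf H := by
        rw [Subgroup.inf_subgroupOf_left]
      rw [h3]
      exact Nat.card_congr (Subgroup.subgroupOfEquivOfLe inf_le_left).toEquiv
    rw [← h2, h1]
  obtain ⟨a, ha⟩ := IsPGroup.iff_card.mp hL
  obtain ⟨b, hb⟩ := IsPGroup.iff_card.mp R₀.isPGroup'
  rw [← Subgroup.index_eq_card] at ha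
  have hRi : Nat.card H = Nat.card (R₀ : Subgroup H) * (R₀ : Subgroup H).index :=
    ((R₀ : Subgroup H).card_mul_index).symm
  have hidxR : Nat.Coprime p (R₀ : Subgroup H).index :=
    (Nat.Prime.coprime_iff_not_dvd hp.out).mpr R₀.not_dvd_index
  have hab : p ^ a = p ^ b := by
    rw [hH, ha, hb] at hRi
    apply Nat.dvd_antisymm
    · exact (Nat.Coprime.pow_left a hidxR).dvd_of_dvd_mul_right ⟨_, hRi.symm⟩
    · exact (Nat.Coprime.pow_left b hcop).dvd_of_dvd_mul_right ⟨_, hRi⟩
  apply Subgroup.isComplement'_of_card_mul_and_disjoint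
  · rw [hRcard, hb, ← hab, ← ha]
    exact L.index_mul_card
  · rw [disjoint_iff]
    apply Subgroup.card_eq_one.mp
    have h1 : Nat.card (R ⊓ L : Subgroup G) ∣ Nat.card R := Subgroup.card_dvd_of_le inf_le_left
    have h2 : Nat.card (R ⊓ L : Subgroup G) ∣ Nat.card (H ⊓ L : Subgroup G) :=
      Subgroup.card_dvd_of_le (inf_le_inf_right _ (Subgroup.map_subtype_le _))
    rw [hRcard, hb] at h1
    exact Nat.eq_one_of_dvd_coprimes (Nat.Coprime.pow_left b hcop) h1 h2

/-- A complement of a Sylow subgroup in its normalizer (Schur--Zassenhaus); also `p ∤ |K|`. -/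
theorem exists_complement_in_normalizer' (P : Sylow p G) :
    ∃ K : Subgroup G, K ≤ Subgroup.normalizer ((P : Subgroup G) : Set G) ∧
      Nat.Coprime p (Nat.card K) ∧
      ∀ n ∈ Subgroup.normalizer ((P : Subgroup G) : Set G), ∃ t ∈ (P : Subgroup G), ∃ k ∈ K, n = t * k := by
  set N := Subgroup.normalizer ((P : Subgroup G) : Set G) with hN
  have hle : (P : Subgroup G) ≤ N := Subgroup.le_normalizer
  let P' : Subgroup N := (P : Subgroup G).subgroupOf N
  haveI hP' : P'.Normal := Subgroup.normal_in_normalizer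
  have hcard : Nat.card P' = Nat.card (P : Subgroup G) :=
    Nat.card_congr (Subgroup.subgroupOfEquivOfLe hle).toEquiv
  have hidx : P'.index ∣ (P : Subgroup G).index := by
    have h := Subgroup.relIndex_mul_index hle
    exact ⟨N.index, h.symm⟩
  have hcopP : Nat.Coprime (Nat.card (P : Subgroup G)) (P : Subgroup G).index := P.card_coprime_index
  have hcop : Nat.Coprime (Nat.card P') P'.index := by
    rw [hcard]
    exact Nat.Coprime.coprime_dvd_right hidx hcopP
  obtain ⟨K', hK'⟩ := Subgroup.exists_right_complement'_of_coprime hcop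
  refine ⟨K'.map N.subtype, Subgroup.map_subtype_le _, ?_, ?_⟩
  · have h1 : Nat.card (K'.map N.subtype) = Nat.card K' :=
      Nat.card_congr (K'.equivMapOfInjective N.subtype N.subtype_injective).symm.toEquiv
    rw [h1, ← hK'.symm.index_eq_card]
    refine (Nat.Prime.coprime_iff_not_dvd hp.out).mpr fun hd => ?_
    exact P.not_dvd_index (hd.trans hidx)
  · intro n hn
    have hm : (⟨n, hn⟩ : N) ∈ P' ⊔ K' := hK'.sup_eq_top ▸ Subgroup.mem_top _
    obtain ⟨t, ht, k, hk, hkt⟩ := Subgroup.mem_sup_of_normal_left.mp hm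
    refine ⟨t, ht, k, ⟨k, hk, rfl⟩, ?_⟩
    have := congrArg Subtype.val hkt
    exact this.symm

/-- If `O^p(G) = G` and `Q` is an abelian Sylow subgroup then `Q` has a complement `K` in `N_G(Q)`
with `C_Q(K) = 1`. -/
theorem exists_complement_of_residual_top (Q : Sylow p G) (hQ : IsMulCommutative Q)
    (htop : pResidual p G = ⊤) :
    ∃ K : Subgroup G, K ≤ Subgroup.normalizer ((Q : Subgroup G) : Set G) ∧
      Nat.Coprime p (Nat.card K) ∧
      (∀ n ∈ Subgroup.normalizer ((Q : Subgroup G) : Set G), ∃ t ∈ (Q : Subgroup G), ∃ k ∈ K, n = t * k) ∧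
      (Q : Subgroup G) ⊓ Subgroup.centralizer (K : Set G) = ⊥ := by
  obtain ⟨K, hKle, hKcop, hdec⟩ := exists_complement_in_normalizer' Q
  refine ⟨K, hKle, hKcop, hdec, ?_⟩
  haveI hQc : IsMulCommutative (Q : Subgroup G) := hQ
  have hcommQ : ∀ a ∈ (Q : Subgroup G), ∀ b ∈ (Q : Subgroup G), a * b = b * a := by
    intro a ha b hb
    have := hQ.is_comm.comm (⟨a, ha⟩ : (Q : Subgroup G)) ⟨b, hb⟩
    exact congrArg Subtype.val this
  have h1 : (Q : Subgroup G) = ⁅(Q : Subgroup G), Subgroup.normalizer ((Q : Subgroup G) : Set G)⁆ := by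
    have := inf_pResidual_eq_of_abelian Q hQ
    rw [htop, inf_top_eq] at this
    exact this
  have h2 : ⁅(Q : Subgroup G), Subgroup.normalizer ((Q : Subgroup G) : Set G)⁆ ≤ ⁅(Q : Subgroup G), K⁆ := by
    rw [Subgroup.commutator_le]
    intro q hq n hn
    obtain ⟨t, ht, k, hk, rfl⟩ := hdec n hn
    have hq' : k * q⁻¹ * k⁻¹ ∈ (Q : Subgroup G) :=
      Cfsg.Agent.Lib.Coprime.Action.conj_mem_of_le_normalizer hKle hk (Subgroup.inv_mem _ hq)
    have h3 := hcommQ t ht _ hq'
    have h4 : ⁅q, t * k⁆ = ⁅q, k⁆ := by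
      rw [commutatorElement_def, commutatorElement_def]
      calc q * (t * k) * q⁻¹ * (t * k)⁻¹ = q * (t * (k * q⁻¹ * k⁻¹)) * t⁻¹ := by group
        _ = q * ((k * q⁻¹ * k⁻¹) * t) * t⁻¹ := by rw [h3]
        _ = q * k * q⁻¹ * k⁻¹ := by group
    rw [h4]
    exact Subgroup.commutator_mem_commutator hq hk
  have hcop : Nat.Coprime (Nat.card K) (Nat.card (Q : Subgroup G)) := by
    obtain ⟨b, hb⟩ := IsPGroup.iff_card.mp Q.isPGroup'
    rw [hb]
    exact (Nat.Coprime.pow_left b hKcop).symm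
  have h5 := Cfsg.Agent.Lib.Coprime.Abelian.inf_commutator_eq_bot hKle hcop
  rw [eq_bot_iff]
  intro x hx
  rw [← h5]
  exact ⟨hx, h2 (h1 ▸ hx.1)⟩

omit [Finite G] [hp : Fact p.Prime] in
/-- Normalizers and subgroups of subgroups. -/
theorem map_normalizer_eq (L : Subgroup G) (Q₀ : Subgroup L) :
    (Subgroup.normalizer (Q₀ : Set L)).map L.subtype =
      L ⊓ Subgroup.normalizer ((Q₀.map L.subtype : Subgroup G) : Set G) := by
  have hmem : ∀ y : L, (y : G) ∈ Q₀.map L.subtype ↔ y ∈ Q₀ := fun y =>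
    Subgroup.mem_map_iff_mem L.subtype_injective
  have hle : Q₀.map L.subtype ≤ L := Subgroup.map_subtype_le _
  apply le_antisymm
  · rintro _ ⟨n, hn, rfl⟩
    refine ⟨n.2, ?_⟩
    rw [SetLike.mem_coe, mem_normalizer_iff'] at hn
    refine mem_normalizer_iff'.mpr ?_
    intro y
    by_cases hy : y ∈ L
    · have h1 := hn ⟨y, hy⟩
      have h2 := hmem ⟨y, hy⟩
      have h3 := hmem (n * ⟨y, hy⟩ * n⁻¹)
      simp only [Subgroup.coe_mul, Subgroup.coe_inv] at h3
      exact h2.trans (h1.trans h3.symm)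
    · constructor
      · intro h; exact absurd (hle h) hy
      · intro h
        exfalso
        apply hy
        have h1 := hle h
        have h2 : y = (n : G)⁻¹ * ((n : G) * y * (n : G)⁻¹) * (n : G) := by group
        rw [h2]
        exact L.mul_mem (L.mul_mem (L.inv_mem n.2) h1) n.2
  · rintro x ⟨hxL, hx⟩
    refine ⟨⟨x, hxL⟩, ?_, rfl⟩
    replace hx := mem_normalizer_iff'.mp hx
    refine mem_normalizer_iff'.mpr ?_
    intro y
    have h1 := hx y
    have h2 := hmem y
    have h3 := hmem (⟨x, hxL⟩ * y * (⟨x, hxL⟩ : L)⁻¹)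
    simp only [Subgroup.coe_mul, Subgroup.coe_inv] at h3
    exact h2.symm.trans (h1.trans h3)

/-- `S0092`. -/
theorem exists_complement_pResidual (h : ∀ Q : Sylow p (pResidual p G), IsMulCommutative Q) :
    ∃ K : Subgroup G, K.IsComplement' (pResidual p G) := by
  set L := pResidual p G with hLdef
  obtain ⟨Q₀⟩ : Nonempty (Sylow p L) := inferInstance
  obtain ⟨K₀, hK₀le, hK₀cop, hK₀dec, hK₀C⟩ := exists_complement_of_residual_top Q₀ (h Q₀)
    Cfsg.Agent.Lib.Core.Residual.pResidual_pResidual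
  set Q : Subgroup G := (Q₀ : Subgroup L).map L.subtype with hQ
  set K : Subgroup G := K₀.map L.subtype with hK
  set M : Subgroup G := Subgroup.normalizer (Q : Set G) with hM
  have hQL : Q ≤ L := Subgroup.map_subtype_le _
  have hKL : K ≤ L := Subgroup.map_subtype_le _
  have hNM := map_normalizer_eq L (Q₀ : Subgroup L)
  have hKT : K ≤ L ⊓ M := by
    rw [← hNM]
    exact Subgroup.map_mono hK₀le
  have hQT : Q ≤ L ⊓ M := le_inf hQL Subgroup.le_normalizer
  have hdec : ∀ n ∈ L ⊓ M, ∃ t ∈ Q, ∃ k ∈ K, n = t * k := by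
    intro n hn
    rw [← hNM] at hn
    obtain ⟨n₀, hn₀, rfl⟩ := hn
    obtain ⟨t, ht, k, hk, rfl⟩ := hK₀dec n₀ hn₀
    exact ⟨t, ⟨t, ht, rfl⟩, k, ⟨k, hk, rfl⟩, rfl⟩
  have hcardK : Nat.card K = Nat.card K₀ := Subgroup.card_map_of_injective L.subtype_injective
  have hcardQ : Nat.card Q = Nat.card (Q₀ : Subgroup L) :=
    Subgroup.card_map_of_injective L.subtype_injective
  have hKcop : Nat.Coprime p (Nat.card K) := by rw [hcardK]; exact hK₀cop
  have hcop : Nat.Coprime (Nat.card Q) (Nat.card K) := by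
    obtain ⟨b, hb⟩ := IsPGroup.iff_card.mp Q₀.isPGroup'
    rw [hcardQ, hb]
    exact Nat.Coprime.pow_left b hKcop
  have hdisj : Q ⊓ K = ⊥ := disjoint_of_coprime_card hcop
  have hcommQ : IsMulCommutative Q := by
    refine ⟨⟨?_⟩⟩
    rintro ⟨_, a, ha, rfl⟩ ⟨_, b, hb, rfl⟩
    apply Subtype.ext
    have := (h Q₀).is_comm.comm (⟨a, ha⟩ : (Q₀ : Subgroup L)) ⟨b, hb⟩
    have h2 := congrArg (fun x : (Q₀ : Subgroup L) => ((x : L) : G)) this
    exact h2
  -- `C_Q(K) = 1`
  have hCQ : ∀ t ∈ Q, t ∈ Subgroup.centralizer (K : Set G) → t = 1 := by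
    rintro _ ⟨t, ht, rfl⟩ htC
    have : t ∈ (Q₀ : Subgroup L) ⊓ Subgroup.centralizer (K₀ : Set L) := by
      refine ⟨ht, Subgroup.mem_centralizer_iff.mpr ?_⟩
      intro k hk
      apply Subtype.ext
      exact Subgroup.mem_centralizer_iff.mp htC (k : G) ⟨k, hk, rfl⟩
    rw [hK₀C, Subgroup.mem_bot] at this
    rw [this]
    simp
  -- the Frattini argument for `K`
  have hfr : ∀ m ∈ M, ∃ a ∈ Q, a⁻¹ * m ∈ Subgroup.normalizer (K : Set G) := by
    intro m hm
    set T : Subgroup G := L ⊓ M with hT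
    have hKmT : MulAut.conj m • K ≤ T := by
      intro x hx
      rw [mem_conj_smul_iff] at hx
      have hx' := hKT hx
      have : x = m * (m⁻¹ * x * m) * m⁻¹ := by group
      rw [this]
      refine ⟨?_, ?_⟩
      · exact (inferInstance : L.Normal).conj_mem _ hx'.1 m
      · exact M.mul_mem (M.mul_mem hm hx'.2) (M.inv_mem hm)
    haveI hAn : (Q.subgroupOf T).Normal := by
      rw [Subgroup.normal_subgroupOf_iff hQT]
      intro a t ha ht
      exact (mem_normalizer_iff'.mp ht.2 a).mp ha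
    haveI hAc : IsMulCommutative (Q.subgroupOf T) := by
      refine ⟨⟨?_⟩⟩
      rintro ⟨a, ha⟩ ⟨b, hb⟩
      apply Subtype.ext
      apply Subtype.ext
      have := hcommQ.is_comm.comm (⟨(a : G), ha⟩ : Q) ⟨(b : G), hb⟩
      have h2 := congrArg Subtype.val this
      exact h2
    have hcA : Nat.card (Q.subgroupOf T) = Nat.card Q := card_subgroupOf_of_le hQT
    have hcB : Nat.card (K.subgroupOf T) = Nat.card K := card_subgroupOf_of_le hKT
    have hcB' : Nat.card ((MulAut.conj m • K).subgroupOf T) = Nat.card K := by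
      rw [card_subgroupOf_of_le hKmT, card_conj_smul]
    have hcc : Nat.Coprime (Nat.card (Q.subgroupOf T)) (Nat.card (K.subgroupOf T)) := by
      rw [hcA, hcB]; exact hcop
    have hcompl : (Q.subgroupOf T).IsComplement' (K.subgroupOf T) := by
      apply Subgroup.isComplement'_of_disjoint_and_mul_eq_univ
        (Subgroup.disjoint_of_coprime_natCard hcc)
      rw [Set.eq_univ_iff_forall]
      rintro ⟨n, hn⟩
      obtain ⟨t, ht, k, hk, rfl⟩ := hdec n hn
      exact ⟨⟨t, hQT ht⟩, ht, ⟨k, hKT hk⟩, hk, rfl⟩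
    obtain ⟨a, ha, hconj⟩ := conj_of_card_abelian (Q.subgroupOf T) (K.subgroupOf T)
      ((MulAut.conj m • K).subgroupOf T) hcompl.card_mul_card (by rw [hcB', hcB]) hcc
    have hconj2 := conj_of_subgroupOf hKT hKmT a hconj
    refine ⟨a, ha, ?_⟩
    have h3 : MulAut.conj ((a : G)⁻¹ * m) • K = K := by
      rw [conj_mul_smul, ← hconj2, ← conj_mul_smul, inv_mul_cancel]
      simp
    refine mem_normalizer_iff'.mpr ?_
    intro x
    constructor
    · intro hx
      have := conj_mem_conj_smul ((a : G)⁻¹ * m) x K hx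
      rwa [h3] at this
    · intro hx
      rw [← h3, mem_conj_smul_iff] at hx
      have h5 : ((a : G)⁻¹ * m)⁻¹ * (((a : G)⁻¹ * m) * x * ((a : G)⁻¹ * m)⁻¹) * ((a : G)⁻¹ * m) = x := by
        group
      rwa [h5] at hx
  set H : Subgroup G := M ⊓ Subgroup.normalizer (K : Set G) with hH
  have hsup : H ⊔ L = ⊤ := by
    rw [eq_top_iff]
    intro g _
    have hg : g ∈ M ⊔ L := by
      have := Sylow.normalizer_sup_eq_top Q₀
      rw [hM, hQ, this]
      exact Subgroup.mem_top g
    obtain ⟨m, hm, l, hl, rfl⟩ := Subgroup.mem_sup_of_normal_right.mp hg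
    obtain ⟨a, ha, hn⟩ := hfr m hm
    have h1 : m * l = a * ((a⁻¹ * m) * l) := by group
    rw [h1]
    exact Subgroup.mul_mem _ (Subgroup.mem_sup_right (hQL ha)) (Subgroup.mul_mem _
      (Subgroup.mem_sup_left ⟨M.mul_mem (M.inv_mem (Subgroup.le_normalizer ha)) hm, hn⟩)
      (Subgroup.mem_sup_right hl))
  have hinf : H ⊓ L ≤ K := by
    rintro x ⟨⟨hxM, hxN⟩, hxL⟩
    obtain ⟨t, ht, k, hk, rfl⟩ := hdec x ⟨hxL, hxM⟩
    have htN : t ∈ Subgroup.normalizer (K : Set G) := by
      have h1 : t = (t * k) * k⁻¹ := by group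
      rw [h1]
      exact Subgroup.mul_mem _ hxN (Subgroup.inv_mem _ (Subgroup.le_normalizer hk))
    have htC : t ∈ Subgroup.centralizer (K : Set G) := by
      refine Subgroup.mem_centralizer_iff.mpr ?_
      intro k' hk'
      have h1 : t * k' * t⁻¹ ∈ K := (mem_normalizer_iff'.mp htN k').mp hk'
      have h2 : t * k' * t⁻¹ * k'⁻¹ ∈ K := K.mul_mem h1 (K.inv_mem hk')
      have h3 : k' * t⁻¹ * k'⁻¹ ∈ Q :=
        (mem_normalizer_iff'.mp (hKT hk').2 t⁻¹).mp (Q.inv_mem ht)
      have h4 : t * k' * t⁻¹ * k'⁻¹ ∈ Q := by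
        have : t * k' * t⁻¹ * k'⁻¹ = t * (k' * t⁻¹ * k'⁻¹) := by group
        rw [this]
        exact Q.mul_mem ht h3
      have h5 : t * k' * t⁻¹ * k'⁻¹ ∈ Q ⊓ K := ⟨h4, h2⟩
      rw [hdisj, Subgroup.mem_bot] at h5
      have h6 : t * k' = k' * t := by
        have h7 : t * k' * t⁻¹ * k'⁻¹ * (k' * t) = k' * t := by rw [h5, one_mul]
        rw [← h7]; group
      exact h6.symm
    rw [hCQ t ht htC, one_mul]
    exact hk
  have hcop2 : Nat.Coprime p (Nat.card (H ⊓ L : Subgroup G)) :=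
    Nat.Coprime.coprime_dvd_right (Subgroup.card_dvd_of_le hinf) hKcop
  obtain ⟨R, -, hR⟩ := exists_complement_of_sup L isPGroup_quotient_pResidual H hsup hcop2
  exact ⟨R, hR⟩

end Cfsg.Agent.Lib.Transfer.Split
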