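import Cfsg.Agent.Lib.Transfer.Cor4
import Cfsg.Agent.Lib.SolvStruct.Fit
import Cfsg.Prelude.Def_TwoFusion

/-!
# A Frobenius criterion relative to a strongly closed subgroup

* `exists_mul_mem_normalizer`: the Frattini argument at the level of elements.
* `exists_fixed_coset`: a `p`-group acting on a nontrivial section has a nontrivial fixed point.
* `stab`: the stability group of `U ≤ R`.
* `hasNormalPComplement_of_stronglyClosed`: `S3839`.
-/

set_option autoImplicit false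

namespace Cfsg.Agent.Lib.Transfer.StronglyClosed

open Cfsg Cfsg.Agent.Lib.Transfer.Basic Cfsg.Agent.Lib.Transfer.Frobenius
  Cfsg.Agent.Lib.Transfer.Cor4
open scoped Pointwise commutatorElement

universe u

variable {G : Type u} [Group G] [Finite G] {p : ℕ} [hp : Fact p.Prime]

/-- The Frattini argument for a subgroup normalized by `y`. -/
theorem exists_mul_mem_normalizer (B : Subgroup G) (P₀ : Sylow p B) {y : G}
    (hy : y ∈ Subgroup.normalizer (B : Set G)) :
    ∃ b ∈ B, ∃ t ∈ Subgroup.normalizer (((P₀ : Subgroup B).map B.subtype : Subgroup G) : Set G),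
      y = b * t := by
  let α : MulAut B := B.normalizerMonoidHom ⟨y, hy⟩
  obtain ⟨b, hb⟩ := MulAction.exists_smul_eq B (α • P₀) P₀
  refine ⟨(b : G)⁻¹, B.inv_mem b.2, (b : G) * y, ?_, by group⟩
  apply mem_normalizer_of_conj_mem
  rintro _ ⟨x, hx, rfl⟩
  have h1 : α x ∈ (α • P₀ : Sylow p B) := by
    change α x ∈ ((α • P₀ : Sylow p B) : Subgroup B)
    rw [Sylow.pointwise_smul_def]
    exact Subgroup.smul_mem_pointwise_smul x α _ hx
  have h2 : b * α x * b⁻¹ ∈ (P₀ : Subgroup B) := by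
    rw [← hb]
    rw [Sylow.coe_subgroup_smul]
    exact ⟨α x, h1, rfl⟩
  refine ⟨b * α x * b⁻¹, h2, ?_⟩
  have h3 : ((α x : B) : G) = y * x * y⁻¹ := rfl
  simp only [Subgroup.subtype_apply, Subgroup.coe_mul, Subgroup.coe_inv, h3]
  group

/-- A `p`-group acting on a nontrivial section has a nontrivial fixed point. -/
theorem exists_fixed_coset {Q U Y : Subgroup G} (hQ : IsPGroup p Q) (hUY : U ≤ Y) (hYQ : Y ≤ Q)
    (hU : Q ≤ Subgroup.normalizer (U : Set G)) (hY : Q ≤ Subgroup.normalizer (Y : Set G))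
    (hne : ¬ Y ≤ U) : ∃ z ∈ Y, z ∉ U ∧ ∀ q ∈ Q, z * q * z⁻¹ * q⁻¹ ∈ U := by
  haveI hUn : (U.subgroupOf Q).Normal :=
    (Subgroup.normal_subgroupOf_iff_le_normalizer (hUY.trans hYQ)).mpr hU
  haveI hYn : (Y.subgroupOf Q).Normal :=
    (Subgroup.normal_subgroupOf_iff_le_normalizer hYQ).mpr hY
  let π := QuotientGroup.mk' (U.subgroupOf Q)
  have hπ : Function.Surjective π := QuotientGroup.mk'_surjective _
  haveI : (Y.subgroupOf Q ).Normal := hYn
  haveI hYn' : ((Y.subgroupOf Q).map π).Normal := Subgroup.Normal.map hYn π hπ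
  have hq : IsPGroup p (Q ⧸ U.subgroupOf Q) := hQ.to_quotient _
  haveI : Group.IsNilpotent (Q ⧸ U.subgroupOf Q) := hq.isNilpotent
  have hne' : (Y.subgroupOf Q).map π ≠ ⊥ := by
    intro h
    apply hne
    intro w hw
    have h1 : π ⟨w, hYQ hw⟩ ∈ (Y.subgroupOf Q).map π := ⟨⟨w, hYQ hw⟩, hw, rfl⟩
    rw [h, Subgroup.mem_bot, QuotientGroup.mk'_apply, QuotientGroup.eq_one_iff] at h1
    exact h1
  have h1 := Cfsg.Agent.Lib.SolvStruct.Fit.inf_center_ne_bot _ hne'
  obtain ⟨w, hw, hw1⟩ := ((_ : Subgroup _).bot_or_exists_ne_one).resolve_left h1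
  obtain ⟨⟨z, hz, rfl⟩, hwc⟩ := hw
  refine ⟨z, hz, ?_, ?_⟩
  · intro hzU
    apply hw1
    rw [QuotientGroup.mk'_apply, QuotientGroup.eq_one_iff]
    exact hzU
  · intro q hq
    have hc := Subgroup.mem_center_iff.mp hwc (π ⟨q, hq⟩)
    have h2 : π (z * ⟨q, hq⟩ * z⁻¹ * (⟨q, hq⟩ : Q)⁻¹) = 1 := by
      rw [map_mul, map_mul, map_mul, map_inv, map_inv, ← hc]
      group
    rw [QuotientGroup.mk'_apply, QuotientGroup.eq_one_iff] at h2
    exact h2

omit [Finite G] hp in
/-- The stability group of `U ≤ R`: elements normalizing `R`, centralizing `U` and acting trivially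
on `R / U`. -/
def stab (R U : Subgroup G) : Subgroup G where
  carrier := {g | g ∈ Subgroup.normalizer (R : Set G) ∧ (∀ u ∈ U, g * u * g⁻¹ = u) ∧
    ∀ r ∈ R, g * r * g⁻¹ * r⁻¹ ∈ U}
  mul_mem' := by
    rintro g h ⟨hg1, hg2, hg3⟩ ⟨hh1, hh2, hh3⟩
    refine ⟨Subgroup.mul_mem _ hg1 hh1, ?_, ?_⟩
    · intro u hu
      calc g * h * u * (g * h)⁻¹ = g * (h * u * h⁻¹) * g⁻¹ := by group
        _ = u := by rw [hh2 u hu, hg2 u hu]
    · intro r hr
      have h1 := hh3 r hr
      have h2 := hg3 r hr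
      have h3 : g * h * r * (g * h)⁻¹ * r⁻¹ =
          (g * (h * r * h⁻¹ * r⁻¹) * g⁻¹) * (g * r * g⁻¹ * r⁻¹) := by group
      rw [h3, hg2 _ h1]
      exact U.mul_mem h1 h2
  one_mem' := by
    refine ⟨Subgroup.one_mem _, ?_, ?_⟩
    · intro u _
      group
    · intro r _
      have : (1 : G) * r * 1⁻¹ * r⁻¹ = 1 := by group
      rw [this]
      exact U.one_mem
  inv_mem' := by
    rintro g ⟨hg1, hg2, hg3⟩
    refine ⟨Subgroup.inv_mem _ hg1, ?_, ?_⟩
    · intro u hu
      have h1 := hg2 u hu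
      calc g⁻¹ * u * g⁻¹⁻¹ = g⁻¹ * (g * u * g⁻¹) * g⁻¹⁻¹ := by rw [h1]
        _ = u := by group
    · intro r hr
      have hr' : g⁻¹ * r * g⁻¹⁻¹ ∈ R := (mem_normalizer_iff'.mp (Subgroup.inv_mem _ hg1) r).mp hr
      have h1 := hg3 _ hr'
      have h2 : g⁻¹ * r * g⁻¹⁻¹ * r⁻¹ = (g * (g⁻¹ * r * g⁻¹⁻¹) * g⁻¹ * (g⁻¹ * r * g⁻¹⁻¹)⁻¹)⁻¹ := by
        group
      rw [h2]
      exact U.inv_mem h1

omit [Finite G] hp in
theorem mem_stab {R U : Subgroup G} {g : G} : g ∈ stab R U ↔
    g ∈ Subgroup.normalizer (R : Set G) ∧ (∀ u ∈ U, g * u * g⁻¹ = u) ∧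
      ∀ r ∈ R, g * r * g⁻¹ * r⁻¹ ∈ U := Iff.rfl

omit [Finite G] hp in
/-- Elements normalizing `R` and `U` normalize the stability group (in the forward direction). -/
theorem conj_mem_stab {R U : Subgroup G} {g y : G} (hg : g ∈ stab R U)
    (hyR : y ∈ Subgroup.normalizer (R : Set G)) (hyU : y ∈ Subgroup.normalizer (U : Set G)) :
    y * g * y⁻¹ ∈ stab R U := by
  obtain ⟨hg1, hg2, hg3⟩ := hg
  refine ⟨Subgroup.mul_mem _ (Subgroup.mul_mem _ hyR hg1) (Subgroup.inv_mem _ hyR), ?_, ?_⟩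
  · intro u hu
    have hu' : y⁻¹ * u * y⁻¹⁻¹ ∈ U := (mem_normalizer_iff'.mp (Subgroup.inv_mem _ hyU) u).mp hu
    have h1 := hg2 _ hu'
    calc y * g * y⁻¹ * u * (y * g * y⁻¹)⁻¹
        = y * (g * (y⁻¹ * u * y⁻¹⁻¹) * g⁻¹) * y⁻¹ := by group
      _ = y * (y⁻¹ * u * y⁻¹⁻¹) * y⁻¹ := by rw [h1]
      _ = u := by group
  · intro r hr
    have hr' : y⁻¹ * r * y⁻¹⁻¹ ∈ R := (mem_normalizer_iff'.mp (Subgroup.inv_mem _ hyR) r).mp hr
    have h1 := hg3 _ hr'
    have h2 := (mem_normalizer_iff'.mp hyU _).mp h1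
    have h3 : y * g * y⁻¹ * r * (y * g * y⁻¹)⁻¹ * r⁻¹ =
        y * (g * (y⁻¹ * r * y⁻¹⁻¹) * g⁻¹ * (y⁻¹ * r * y⁻¹⁻¹)⁻¹) * y⁻¹ := by group
    rw [h3]
    exact h2

omit [Finite G] hp in
/-- The coset argument: if `y = b * a` with `b ∈ B`, `y ^ n = 1`, `a ^ m = 1`, `n`, `m` coprime,
then `y ∈ B`. -/
theorem mem_of_coset {B : Subgroup G} {y a b : G} (hb : b ∈ B) (hy : y = b * a)
    (hBa : ∀ g ∈ B, a * g * a⁻¹ ∈ B) {n m : ℕ} (hn : y ^ n = 1) (hm : a ^ m = 1)
    (hc : n.Coprime m) : y ∈ B := by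
  have key : ∀ k : ℕ, ∃ b' ∈ B, y ^ k = b' * a ^ k := by
    intro k
    induction k with
    | zero => exact ⟨1, B.one_mem, by simp⟩
    | succ k ih =>
      obtain ⟨b', hb', h1⟩ := ih
      have hconj : ∀ j : ℕ, ∀ g ∈ B, a ^ j * g * (a ^ j)⁻¹ ∈ B := by
        intro j
        induction j with
        | zero => intro g hg; simpa using hg
        | succ j ihj =>
          intro g hg
          have h2 : a ^ (j + 1) * g * (a ^ (j + 1))⁻¹ = a ^ j * (a * g * a⁻¹) * (a ^ j)⁻¹ := by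
            rw [pow_succ]; group
          rw [h2]
          exact ihj _ (hBa g hg)
      refine ⟨b' * (a ^ k * b * (a ^ k)⁻¹), B.mul_mem hb' (hconj k b hb), ?_⟩
      rw [pow_succ, h1, hy, pow_succ]
      group
  obtain ⟨b', hb', h1⟩ := key n
  have h2 : a ^ n ∈ B := by
    rw [hn] at h1
    have h3 : a ^ n = b'⁻¹ := eq_inv_of_mul_eq_one_right h1.symm
    rw [h3]
    exact B.inv_mem hb'
  have h3 : a ∈ B := by
    have hbez : (n : ℤ) * Nat.gcdA n m + (m : ℤ) * Nat.gcdB n m = 1 := by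
      have := Nat.gcd_eq_gcd_ab n m
      rw [hc.gcd_eq_one] at this
      simpa using this.symm
    have h4 : a = (a ^ n) ^ Nat.gcdA n m * (a ^ m) ^ Nat.gcdB n m := by
      rw [← zpow_natCast, ← zpow_mul, ← zpow_natCast a m, ← zpow_mul, ← zpow_add, hbez, zpow_one]
    rw [h4, hm, one_zpow, mul_one]
    exact B.zpow_mem h2 _
  rw [hy]
  exact B.mul_mem hb h3

/-- `y ∈ stab R U` of order prime to `p` with `U` a `p`-group: then `y` centralizes `R`. -/
theorem centralizes_of_mem_stab {R U : Subgroup G} (hU : IsPGroup p U) {y : G} (hy : y ∈ stab R U)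
    (hyc : (orderOf y).Coprime p) : ∀ r ∈ R, y * r * y⁻¹ = r := by
  obtain ⟨-, hy2, hy3⟩ := hy
  intro r hr
  obtain ⟨u, hu⟩ : ∃ u, u = y * r * y⁻¹ * r⁻¹ := ⟨_, rfl⟩
  have huU : u ∈ U := hu ▸ hy3 r hr
  have h1 : y * r * y⁻¹ = u * r := by rw [hu]; group
  have hpow : ∀ n : ℕ, y ^ n * r * (y ^ n)⁻¹ = u ^ n * r := by
    intro n
    induction n with
    | zero => simp
    | succ n ih =>
      have h2 : y * u ^ n * y⁻¹ = u ^ n := by
        rw [← conj_pow, hy2 u huU]
      calc y ^ (n + 1) * r * (y ^ (n + 1))⁻¹ = y * (y ^ n * r * (y ^ n)⁻¹) * y⁻¹ := by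
            rw [pow_succ']; group
        _ = y * (u ^ n * r) * y⁻¹ := by rw [ih]
        _ = (y * u ^ n * y⁻¹) * (y * r * y⁻¹) := by group
        _ = u ^ n * (u * r) := by rw [h2, h1]
        _ = _ := by rw [pow_succ, mul_assoc]
  have h3 := hpow (orderOf y)
  rw [pow_orderOf_eq_one] at h3
  simp only [one_mul, inv_one, mul_one] at h3
  have h4 : u ^ orderOf y = 1 := mul_eq_right.mp h3.symm
  have h5 : u = 1 := by
    apply eq_one_of_coprime_of_mem_isPGroup hU huU
    exact Nat.Coprime.coprime_dvd_left (orderOf_dvd_of_pow_eq_one h4) hyc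
  rw [h1, h5, one_mul]

/-- The hypotheses of the relative Frobenius criterion. -/
structure Good (T : Sylow p G) (D : Subgroup G) : Prop where
  closed : IsStronglyClosed D (T : Subgroup G)
  loc : ∀ U : Subgroup G, U ≤ D → D ⊓ Subgroup.centralizer (U : Set G) ≤ U →
    HasNormalPComplement p ↥(Subgroup.normalizer (U : Set G))

omit [Finite G] hp in
theorem conj_normalizer_conj {U : Subgroup G} {g t : G}
    (ht : t ∈ Subgroup.normalizer (U : Set G)) :
    g * t * g⁻¹ ∈ Subgroup.normalizer ((U.map (MulAut.conj g).toMonoidHom : Subgroup G) : Set G) := by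
  rw [mem_normalizer_iff']
  intro x
  have hmem : ∀ z, z ∈ U.map (MulAut.conj g).toMonoidHom ↔ g⁻¹ * z * g ∈ U := by
    intro z
    constructor
    · rintro ⟨w, hw, rfl⟩
      have : g⁻¹ * ((MulAut.conj g).toMonoidHom w) * g = w := by
        simp only [MulEquiv.coe_toMonoidHom, MulAut.conj_apply]
        group
      rw [this]
      exact hw
    · intro h
      refine ⟨_, h, ?_⟩
      simp only [MulEquiv.coe_toMonoidHom, MulAut.conj_apply]
      group
  rw [hmem, hmem, mem_normalizer_iff'.mp ht (g⁻¹ * x * g)]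
  have : t * (g⁻¹ * x * g) * t⁻¹ = g⁻¹ * (g * t * g⁻¹ * x * (g * t * g⁻¹)⁻¹) * g := by group
  rw [this]

theorem Good.conj {T : Sylow p G} {D : Subgroup G} (h : Good T D) (g : G) :
    Good (g • T) (D.map (MulAut.conj g).toMonoidHom) := by
  have hmem : ∀ (A : Subgroup G) (z : G), z ∈ A.map (MulAut.conj g).toMonoidHom ↔ g⁻¹ * z * g ∈ A := by
    intro A z
    constructor
    · rintro ⟨w, hw, rfl⟩
      have : g⁻¹ * ((MulAut.conj g).toMonoidHom w) * g = w := by
        simp only [MulEquiv.coe_toMonoidHom, MulAut.conj_apply]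
        group
      rw [this]
      exact hw
    · intro h
      refine ⟨_, h, ?_⟩
      simp only [MulEquiv.coe_toMonoidHom, MulAut.conj_apply]
      group
  refine ⟨⟨?_, ?_⟩, ?_⟩
  · intro x hx
    rw [hmem] at hx
    exact (mem_smul_sylow_iff g x T).mpr (h.closed.1 hx)
  · intro x hx t ht
    rw [hmem] at hx ⊢
    have ht' := (mem_smul_sylow_iff g _ T).mp ht
    have h1 := h.closed.2 _ hx (g⁻¹ * t * g) (by
      have : g⁻¹ * t * g * (g⁻¹ * x * g) * (g⁻¹ * t * g)⁻¹ = g⁻¹ * (t * x * t⁻¹) * g := by group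
      rw [this]
      exact ht')
    have : g⁻¹ * t * g * (g⁻¹ * x * g) * (g⁻¹ * t * g)⁻¹ = g⁻¹ * (t * x * t⁻¹) * g := by group
    rwa [this] at h1
  · intro U hU hC
    -- transport `U` back
    let U₀ : Subgroup G := U.map (MulAut.conj g⁻¹).toMonoidHom
    have hU₀mem : ∀ z, z ∈ U₀ ↔ g * z * g⁻¹ ∈ U := by
      intro z
      constructor
      · rintro ⟨w, hw, rfl⟩
        have : g * ((MulAut.conj g⁻¹).toMonoidHom w) * g⁻¹ = w := by
          simp only [MulEquiv.coe_toMonoidHom, MulAut.conj_apply]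
          group
        rw [this]
        exact hw
      · intro h'
        refine ⟨_, h', ?_⟩
        simp only [MulEquiv.coe_toMonoidHom, MulAut.conj_apply]
        group
    have hU₀ : U₀ ≤ D := by
      intro z hz
      have h1 := hU ((hU₀mem z).mp hz)
      rw [hmem] at h1
      have : g⁻¹ * (g * z * g⁻¹) * g = z := by group
      rwa [this] at h1
    have hC₀ : D ⊓ Subgroup.centralizer (U₀ : Set G) ≤ U₀ := by
      rintro z ⟨hz1, hz2⟩
      rw [hU₀mem]
      apply hC
      refine ⟨?_, ?_⟩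
      · refine (hmem D _).mpr ?_
        have : g⁻¹ * (g * z * g⁻¹) * g = z := by group
        rwa [this]
      · refine Subgroup.mem_centralizer_iff.mpr ?_
        intro w hw
        have hw' : g⁻¹ * w * g ∈ U₀ := by
          rw [hU₀mem]
          have : g * (g⁻¹ * w * g) * g⁻¹ = w := by group
          rwa [this]
        have h2 := Subgroup.mem_centralizer_iff.mp hz2 _ hw'
        calc w * (g * z * g⁻¹) = g * ((g⁻¹ * w * g) * z) * g⁻¹ := by group
          _ = g * (z * (g⁻¹ * w * g)) * g⁻¹ := by rw [h2]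
          _ = _ := by group
    have hloc := h.loc U₀ hU₀ hC₀
    -- the homomorphism `N(U) → N(U₀)`
    have hU₁ : U₀.map (MulAut.conj g).toMonoidHom = U := by
      ext z
      rw [hmem, hU₀mem]
      have : g * (g⁻¹ * z * g) * g⁻¹ = z := by group
      rw [this]
    let f : ↥(Subgroup.normalizer (U : Set G)) →* ↥(Subgroup.normalizer (U₀ : Set G)) :=
      ((MulAut.conj g⁻¹).toMonoidHom.comp (Subgroup.normalizer (U : Set G)).subtype).codRestrict _
        (fun t => conj_normalizer_conj (U := U) (g := g⁻¹) t.2)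
    refine hasNormalPComplement_of_injective f ?_ hloc
    intro a b hab
    have h1 := congrArg Subtype.val hab
    apply Subtype.ext
    simpa [f] using h1

/-- In a `p`-nilpotent subgroup `K`, a `p'`-element normalizing a `p`-subgroup centralizes it. -/
theorem conj_eq_of_hasNormalPComplement_subgroup {K R : Subgroup G}
    (hK : HasNormalPComplement p K) (hRK : R ≤ K) (hRp : IsPGroup p R) {y : G} (hyK : y ∈ K)
    (hyR : y ∈ Subgroup.normalizer (R : Set G)) (hyc : (orderOf y).Coprime p) :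
    ∀ r ∈ R, y * r * y⁻¹ = r := by
  have hF := frobeniusCond_of_hasNormalPComplement hK
  have h1 : IsPGroup p (R.subgroupOf K) := hRp.comap_of_injective K.subtype K.subtype_injective
  have h2 : (⟨y, hyK⟩ : K) ∈ Subgroup.normalizer ((R.subgroupOf K : Subgroup K) : Set K) := by
    rw [mem_normalizer_iff']
    intro x
    rw [Subgroup.mem_subgroupOf, Subgroup.mem_subgroupOf]
    exact mem_normalizer_iff'.mp hyR x
  have h3 := hF _ h1 _ h2 (by rwa [Subgroup.orderOf_mk])
  rw [mem_centralizer_iff'] at h3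
  intro r hr
  have h4 := h3 ⟨r, hRK hr⟩ hr
  exact congrArg Subtype.val h4

omit [Finite G] hp in
theorem sup_mem_normalizer [Finite G] {A A' : Subgroup G} {t : G} (h1 : t ∈ Subgroup.normalizer (A : Set G))
    (h2 : t ∈ Subgroup.normalizer (A' : Set G)) :
    t ∈ Subgroup.normalizer ((A ⊔ A' : Subgroup G) : Set G) := by
  apply mem_normalizer_of_conj_mem
  have : A ⊔ A' ≤ (A ⊔ A').comap (MulAut.conj t).toMonoidHom := by
    refine sup_le ?_ ?_
    · intro x hx
      exact (le_sup_left : A ≤ A ⊔ A') ((mem_normalizer_iff'.mp h1 x).mp hx)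
    · intro x hx
      exact (le_sup_right : A' ≤ A ⊔ A') ((mem_normalizer_iff'.mp h2 x).mp hx)
  intro x hx
  exact this hx

/-- The main step of the relative Frobenius criterion. -/
theorem step (m : ℕ)
    (IH : ∀ (T : Sylow p G) (D : Subgroup G), Good T D → ∀ R : Subgroup G, R ≤ (T : Subgroup G) →
      Nat.card G - Nat.card (R ⊓ D : Subgroup G) < m → ∀ y ∈ Subgroup.normalizer (R : Set G),
      (orderOf y).Coprime p → ∀ r ∈ R, y * r * y⁻¹ = r)
    (T : Sylow p G) (D : Subgroup G) (h : Good T D) (R : Subgroup G) (hR : R ≤ (T : Subgroup G))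
    (U : Subgroup G) (hUR : R ⊓ D = U) (hm : Nat.card G - Nat.card U = m)
    (P₀ : Sylow p (stab R U))
    (hP₀ : (P₀ : Subgroup (stab R U)).map (stab R U).subtype ≤ (T : Subgroup G))
    (y : G) (hy : y ∈ Subgroup.normalizer (R : Set G)) (hyc : (orderOf y).Coprime p) :
    ∀ r ∈ R, y * r * y⁻¹ = r := by
  have hDT : D ≤ (T : Subgroup G) := h.closed.1
  have hcl := h.closed.2
  have hUmem : ∀ x, x ∈ U ↔ x ∈ R ∧ x ∈ D := by
    intro x
    rw [← hUR]
    exact Subgroup.mem_inf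
  have hUR' : U ≤ R := fun x hx => ((hUmem x).mp hx).1
  have hUD : U ≤ D := fun x hx => ((hUmem x).mp hx).2
  have hUp : IsPGroup p U := T.isPGroup'.to_le (hUD.trans hDT)
  have hRp : IsPGroup p R := T.isPGroup'.to_le hR
  have hnormU : ∀ t ∈ Subgroup.normalizer (R : Set G), t ∈ Subgroup.normalizer (U : Set G) := by
    intro t ht
    apply mem_normalizer_of_conj_mem
    intro u hu
    obtain ⟨hu1, hu2⟩ := (hUmem u).mp hu
    have h1 := (mem_normalizer_iff'.mp ht u).mp hu1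
    exact (hUmem _).mpr ⟨h1, hcl u hu2 t (hR h1)⟩
  have hyU := hnormU y hy
  have hRleN : R ≤ Subgroup.normalizer (U : Set G) := fun r hr => hnormU r (Subgroup.le_normalizer hr)
  by_cases hc : D ⊓ Subgroup.centralizer (U : Set G) ≤ U
  · have hloc := h.loc U hUD hc
    exact conj_eq_of_hasNormalPComplement_subgroup hloc hRleN hRp hyU hy hyc
  -- the fixed coset
  let Y : Subgroup G := D ⊓ Subgroup.centralizer (U : Set G)
  have hYmem : ∀ x, x ∈ Y ↔ x ∈ D ∧ ∀ u ∈ U, x * u * x⁻¹ = u := by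
    intro x
    change x ∈ D ⊓ Subgroup.centralizer (U : Set G) ↔ _
    rw [Subgroup.mem_inf, mem_centralizer_iff']
  have hYT : Y ≤ (T : Subgroup G) := inf_le_left.trans hDT
  have hYleNU : Y ≤ Subgroup.normalizer (U : Set G) := by
    intro w hw
    apply mem_normalizer_of_conj_mem
    intro u hu
    rw [((hYmem w).mp hw).2 u hu]
    exact hu
  have hRleNY : R ≤ Subgroup.normalizer (Y : Set G) := by
    intro r hr
    apply mem_normalizer_of_conj_mem
    intro w hw
    obtain ⟨hw1, hw2⟩ := (hYmem w).mp hw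
    refine (hYmem _).mpr ⟨hcl w hw1 r ?_, ?_⟩
    · exact (T : Subgroup G).mul_mem ((T : Subgroup G).mul_mem (hR hr) (hDT hw1))
        ((T : Subgroup G).inv_mem (hR hr))
    · intro u hu
      have hu' : r⁻¹ * u * r⁻¹⁻¹ ∈ U :=
        (mem_normalizer_iff'.mp (Subgroup.inv_mem _ (hRleN hr)) u).mp hu
      have h1 := hw2 _ hu'
      calc r * w * r⁻¹ * u * (r * w * r⁻¹)⁻¹ = r * (w * (r⁻¹ * u * r⁻¹⁻¹) * w⁻¹) * r⁻¹ := by group
        _ = r * (r⁻¹ * u * r⁻¹⁻¹) * r⁻¹ := by rw [h1]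
        _ = u := by group
  let Q : Subgroup G := R ⊔ Y
  have hQT : Q ≤ (T : Subgroup G) := sup_le hR hYT
  have hQNU : Q ≤ Subgroup.normalizer (U : Set G) := sup_le hRleN hYleNU
  have hQNY : Q ≤ Subgroup.normalizer (Y : Set G) := sup_le hRleNY Subgroup.le_normalizer
  have hQNU₀ : Q ≤ Subgroup.normalizer ((U ⊓ Y : Subgroup G) : Set G) := by
    intro q hq
    apply mem_normalizer_of_conj_mem
    rintro x ⟨hx1, hx2⟩
    exact ⟨(mem_normalizer_iff'.mp (hQNU hq) x).mp hx1, (mem_normalizer_iff'.mp (hQNY hq) x).mp hx2⟩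
  obtain ⟨z, hzY, hzU₀, hzq⟩ := exists_fixed_coset (U := U ⊓ Y) (Y := Y) (Q := Q)
    (T.isPGroup'.to_le hQT) inf_le_right le_sup_right hQNU₀ hQNY
    (fun hle => hc (hle.trans inf_le_left))
  obtain ⟨hzD, hzc⟩ := (hYmem z).mp hzY
  have hzU : z ∉ U := fun hzU => hzU₀ ⟨hzU, hzY⟩
  have hzB : z ∈ stab R U := by
    refine ⟨?_, hzc, ?_⟩
    · apply mem_normalizer_of_conj_mem
      intro r hr
      have h1 := hzq r (le_sup_left (a := R) hr)
      have h2 : z * r * z⁻¹ = (z * r * z⁻¹ * r⁻¹) * r := by group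
      rw [h2]
      exact R.mul_mem (hUR' h1.1) hr
    · intro r hr
      exact (hzq r (le_sup_left (a := R) hr)).1
  let B : Subgroup G := stab R U
  let B₀ : Subgroup G := (P₀ : Subgroup B).map B.subtype
  have hzB₀ : z ∈ B₀ := by
    have h1 : IsPGroup p ((T : Subgroup G).subgroupOf B) :=
      T.isPGroup'.comap_of_injective B.subtype B.subtype_injective
    have h2 : (P₀ : Subgroup B) ≤ (T : Subgroup G).subgroupOf B := by
      intro x hx
      exact hP₀ ⟨x, hx, rfl⟩
    have h3 := P₀.is_maximal' h1 h2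
    refine ⟨⟨z, hzB⟩, ?_, rfl⟩
    have h4 : (⟨z, hzB⟩ : B) ∈ (T : Subgroup G).subgroupOf B := hDT hzD
    rw [h3] at h4
    exact h4
  -- Frattini
  have hyB : y ∈ Subgroup.normalizer (B : Set G) := by
    apply mem_normalizer_of_conj_mem
    intro g hg
    exact conj_mem_stab hg hy hyU
  obtain ⟨b, hbB, t, ht, hyt⟩ := exists_mul_mem_normalizer B P₀ hyB
  have hbN : b ∈ Subgroup.normalizer (R : Set G) := hbB.1
  have htR : t ∈ Subgroup.normalizer (R : Set G) := by
    have : t = b⁻¹ * y := by rw [hyt]; group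
    rw [this]
    exact Subgroup.mul_mem _ (Subgroup.inv_mem _ hbN) hy
  have htU := hnormU t htR
  let E : Subgroup G := D ⊓ B₀
  have htE : t ∈ Subgroup.normalizer (E : Set G) := by
    apply mem_normalizer_of_conj_mem
    rintro e ⟨he1, he2⟩
    have h1 : t * e * t⁻¹ ∈ B₀ := (mem_normalizer_iff'.mp ht e).mp he2
    exact ⟨hcl e he1 t (hP₀ h1), h1⟩
  let V : Subgroup G := U ⊔ E
  have htV : t ∈ Subgroup.normalizer (V : Set G) := sup_mem_normalizer htU htE
  have hVD : V ≤ D := sup_le hUD inf_le_left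
  have hUV : U < V := by
    refine lt_of_le_of_ne le_sup_left ?_
    intro heq
    apply hzU
    rw [heq]
    exact (le_sup_right : E ≤ V) ⟨hzD, hzB₀⟩
  obtain ⟨a, c, hac, hcomm, ⟨k, hk⟩, hcc, ha, hc'⟩ :=
    Cfsg.Agent.Lib.Core.Residual.exists_pPart_pPrimePart p t (isOfFinOrder_of_finite t)
  have hle : ∀ (A : Subgroup G), t ∈ A → Subgroup.zpowers t ≤ A := fun A hA => Subgroup.zpowers_le.2 hA
  have hcR := hle _ htR hc'
  have hcV := hle _ htV hc'
  have haR := hle _ htR ha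
  have haU := hle _ htU ha
  let R₂ : Subgroup G := R ⊔ V
  have hR₂T : R₂ ≤ (T : Subgroup G) := sup_le hR (hVD.trans hDT)
  have hcR₂ : c ∈ Subgroup.normalizer (R₂ : Set G) := sup_mem_normalizer hcR hcV
  have hlt : Nat.card G - Nat.card (R₂ ⊓ D : Subgroup G) < m := by
    have h1 : U < R₂ ⊓ D := lt_of_lt_of_le hUV (le_inf le_sup_right hVD)
    have h2 := card_lt_card_of_lt h1
    have h3 : Nat.card (R₂ ⊓ D : Subgroup G) ≤ Nat.card G := Subgroup.card_le_card_group _
    omega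
  have hcfix := IH T D h R₂ hR₂T hlt c hcR₂ hcc
  have hcB : c ∈ B := by
    refine ⟨hcR, ?_, ?_⟩
    · intro u hu
      exact hcfix u ((le_sup_left : R ≤ R₂) (hUR' hu))
    · intro r hr
      rw [hcfix r ((le_sup_left : R ≤ R₂) hr), mul_inv_cancel]
      exact U.one_mem
  have hyB' : y ∈ B := by
    have hBa : ∀ g ∈ B, a * g * a⁻¹ ∈ B := fun g hg => conj_mem_stab hg haR haU
    refine mem_of_coset (a := a) (b := b * (a * c * a⁻¹)) (B.mul_mem hbB (hBa c hcB)) ?_ hBa
      (pow_orderOf_eq_one y) hk (Nat.Coprime.pow_right k hyc)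
    rw [hyt, ← hac]
    group
  exact centralizes_of_mem_stab hUp hyB' hyc

omit [Finite G] hp in
/-- `R ⊓ D` doesn't change when passing to a conjugate of `T` still containing `R`. -/
theorem inf_conj_eq {T D R : Subgroup G} (hcl : IsStronglyClosed D T) (hR : R ≤ T) (g : G)
    (hRg : ∀ r ∈ R, g⁻¹ * r * g ∈ T) :
    R ⊓ D.map (MulAut.conj g).toMonoidHom = R ⊓ D := by
  ext x
  simp only [Subgroup.mem_inf]
  apply and_congr_right
  intro hx
  constructor
  · rintro ⟨d, hd, rfl⟩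
    exact hcl.2 d hd g (hR hx)
  · intro hxD
    refine ⟨g⁻¹ * x * g, ?_, ?_⟩
    · have := hcl.2 x hxD g⁻¹ (by simpa using hRg x hx)
      simpa using this
    · simp only [MulEquiv.coe_toMonoidHom, MulAut.conj_apply]
      group

/-- The relative Frobenius condition. -/
theorem centralizes_of_good (m : ℕ) : ∀ (T : Sylow p G) (D : Subgroup G), Good T D →
    ∀ R : Subgroup G, R ≤ (T : Subgroup G) → Nat.card G - Nat.card (R ⊓ D : Subgroup G) = m →
    ∀ y ∈ Subgroup.normalizer (R : Set G), (orderOf y).Coprime p → ∀ r ∈ R, y * r * y⁻¹ = r := by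
  induction m using Nat.strong_induction_on with
  | _ m ih =>
  intro T D h R hR hm y hy hyc
  have IH : ∀ (T : Sylow p G) (D : Subgroup G), Good T D → ∀ R : Subgroup G,
      R ≤ (T : Subgroup G) → Nat.card G - Nat.card (R ⊓ D : Subgroup G) < m →
      ∀ y ∈ Subgroup.normalizer (R : Set G), (orderOf y).Coprime p → ∀ r ∈ R, y * r * y⁻¹ = r :=
    fun T D h R hR hlt => ih _ hlt T D h R hR rfl
  let U : Subgroup G := R ⊓ D
  obtain ⟨P₀⟩ : Nonempty (Sylow p (stab R U)) := inferInstance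
  let B₀ : Subgroup G := (P₀ : Subgroup (stab R U)).map (stab R U).subtype
  have hB₀p : IsPGroup p B₀ := P₀.isPGroup'.map _
  have hRp : IsPGroup p R := T.isPGroup'.to_le hR
  have hB₀N : B₀ ≤ Subgroup.normalizer (R : Set G) := by
    rintro _ ⟨x, -, rfl⟩
    exact x.2.1
  have hsup : IsPGroup p (R ⊔ B₀ : Subgroup G) := hRp.to_sup_of_normal_left' hB₀p hB₀N
  obtain ⟨T₁, hT₁⟩ := hsup.exists_le_sylow
  obtain ⟨g, rfl⟩ := MulAction.exists_smul_eq G T T₁
  have hgood := h.conj g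
  have hR₁ : R ≤ ((g • T : Sylow p G) : Subgroup G) := le_sup_left.trans hT₁
  have hUeq : R ⊓ D.map (MulAut.conj g).toMonoidHom = U := by
    apply inf_conj_eq h.closed hR g
    intro r hr
    exact (mem_smul_sylow_iff g r T).mp (hR₁ hr)
  exact step m IH (g • T) _ hgood R hR₁ U hUeq hm P₀ (le_sup_right.trans hT₁) y hy hyc

/-- `S3839`. -/
theorem hasNormalPComplement_iff_of_stronglyClosed (S : Sylow p G) (D : Subgroup G)
    (hD : IsStronglyClosed D (S : Subgroup G)) :
    HasNormalPComplement p G ↔ ∀ U : Subgroup G, U ≤ D →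
      D ⊓ Subgroup.centralizer (U : Set G) ≤ U →
      HasNormalPComplement p ↥(Subgroup.normalizer (U : Set G)) := by
  constructor
  · intro h U _ _
    exact hasNormalPComplement_subgroup h _
  · intro h
    have hgood : Good S D := ⟨hD, h⟩
    apply hasNormalPComplement_of_frobeniusCond
    apply frobeniusCond_of_sylow S
    intro Q hQ g hg hco
    rw [mem_centralizer_iff']
    exact centralizes_of_good _ S D hgood Q hQ rfl g hg hco

end Cfsg.Agent.Lib.Transfer.StronglyClosed
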